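import Cfsg.Prelude.Def_RootSubgroups

/-! Basic API for `Cfsg.conjBy` (conjugates of subgroups) and the elementwise-commuting relation
`Comm A B` between subgroups. -/

namespace Cfsg.Agent.Root
open Cfsg

variable {G : Type*} [Group G]

theorem mem_conjBy {A : Subgroup G} {g x : G} : x ∈ conjBy A g ↔ g⁻¹ * x * g ∈ A := by
  constructor
  · rintro ⟨a, ha, rfl⟩; simpa [mul_assoc] using ha
  · intro h; exact ⟨_, h, by simp [mul_assoc]⟩

theorem mem_conjBy' {A : Subgroup G} {g x : G} : x ∈ conjBy A g ↔ ∃ a ∈ A, g * a * g⁻¹ = x := by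
  constructor
  · rintro ⟨a, ha, rfl⟩; exact ⟨a, ha, rfl⟩
  · rintro ⟨a, ha, rfl⟩; exact ⟨a, ha, rfl⟩

theorem conj_mem_conjBy {A : Subgroup G} {a : G} (g : G) (ha : a ∈ A) :
    g * a * g⁻¹ ∈ conjBy A g := mem_conjBy'.2 ⟨a, ha, rfl⟩

@[simp] theorem conjBy_conjBy (A : Subgroup G) (g h : G) :
    conjBy (conjBy A g) h = conjBy A (h * g) := by
  ext x; simp only [mem_conjBy, mul_inv_rev, mul_assoc]

@[simp] theorem conjBy_one (A : Subgroup G) : conjBy A 1 = A := by
  ext x; simp only [mem_conjBy, inv_one, one_mul, mul_one]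

theorem conjBy_eq_iff_mem_normalizer {A : Subgroup G} {g : G} :
    conjBy A g = A ↔ g ∈ Subgroup.normalizer (A : Set G) := by
  rw [Subgroup.mem_normalizer_iff'']
  constructor
  · intro h x
    have : x ∈ conjBy A g ↔ x ∈ A := by rw [h]
    rw [mem_conjBy] at this; exact this.symm
  · intro h; ext x; rw [mem_conjBy]; exact (h x).symm

theorem conjBy_of_mem {A : Subgroup G} {g : G} (h : g ∈ A) : conjBy A g = A :=
  conjBy_eq_iff_mem_normalizer.2 (Subgroup.le_normalizer h)

theorem conjBy_mul_of_mem {A : Subgroup G} {g : G} (x : G) (h : g ∈ A) :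
    conjBy A (x * g) = conjBy A x := by
  rw [← conjBy_conjBy, conjBy_of_mem h]

theorem conjBy_mul_of_eq {A : Subgroup G} {g : G} (x : G) (h : conjBy A g = A) :
    conjBy A (x * g) = conjBy A x := by
  rw [← conjBy_conjBy, h]

theorem conjBy_inv_of_eq {A B : Subgroup G} {g : G} (h : conjBy A g = B) : conjBy B g⁻¹ = A := by
  rw [← h, conjBy_conjBy, inv_mul_cancel, conjBy_one]

theorem conjBy_injective (g : G) : Function.Injective (fun A : Subgroup G => conjBy A g) := by
  intro A B h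
  have := congrArg (fun C => conjBy C g⁻¹) h
  simpa using this

theorem conjBy_inj {A B : Subgroup G} {g : G} : conjBy A g = conjBy B g ↔ A = B :=
  (conjBy_injective g).eq_iff

theorem conjBy_eq_conjBy_iff {A B : Subgroup G} {g h : G} :
    conjBy A g = conjBy B h ↔ conjBy A (h⁻¹ * g) = B := by
  constructor
  · intro e; rw [← conjBy_conjBy, e, conjBy_conjBy, inv_mul_cancel, conjBy_one]
  · intro e; rw [← e, conjBy_conjBy, mul_inv_cancel_left]

theorem conjBy_mono {A B : Subgroup G} (g : G) (h : A ≤ B) : conjBy A g ≤ conjBy B g :=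
  Subgroup.map_mono h

theorem conjBy_le_conjBy_iff {A B : Subgroup G} {g : G} : conjBy A g ≤ conjBy B g ↔ A ≤ B := by
  refine ⟨fun h => ?_, conjBy_mono g⟩
  simpa using conjBy_mono g⁻¹ h

theorem conjBy_sup (A B : Subgroup G) (g : G) : conjBy (A ⊔ B) g = conjBy A g ⊔ conjBy B g :=
  Subgroup.map_sup _ _ _

theorem conjBy_inf (A B : Subgroup G) (g : G) : conjBy (A ⊓ B) g = conjBy A g ⊓ conjBy B g := by
  ext x; simp only [mem_conjBy, Subgroup.mem_inf]

theorem conjBy_commutator (A B : Subgroup G) (g : G) :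
    conjBy ⁅A, B⁆ g = ⁅conjBy A g, conjBy B g⁆ := Subgroup.map_commutator _ _ _

@[simp] theorem conjBy_bot (g : G) : conjBy (⊥ : Subgroup G) g = ⊥ := Subgroup.map_bot _

@[simp] theorem conjBy_top (g : G) : conjBy (⊤ : Subgroup G) g = ⊤ := by
  ext x; simp only [mem_conjBy, Subgroup.mem_top]

theorem conjBy_eq_bot_iff {A : Subgroup G} {g : G} : conjBy A g = ⊥ ↔ A = ⊥ := by
  constructor
  · intro h; simpa using congrArg (fun C => conjBy C g⁻¹) h
  · rintro rfl; simp

theorem conjBy_le_of_mem {A H : Subgroup G} {g : G} (hA : A ≤ H) (hg : g ∈ H) :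
    conjBy A g ≤ H := by
  have := conjBy_mono g hA
  rwa [conjBy_of_mem hg] at this

theorem conjBy_le_iff {A H : Subgroup G} {g : G} :
    conjBy A g ≤ H ↔ ∀ a ∈ A, g * a * g⁻¹ ∈ H := by
  constructor
  · intro h a ha; exact h (conj_mem_conjBy g ha)
  · intro h x hx; obtain ⟨a, ha, rfl⟩ := mem_conjBy'.1 hx; exact h a ha

theorem conjBy_eq_of_comm {A : Subgroup G} {g : G} (h : ∀ a ∈ A, g * a = a * g) :
    conjBy A g = A := by
  ext x
  rw [mem_conjBy']
  constructor
  · rintro ⟨a, ha, rfl⟩; rwa [h a ha, mul_inv_cancel_right]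
  · intro hx; exact ⟨x, hx, by rw [h x hx, mul_inv_cancel_right]⟩

theorem conjBy_eq_of_le_of_le {A : Subgroup G} {g : G} (h1 : conjBy A g ≤ A)
    (h2 : conjBy A g⁻¹ ≤ A) : conjBy A g = A := by
  refine le_antisymm h1 ?_
  simpa using conjBy_mono g h2

theorem map_conjBy {H : Type*} [Group H] (f : G →* H) (A : Subgroup G) (g : G) :
    (conjBy A g).map f = conjBy (A.map f) (f g) := by
  ext x
  simp only [Subgroup.mem_map]
  constructor
  · rintro ⟨_, ⟨a, ha, rfl⟩, rfl⟩; exact ⟨f a, ⟨a, ha, rfl⟩, by simp⟩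
  · rintro ⟨_, ⟨a, ha, rfl⟩, rfl⟩; exact ⟨_, ⟨a, ha, rfl⟩, by simp⟩

/-- The isomorphism of a subgroup with a conjugate. -/
noncomputable def conjByEquiv (A : Subgroup G) (g : G) : A ≃* conjBy A g :=
  A.equivMapOfInjective _ (MulAut.conj g).injective

theorem isMulCommutative_iff {A : Subgroup G} :
    IsMulCommutative A ↔ ∀ a ∈ A, ∀ b ∈ A, a * b = b * a := by
  constructor
  · intro h a ha b hb
    exact congrArg Subtype.val (h.is_comm.comm (⟨a, ha⟩ : A) ⟨b, hb⟩)
  · intro h; exact ⟨⟨fun a b => Subtype.ext (h a a.2 b b.2)⟩⟩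

theorem isNilpotent_of_isMulCommutative {H : Type*} [Group H] (h : IsMulCommutative H) :
    Group.IsNilpotent H :=
  ⟨⟨1, Subgroup.upperCentralSeries_one_eq_top_iff.2 h⟩⟩

/-- Two subgroups commute elementwise. -/
def Comm (A B : Subgroup G) : Prop := ∀ a ∈ A, ∀ b ∈ B, a * b = b * a

theorem comm_iff {A B : Subgroup G} : ⁅A, B⁆ = ⊥ ↔ Comm A B := by
  rw [eq_bot_iff, Subgroup.commutator_le]
  simp only [Subgroup.mem_bot, commutatorElement_eq_one_iff_mul_comm, Comm]

theorem comm_iff_le_centralizer {A B : Subgroup G} :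
    Comm A B ↔ A ≤ Subgroup.centralizer (B : Set G) := by
  rw [← comm_iff, Subgroup.commutator_eq_bot_iff_le_centralizer]

theorem comm_self_iff {A : Subgroup G} : Comm A A ↔ IsMulCommutative A :=
  isMulCommutative_iff.symm

theorem Comm.symm {A B : Subgroup G} (h : Comm A B) : Comm B A :=
  fun b hb a ha => (h a ha b hb).symm

theorem comm_comm {A B : Subgroup G} : Comm A B ↔ Comm B A := ⟨Comm.symm, Comm.symm⟩

theorem Comm.mono {A B A' B' : Subgroup G} (h : Comm A B) (hA : A' ≤ A) (hB : B' ≤ B) :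
    Comm A' B' := fun a ha b hb => h a (hA ha) b (hB hb)

theorem Comm.sup_left {A B C : Subgroup G} (h : Comm A C) (h' : Comm B C) : Comm (A ⊔ B) C :=
  comm_iff_le_centralizer.2
    (sup_le (comm_iff_le_centralizer.1 h) (comm_iff_le_centralizer.1 h'))

theorem Comm.sup_right {A B C : Subgroup G} (h : Comm C A) (h' : Comm C B) : Comm C (A ⊔ B) :=
  (h.symm.sup_left h'.symm).symm

theorem Comm.conj {A B : Subgroup G} (h : Comm A B) (g : G) :
    Comm (conjBy A g) (conjBy B g) := by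
  intro a ha b hb
  obtain ⟨a, ha', rfl⟩ := mem_conjBy'.1 ha
  obtain ⟨b, hb', rfl⟩ := mem_conjBy'.1 hb
  calc g * a * g⁻¹ * (g * b * g⁻¹) = g * (a * b) * g⁻¹ := by group
    _ = g * (b * a) * g⁻¹ := by rw [h a ha' b hb']
    _ = _ := by group

theorem comm_conj_iff {A B : Subgroup G} {g : G} : Comm (conjBy A g) (conjBy B g) ↔ Comm A B :=
  ⟨fun h => by simpa using h.conj g⁻¹, fun h => h.conj g⟩

theorem Comm.conjBy_eq {A B : Subgroup G} (h : Comm A B) {a : G} (ha : a ∈ A) :
    conjBy B a = B := conjBy_eq_of_comm (h a ha)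

theorem Comm.conjBy_eq' {A B : Subgroup G} (h : Comm A B) {b : G} (hb : b ∈ B) :
    conjBy A b = A := h.symm.conjBy_eq hb

/-- An element commuting with two subgroups commutes with their join. -/
theorem comm_sup_elem {A B : Subgroup G} {z : G} (hA : ∀ a ∈ A, z * a = a * z)
    (hB : ∀ b ∈ B, z * b = b * z) : ∀ x ∈ A ⊔ B, z * x = x * z := by
  have : A ⊔ B ≤ Subgroup.centralizer {z} :=
    sup_le (fun a ha => Subgroup.mem_centralizer_singleton_iff.2 (hA a ha).symm)
      (fun a ha => Subgroup.mem_centralizer_singleton_iff.2 (hB a ha).symm)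
  intro x hx
  exact (Subgroup.mem_centralizer_singleton_iff.1 (this hx)).symm

theorem comm_iSup_elem {S : Set (Subgroup G)} {z : G} (h : ∀ A ∈ S, ∀ a ∈ A, z * a = a * z) :
    ∀ x ∈ (⨆ A ∈ S, A), z * x = x * z := by
  have : (⨆ A ∈ S, A) ≤ Subgroup.centralizer {z} :=
    iSup₂_le fun A hA a ha => Subgroup.mem_centralizer_singleton_iff.2 (h A hA a ha).symm
  intro x hx
  exact (Subgroup.mem_centralizer_singleton_iff.1 (this hx)).symm

/-- elements of `A ⊔ B` are products when `B` normalizes `A`. -/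
theorem mem_sup_of_norm_right {A B : Subgroup G} (h : ∀ b ∈ B, conjBy A b = A) {x : G} :
    x ∈ A ⊔ B ↔ ∃ a ∈ A, ∃ b ∈ B, a * b = x := by
  have := Subgroup.coe_mul_of_right_le_normalizer_left A B
    (fun b hb => conjBy_eq_iff_mem_normalizer.1 (h b hb))
  rw [← SetLike.mem_coe, this]; rfl

/-- elements of `A ⊔ B` are products when `A` normalizes `B`. -/
theorem mem_sup_of_norm_left {A B : Subgroup G} (h : ∀ a ∈ A, conjBy B a = B) {x : G} :
    x ∈ A ⊔ B ↔ ∃ a ∈ A, ∃ b ∈ B, a * b = x := by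
  have := Subgroup.coe_mul_of_left_le_normalizer_right A B
    (fun b hb => conjBy_eq_iff_mem_normalizer.1 (h b hb))
  rw [← SetLike.mem_coe, this]; rfl

/-- elements of the join of two commuting subgroups are products. -/
theorem Comm.mem_sup {A B : Subgroup G} (h : Comm A B) {x : G} :
    x ∈ A ⊔ B ↔ ∃ a ∈ A, ∃ b ∈ B, a * b = x :=
  mem_sup_of_norm_left fun _ ha => h.conjBy_eq ha

/-- A set of subgroups stable under two subgroups is stable under their join. -/
theorem conjBy_mem_of_sup {P : Set (Subgroup G)} {A B : Subgroup G}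
    (hA : ∀ a ∈ A, ∀ C ∈ P, conjBy C a ∈ P) (hB : ∀ b ∈ B, ∀ C ∈ P, conjBy C b ∈ P) :
    ∀ x ∈ A ⊔ B, ∀ C ∈ P, conjBy C x ∈ P := by
  intro x hx
  rw [Subgroup.sup_eq_closure] at hx
  induction hx using Subgroup.closure_induction'' with
  | mem x hx => rcases hx with hx | hx; exacts [hA x hx, hB x hx]
  | one => simp
  | mul x y _ _ hx hy => intro C hC; rw [← conjBy_conjBy]; exact hx _ (hy _ hC)
  | inv_mem x hx => rcases hx with hx | hx; exacts [hA _ (A.inv_mem hx), hB _ (B.inv_mem hx)]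

/-- A set of subgroups stable under each member of a family is stable under the join. -/
theorem conjBy_mem_of_iSup {P S : Set (Subgroup G)}
    (hA : ∀ A ∈ S, ∀ a ∈ A, ∀ C ∈ P, conjBy C a ∈ P) :
    ∀ x ∈ (⨆ A ∈ S, A), ∀ C ∈ P, conjBy C x ∈ P := by
  let H : Subgroup G :=
    { carrier := {x | (∀ C ∈ P, conjBy C x ∈ P) ∧ ∀ C ∈ P, conjBy C x⁻¹ ∈ P}
      one_mem' := by simp
      mul_mem' := by
        rintro x y ⟨hx, hx'⟩ ⟨hy, hy'⟩
        refine ⟨fun C hC => ?_, fun C hC => ?_⟩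
        · rw [← conjBy_conjBy]; exact hx _ (hy _ hC)
        · rw [mul_inv_rev, ← conjBy_conjBy]; exact hy' _ (hx' _ hC)
      inv_mem' := by rintro x ⟨hx, hx'⟩; exact ⟨hx', by simpa using hx⟩ }
  have : (⨆ A ∈ S, A) ≤ H := iSup₂_le fun A hAS a ha => ⟨hA A hAS a ha, hA A hAS _ (A.inv_mem ha)⟩
  exact fun x hx => (this hx).1

end Cfsg.Agent.Root
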