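import Cfsg.Agent.Root.SL2
import Cfsg.Agent.Classical.DicksonSL

/-! The Dickson lemma for arbitrary fields: if `char k ≠ 2`, `|k| ≠ 3` and `K = k[α]` is a finite extension,
`α ≠ 0`, then `uSL k` and `lSL (k α)` generate `SL₂(K)` (`dickson_core`). -/

namespace Cfsg.Agent.Root
open Cfsg Cfsg.Agent.Classical Matrix Polynomial
open scoped MatrixGroups

theorem three_lt_card {k : Type*} [Field k] (h2 : (2 : k) ≠ 0) (h3 : Nat.card k ≠ 3) :
    3 < ENat.card k := by
  rcases finite_or_infinite k with hf | hf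
  · rw [ENat.card_eq_coe_natCard]
    have h1 : 1 < Nat.card k := Finite.one_lt_card
    have : Nat.card k ≠ 2 := fun e => h2 (by
      have := Fintype.ofFinite k
      rw [Nat.card_eq_fintype_card] at e
      exact_mod_cast e ▸ FiniteField.cast_card_eq_zero k)
    exact_mod_cast (show 3 < Nat.card k by omega)
  · rw [ENat.card_eq_top_of_infinite]; exact ENat.natCast_lt_top 3

theorem two_ne_zero_of_ringChar {k : Type*} [Field k] (h : ringChar k ≠ 2) : (2 : k) ≠ 0 :=
  Ring.two_ne_zero h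

section
variable {K : Type*} [Field K] {H : Subgroup SL(2, K)}

theorem conj_uSL_of_upper {h : SL(2, K)} (h0 : h.1 1 0 = 0) (t : K) :
    h * uSL t * h⁻¹ = uSL (h.1 0 0 ^ 2 * t) := by
  have hd := h.2
  rw [det_fin_two, h0, mul_zero, sub_zero] at hd
  rw [mul_inv_eq_iff_eq_mul]
  ext i j; fin_cases i <;> fin_cases j <;> simp [mul_apply, h0]
  linear_combination (-(h.1 0 0 * t)) * hd

theorem top_of_upper {α : K} (hα : α ≠ 0) (hu : ∀ t, uSL t ∈ H) (hl : lSL α ∈ H) : H = ⊤ := by
  refine sl_eq_top_of_uSL_lSL hu fun t => ?_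
  have r := sl2_rel (inv_ne_zero hα)
  have e := Sp.conjBy_weyl_left (psl2_special psl2_self) r
  have hU : upperUnipotentSL2 K ≤ H := fun x hx => by obtain ⟨t, rfl⟩ := mem_upper.1 hx; exact hu t
  refine conjBy_le_of_mem hU (g := weyl (uSL α⁻¹) (lSL α⁻¹⁻¹)) ?_ (e ▸ lSL_mem t)
  rw [inv_inv]
  exact H.mul_mem (H.mul_mem (hu _) (H.inv_mem hl)) (hu _)

theorem dickson_fin_top [Finite K] (h2 : (2 : K) ≠ 0) {μ : K} (hμ : μ ≠ 0) (hμ2 : μ ^ 2 ≠ -1)
    (hgen : Subfield.closure ({μ} : Set K) = ⊤) (hu : uSL 1 ∈ H) (hl : lSL μ ∈ H) : H = ⊤ := by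
  have h1 := ((dickson_generation h2 hμ hgen).resolve_right fun h => hμ2 h.2.1).1
  have h3 : conjBy H wSL = ⊤ := by
    rw [eq_top_iff, ← h1, Subgroup.closure_le]
    rintro _ (rfl | rfl)
    · have := conj_mem_conjBy wSL (H.inv_mem hu)
      rwa [uSL_inv, wSL_conj_uSL, neg_neg] at this
    · have := conj_mem_conjBy wSL (H.inv_mem hl)
      have e : wSL * (lSL μ)⁻¹ * wSL⁻¹ = uSL μ := by
        rw [lSL_inv, mul_inv_eq_iff_eq_mul]
        ext i j; fin_cases i <;> fin_cases j <;> simp [mul_apply]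
      rwa [e] at this
  simpa using (conjBy_inv_of_eq h3).symm

theorem dickson_fin_sub [Finite K] (h2 : (2 : K) ≠ 0) {μ : K} (hμ : μ ≠ 0) (hμ2 : μ ^ 2 ≠ -1)
    (hu : uSL 1 ∈ H) (hl : lSL μ ∈ H) : lSL 1 ∈ H ∧ uSL (μ ^ 2) ∈ H := by
  let F := Subfield.closure ({μ} : Set K)
  let μ' : F := ⟨μ, Subfield.subset_closure rfl⟩
  have hgen : Subfield.closure ({μ'} : Set F) = ⊤ := by
    rw [eq_top_iff]
    rintro ⟨x, hx⟩ -
    have : x ∈ (Subfield.closure ({μ'} : Set F)).map F.subtype := by
      rw [RingHom.map_field_closure]; simpa using hx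
    obtain ⟨y, hy, rfl⟩ := this
    exact hy
  have := dickson_fin_top (H := H.comap (SpecialLinearGroup.map F.subtype)) (μ := μ')
    (fun e => h2 (congrArg Subtype.val e)) (fun e => hμ (congrArg Subtype.val e))
    (fun e => hμ2 (congrArg Subtype.val e)) hgen (by simpa [slMap_uSL] using hu)
    (by simpa [slMap_lSL] using hl)
  have hm : ∀ g, SpecialLinearGroup.map F.subtype g ∈ H := fun g =>
    (show g ∈ H.comap (SpecialLinearGroup.map F.subtype) from this ▸ Subgroup.mem_top g)
  exact ⟨by simpa [slMap_lSL] using hm (lSL 1), by have := hm (uSL (μ' ^ 2)); rwa [slMap_uSL] at this⟩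

end

variable {k K : Type*} [Field k] [Field K] [Algebra k K] {H : Subgroup SL(2, K)} {α : K}

/-- The largest `k`-subspace of translations in `H`. -/
def transl (k : Type*) [Field k] [Algebra k K] (H : Subgroup SL(2, K)) : Submodule k K where
  carrier := {t | ∀ c : k, uSL (c • t) ∈ H}
  zero_mem' := fun c => by simp
  add_mem' := fun hx hy c => by rw [smul_add, uSL_add]; exact H.mul_mem (hx c) (hy c)
  smul_mem' := fun c x hx c' => by rw [smul_smul]; exact hx _

theorem dickson_finite [Finite K] (h2 : (2 : k) ≠ 0) (h3 : 3 < ENat.card k) (hα : α ≠ 0)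
    (hgen : Algebra.adjoin k {α} = ⊤) (hu : ∀ c : k, uSL (algebraMap k K c) ∈ H)
    (hl : ∀ c : k, lSL (algebraMap k K c * α) ∈ H) : H = ⊤ := by
  have h2' : (2 : K) ≠ 0 := by
    have := (map_ne_zero (algebraMap k K)).2 h2
    rwa [map_ofNat] at this
  have hu1 : uSL 1 ∈ H := by simpa using hu 1
  have hc : ∀ t : K, t ≠ 0 → ∃ c : k, c ≠ 0 ∧ (c • t) ^ 2 ≠ -1 := by
    intro t ht
    by_cases h1 : t ^ 2 = -1
    · obtain ⟨c, hc, hc2⟩ := exists_sq_ne_one h3
      refine ⟨c, hc, fun e => hc2 ((algebraMap k K).injective ?_)⟩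
      rw [_root_.smul_pow, h1, Algebra.smul_def] at e
      simpa using e
    · exact ⟨1, one_ne_zero, by simpa using h1⟩
  obtain ⟨c₁, hc₁, hc₁'⟩ := hc α hα
  have hl1 := (dickson_fin_sub h2' (smul_ne_zero hc₁ hα) hc₁' hu1
    (by rw [Algebra.smul_def]; exact hl c₁)).1
  have hw : wSL ∈ H := by
    have := H.mul_mem (H.mul_mem (H.inv_mem hu1) hl1) (H.inv_mem hu1)
    convert this using 1
    rw [uSL_inv]
    ext i j; fin_cases i <;> fin_cases j <;> simp [mul_apply]
  have hlu : ∀ t, lSL t ∈ H ↔ uSL t ∈ H := by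
    intro t
    have e := wSL_conj_uSL (-t)
    rw [neg_neg, ← uSL_inv] at e
    rw [← e, H.mul_mem_cancel_right (H.inv_mem hw), H.mul_mem_cancel_left hw, H.inv_mem_iff]
  have hsq : ∀ t ∈ transl k H, t ^ 2 ∈ transl k H := by
    intro t ht
    by_cases ht0 : t = 0
    · simp [ht0]
    have key : ∀ s : k, s ≠ 0 → uSL ((s • t) ^ 2) ∈ H := by
      intro s hs
      obtain ⟨c, hc, hc'⟩ := hc (s • t) (smul_ne_zero hs ht0)
      have h4 := (dickson_fin_sub h2' (smul_ne_zero hc (smul_ne_zero hs ht0)) hc' hu1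
        ((hlu _).2 (by rw [smul_smul]; exact ht _))).2
      have h5 : SpecialLinearGroup.map (algebraMap k K) (dSL (Units.mk0 c hc)⁻¹) ∈ H := by
        have := sl_eq_top_of_uSL_lSL (H := H.comap (SpecialLinearGroup.map (algebraMap k K)))
          (fun b => by simpa [slMap_uSL] using hu b) fun b => by simpa [slMap_lSL, hlu] using hu b
        exact (show _ ∈ H.comap (SpecialLinearGroup.map (algebraMap k K)) from
          this ▸ Subgroup.mem_top _)
      have h6 := H.mul_mem (H.mul_mem h5 h4) (H.inv_mem h5)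
      rw [conj_uSL_of_upper (by simp)] at h6
      convert h6 using 2
      have : algebraMap k K c ≠ 0 := (_root_.map_ne_zero _).2 hc
      simp [Algebra.smul_def]; field_simp
    have key' : ∀ s : k, uSL ((s • t) ^ 2) ∈ H := fun s => by
      by_cases hs : s = 0
      · simp [hs]
      · exact key s hs
    intro c
    have := H.mul_mem (key' ((c + 1) / 2)) (H.inv_mem (key' ((c - 1) / 2)))
    rw [uSL_inv, ← uSL_add] at this
    convert this using 2
    simp only [Algebra.smul_def, map_div₀, map_add, map_sub, map_one, map_ofNat]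
    field_simp; ring
  let A : Subalgebra k K := (transl k H).toSubalgebra
    (fun c => by simpa [Algebra.smul_def] using hu c) (fun x y hx hy => by
      have := (transl k H).smul_mem (2⁻¹ : k) (sub_mem (sub_mem (hsq _ (add_mem hx hy)) (hsq _ hx))
        (hsq _ hy))
      convert this using 1
      simp only [Algebra.smul_def, map_inv₀, map_ofNat]
      field_simp; ring)
  have hA : (⊤ : Subalgebra k K) ≤ A := by
    rw [← hgen, Algebra.adjoin_le_iff]
    rintro _ rfl c
    rw [← hlu, Algebra.smul_def]; exact hl c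
  exact sl_eq_top_of_uSL_lSL (fun t => by simpa using hA (x := t) trivial 1)
    fun t => (hlu t).2 (by simpa using hA (x := t) trivial 1)

/-- One step of the (homogeneous) Euclidean algorithm. -/
noncomputable def stepA {A : Type*} [CommRing A] (n : ℕ) (a c : A[X]) : A[X] :=
  C (c.coeff (n + 1)) * a - C (a.coeff (n + 1)) * c

/-- One step of the (homogeneous) Euclidean algorithm. -/
noncomputable def stepC {A : Type*} [CommRing A] (n : ℕ) (a c : A[X]) : A[X] :=
  C ((stepA n a c).coeff n) * c - C (c.coeff (n + 1)) * X * stepA n a c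

/-- The product of the leading coefficients met in the Euclidean algorithm. -/
noncomputable def disc {A : Type*} [CommRing A] : ℕ → A[X] → A[X] → A
  | 0, a, _ => a.coeff 0
  | n + 1, a, c => c.coeff (n + 1) * (stepA n a c).coeff n * disc n (stepA n a c) (stepC n a c)

theorem map_disc {A B : Type*} [CommRing A] [CommRing B] (f : A →+* B) (n : ℕ) (a c : A[X]) :
    f (disc n a c) = disc n (a.map f) (c.map f) := by
  induction n generalizing a c with
  | zero => simp [disc]
  | succ n ih =>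
    have e1 : (stepA n a c).map f = stepA n (a.map f) (c.map f) := by simp [stepA]
    have e2 : (stepC n a c).map f = stepC n (a.map f) (c.map f) := by simp [stepC, ← e1]
    simp only [disc, map_mul, ih, ← e1, ← e2, coeff_map]

theorem exists_disc_one (n : ℕ) : ∃ a c : k[X], a.natDegree ≤ n ∧ c.natDegree ≤ n ∧ c.coeff 0 = 0 ∧
    a.coeff n = 1 ∧ disc n a c = 1 := by
  induction n with
  | zero => exact ⟨1, 0, by simp, by simp, by simp, by simp, by simp [disc]⟩
  | succ n ih =>
    obtain ⟨a, c, ha, hc, hc0, han, hd⟩ := ih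
    have h1 : (c + X * a).natDegree ≤ n + 1 := natDegree_add_le_of_degree_le (by omega)
      (natDegree_mul_le.trans (by have := natDegree_X_le (R := k); omega))
    have h2 : (c + X * a).coeff (n + 1) = 1 := by
      simp [coeff_eq_zero_of_natDegree_lt (Nat.lt_succ_of_le hc), han]
    have h3 : (a + (c + X * a)).coeff (n + 1) = 1 := by
      rw [coeff_add, h2, coeff_eq_zero_of_natDegree_lt (Nat.lt_succ_of_le ha), zero_add]
    have e1 : stepA n (a + (c + X * a)) (c + X * a) = a := by rw [stepA, h2, h3]; simp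
    have e2 : stepC n (a + (c + X * a)) (c + X * a) = c := by rw [stepC, e1, h2, han]; simp
    refine ⟨a + (c + X * a), c + X * a, natDegree_add_le_of_degree_le (by omega) h1, h1,
      by simp [hc0], h3, ?_⟩
    rw [disc, e1, e2, h2, han, hd]; simp

/-- `(x, y)` lies in the orbit of `k^× e₁`. -/
def Orb (k : Type*) [Field k] [Algebra k K] (H : Subgroup SL(2, K)) (x y : K) : Prop :=
  ∃ g ∈ H, ∃ μ : k, μ ≠ 0 ∧ x = μ • g.1 0 0 ∧ y = μ • g.1 1 0

theorem orb_of_disc (hu : ∀ c : k, uSL (algebraMap k K c) ∈ H)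
    (hl : ∀ c : k, lSL (algebraMap k K c * α) ∈ H) (n : ℕ) (a c : k[X]) (ha : a.natDegree ≤ n)
    (hc : c.natDegree ≤ n) (hc0 : c.coeff 0 = 0) (hd : disc n a c ≠ 0) {s t : k} (hs : s ≠ 0)
    (ht : t ≠ 0) : Orb k H (s • aeval α a) (t • aeval α c) := by
  induction n generalizing a c s t with
  | zero =>
    rw [eq_C_of_natDegree_le_zero ha, eq_C_of_natDegree_le_zero hc, hc0]
    exact ⟨1, H.one_mem, s * a.coeff 0, mul_ne_zero hs hd, by simp [Algebra.smul_def], by simp⟩
  | succ n ih =>
    rw [disc] at hd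
    obtain ⟨hd, h3⟩ := mul_ne_zero_iff.1 hd
    obtain ⟨h1, h2⟩ := mul_ne_zero_iff.1 hd
    have dA : (stepA n a c).natDegree ≤ n := by
      rw [natDegree_le_iff_coeff_eq_zero] at *
      intro m hm
      rcases (show m = n + 1 ∨ n + 1 < m by omega) with rfl | hm'
      · simp [stepA, mul_comm]
      · simp [stepA, ha m hm', hc m hm']
    have dC : (stepC n a c).natDegree ≤ n := by
      rw [natDegree_le_iff_coeff_eq_zero] at *
      intro m hm
      obtain ⟨m, rfl⟩ : ∃ m', m = m' + 1 := ⟨m - 1, by omega⟩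
      rw [stepC, mul_assoc, coeff_sub, coeff_C_mul, coeff_C_mul, coeff_X_mul]
      rcases (show m = n ∨ n < m by omega) with rfl | hm'
      · ring
      · rw [dA m hm', hc (m + 1) (by omega)]; ring
    obtain ⟨g, hg, μ, hμ, e1, e2⟩ := ih _ _ dA dC (by simp [stepC, mul_assoc, hc0]) h3
      (div_ne_zero hs h1) (div_ne_zero ht h2)
    set c₁ := c.coeff (n + 1)
    set a₁ := a.coeff (n + 1)
    set a₂ := (stepA n a c).coeff n
    have f2 : aeval α (stepC n a c) = a₂ • aeval α c - c₁ • (α * aeval α (stepA n a c)) := by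
      simp [stepC, Algebra.smul_def, a₂, c₁, mul_assoc]
    have f1 : aeval α (stepA n a c) = c₁ • aeval α a - a₁ • aeval α c := by
      simp [stepA, Algebra.smul_def, a₁, c₁]
    rw [f2] at e2
    refine ⟨uSL (algebraMap k K (s / c₁ * a₁ / t)) *
      (lSL (algebraMap k K (t / a₂ * c₁ / (s / c₁)) * α) * g),
      H.mul_mem (hu _) (H.mul_mem (hl _) hg), μ, hμ, ?_⟩
    have hs' := (map_ne_zero (algebraMap k K)).2 hs
    have ht' := (map_ne_zero (algebraMap k K)).2 ht
    have h1' := (map_ne_zero (algebraMap k K)).2 h1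
    have h2' := (map_ne_zero (algebraMap k K)).2 h2
    simp only [Algebra.smul_def, map_div₀, map_mul] at e1 e2 f1 ⊢
    have g2 : algebraMap k K t * aeval α c = algebraMap k K μ * (algebraMap k K t / algebraMap k K a₂ *
        algebraMap k K c₁ / (algebraMap k K s / algebraMap k K c₁) * α * g.1 0 0 + g.1 1 0) := by
      rw [mul_add, ← e2, mul_left_comm, ← e1]; field_simp; ring
    have ee : ∀ x y : K, (uSL x * (lSL y * g)).1 0 0 = g.1 0 0 + x * (y * g.1 0 0 + g.1 1 0) ∧
        (uSL x * (lSL y * g)).1 1 0 = y * g.1 0 0 + g.1 1 0 := fun x y => by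
      simp [mul_apply, vecMul, dotProduct]
    rw [(ee _ _).1, (ee _ _).2]
    refine ⟨?_, g2⟩
    rw [mul_add, ← e1, mul_left_comm (algebraMap k K μ), ← g2, f1]; field_simp; ring

theorem dickson_infinite [Infinite k] (h2 : (2 : k) ≠ 0) (hα : α ≠ 0) (hi : IsIntegral k α)
    (hgen : Algebra.adjoin k {α} = ⊤) (hu : ∀ c : k, uSL (algebraMap k K c) ∈ H)
    (hl : ∀ c : k, lSL (algebraMap k K c * α) ∈ H) : H = ⊤ := by
  classical
  have hm := minpoly.monic hi
  have hred : ∀ x : K, ∃ r : k[X], r.natDegree < (minpoly k α).natDegree ∧ aeval α r = x := by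
    intro x
    have : x ∈ (aeval (R := k) α).range := by
      rw [← Algebra.adjoin_singleton_eq_range_aeval, hgen]; trivial
    obtain ⟨q, rfl⟩ := this
    exact ⟨q %ₘ minpoly k α, natDegree_modByMonic_lt q hm (minpoly.ne_one k α),
      minpoly.aeval_modByMonic_minpoly q α⟩
  set n := (minpoly k α).natDegree
  obtain ⟨a, c, ha, hc, hc0, -, hd⟩ := exists_disc_one (k := k) n
  obtain ⟨g₀, hg₀, μ₀, hμ₀, e1, e2⟩ := orb_of_disc hu hl n a c ha hc hc0 (by simp [hd]) one_ne_zero
    one_ne_zero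
  rw [one_smul] at e1 e2
  have h1 : (1 : K) ∈ transl k H := fun c => by simpa [Algebra.smul_def] using hu c
  refine top_of_upper hα (fun γ => ?_) (by simpa using hl 1)
  obtain ⟨a', ha', ea⟩ := hred (γ * aeval α a)
  obtain ⟨r, hr, er⟩ := hred (γ * aeval α c / α)
  let P : k[X] := disc n (a.map C + C X * a'.map C) (c.map C + C X * (X * r).map C)
  have hP : ∀ t : k, P.eval t = disc n (a + C t * a') (c + C t * (X * r)) := by
    intro t
    have := map_disc (evalRingHom t) n (a.map C + C X * a'.map C) (c.map C + C X * (X * r).map C)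
    have e : (evalRingHom t).comp (C : k →+* k[X]) = RingHom.id k := by ext; simp
    refine this.trans ?_
    congr 1 <;> simp [Polynomial.map_map, e]
  have hP0 : P ≠ 0 := fun e => by simpa [e, hd] using hP 0
  have key : ∀ t : k, P.eval t ≠ 0 → (1 + t • γ) ^ 2 ∈ transl k H := by
    intro t ht
    rw [hP] at ht
    obtain ⟨g, hg, μ, hμ, f1, f2⟩ := orb_of_disc hu hl n _ _
      (natDegree_add_le_of_degree_le ha ((natDegree_C_mul_le _ _).trans ha'.le))
      (natDegree_add_le_of_degree_le hc ((natDegree_C_mul_le _ _).trans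
        (natDegree_mul_le.trans (by have := natDegree_X_le (R := k); omega))))
      (by simp [hc0]) ht one_ne_zero one_ne_zero
    have hμ' := (map_ne_zero (algebraMap k K)).2 hμ
    simp only [map_one, one_mul, map_add, map_mul, aeval_C, aeval_X, ea, er, e1, e2, Algebra.smul_def]
      at f1 f2
    have hdet := g₀.2
    rw [det_fin_two] at hdet
    have ee : (g₀⁻¹ * g).1 1 0 = g₀.1 0 0 * g.1 1 0 - g₀.1 1 0 * g.1 0 0 ∧
        (g₀⁻¹ * g).1 0 0 = g₀.1 1 1 * g.1 0 0 - g₀.1 0 1 * g.1 1 0 := by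
      simp [mul_apply, SpecialLinearGroup.coe_inv, adjugate_fin_two, vecMul, dotProduct]
      constructor <;> ring
    rw [mul_div_cancel₀ _ hα] at f2
    have f3 : (g₀⁻¹ * g).1 1 0 = 0 := by
      apply mul_left_cancel₀ hμ'
      rw [ee.1]
      linear_combination (g₀.1 1 0) * f1 - (g₀.1 0 0) * f2
    have f4 : (g₀⁻¹ * g).1 0 0 = (μ₀ / μ) • (1 + t • γ) := by
      apply mul_left_cancel₀ hμ'
      rw [ee.2]
      simp only [Algebra.smul_def, map_div₀]
      rw [← mul_assoc, mul_div_cancel₀ _ hμ']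
      linear_combination (-g₀.1 1 1) * f1 + (g₀.1 0 1) * f2 +
        algebraMap k K μ₀ * (1 + algebraMap k K t * γ) * hdet
    intro s
    have hh := H.mul_mem (H.inv_mem hg₀) hg
    have := H.mul_mem (H.mul_mem hh (hu (s * (μ / μ₀) ^ 2))) (H.inv_mem hh)
    rw [conj_uSL_of_upper f3, f4] at this
    convert this using 2
    have hμ₀' := (map_ne_zero (algebraMap k K)).2 hμ₀
    simp only [Algebra.smul_def, map_mul, map_pow, map_div₀]
    field_simp
  obtain ⟨t₁, ht₁⟩ := Infinite.exists_notMem_finset (insert 0 P.roots.toFinset)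
  obtain ⟨t₂, ht₂⟩ := Infinite.exists_notMem_finset (insert t₁ (insert 0 P.roots.toFinset))
  simp only [Finset.mem_insert, Multiset.mem_toFinset, mem_roots hP0, IsRoot.def, not_or] at ht₁ ht₂
  have k1 := (transl k H).smul_mem (t₂ ^ 2) (sub_mem (key t₁ ht₁.2) h1)
  have k2 := (transl k H).smul_mem (t₁ ^ 2) (sub_mem (key t₂ ht₂.2.2) h1)
  have k3 := sub_mem k1 k2 (2 * t₁ * t₂ * (t₂ - t₁))⁻¹
  convert k3 using 2
  have : t₂ - t₁ ≠ 0 := sub_ne_zero.2 ht₂.1
  have h4 := ht₁.1
  have h5 := ht₂.2.1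
  rw [eq_inv_smul_iff₀ (by simp [h2, this, h4, h5])]
  simp only [Algebra.smul_def, map_mul, map_pow, map_sub, map_ofNat]
  ring

theorem dickson_core (h2 : (2 : k) ≠ 0) (h3 : Nat.card k ≠ 3) (hα : α ≠ 0) (hi : IsIntegral k α)
    (hgen : Algebra.adjoin k {α} = ⊤) (hu : ∀ c : k, uSL (algebraMap k K c) ∈ H)
    (hl : ∀ c : k, lSL (algebraMap k K c * α) ∈ H) : H = ⊤ := by
  rcases finite_or_infinite k with hf | hf
  · have : Module.Finite k K := by
      have := Algebra.finite_adjoin_simple_of_isIntegral hi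
      rw [hgen] at this
      exact Module.Finite.equiv (Subalgebra.topEquiv (R := k) (A := K)).toLinearEquiv
    have : Finite K := Module.finite_of_finite k
    exact dickson_finite h2 (three_lt_card h2 h3) hα hgen hu hl
  · exact dickson_infinite h2 hα hi hgen hu hl

end Cfsg.Agent.Root
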