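import Cfsg.Agent.Root.Sub1
import Cfsg.Agent.Asch.Comm

/-! Quadratic extension field subgroups of unitary type in symplectic and orthogonal groups:
`normG S` (normaliser of a set of endomorphisms), `with_field` (matrix subfields as fields acting on the
column space), the Hermitian structure `HS`, and maximality `HS.isMaximalIn`. -/

set_option autoImplicit false

namespace Cfsg.Agent.Root.Mx

open Cfsg.Agent.Geom Cfsg.Agent.AutCl Module Matrix

variable {F K : Type*} [Field F] [Field K] [Algebra F K] {V : Type*} [AddCommGroup V] [Module F V]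
  [Module K V] [IsScalarTower F K V]

/-- The normaliser of a set of endomorphisms. -/
def normG (S : Set (Module.End F V)) : Subgroup (V ≃ₗ[F] V) where
  carrier := {g | ∀ m, m ∈ S ↔ g.conj m ∈ S}
  one_mem' := fun m => Iff.rfl
  mul_mem' := fun {a b} ha hb m => (hb m).trans (ha _)
  inv_mem' := fun {g} hg m => by
    rw [hg (LinearEquiv.conj g⁻¹ m)]
    exact Iff.of_eq (congrArg (· ∈ S) (LinearMap.ext fun v => by
      simp [LinearEquiv.conj_apply, show g⁻¹.symm = g from rfl]))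

theorem mem_normG [Finite V] {S : Set (Module.End F V)} {g : V ≃ₗ[F] V} :
    g ∈ normG S ↔ ∀ m ∈ S, ∃ m' ∈ S, ∀ v, g (m v) = m' (g v) := by
  haveI : Finite (Module.End F V) := Finite.of_injective _ DFunLike.coe_injective
  refine ⟨fun h m hm => ⟨_, (h m).1 hm, fun v => by simp [LinearEquiv.conj_apply]⟩, fun h => ?_⟩
  have h' : Set.MapsTo g.conj S S := fun m hm => by
    obtain ⟨m', hm', e⟩ := h m hm
    rwa [show g.conj m = m' from LinearMap.ext fun v => by simp [LinearEquiv.conj_apply, e]]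
  refine fun m => ⟨fun hm => h' hm, fun hm => ?_⟩
  obtain ⟨w, hw, e⟩ := (((Set.toFinite S).injOn_iff_bijOn_of_mapsTo h').1 g.conj.injective.injOn).surjOn hm
  exact g.conj.injective e ▸ hw

/-- The scalar multiplications by elements of `K`. -/
def scal (F K V : Type*) [Field F] [Field K] [Algebra F K] [AddCommGroup V] [Module F V]
  [Module K V] [IsScalarTower F K V] : Set (Module.End F V) := {m | ∃ k : K, ∀ v, m v = k • v}

theorem mem_normG_scal [Finite V] {g : V ≃ₗ[F] V} :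
    g ∈ normG (scal F K V) ↔ ∀ k : K, ∃ k' : K, ∀ v, g (k • v) = k' • g v := by
  rw [mem_normG]
  refine ⟨fun h k => ?_, fun h m ⟨k, hk⟩ => ?_⟩
  · obtain ⟨_, ⟨k', hk⟩, e⟩ := h (Algebra.lsmul F F V k) ⟨k, fun _ => rfl⟩
    exact ⟨k', fun v => (e v).trans (hk _)⟩
  · obtain ⟨k', hk'⟩ := h k
    exact ⟨Algebra.lsmul F F V k', ⟨k', fun _ => rfl⟩, fun v => by rw [hk, hk']; rfl⟩

universe u in
theorem with_field {F : Type u} [Field F] {ι : Type} [Fintype ι] [DecidableEq ι] [Nonempty ι] {r : ℕ}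
    {S : Subalgebra F (Matrix ι ι F)} (hS : Geo.IsFieldSubalgebra r S) {C : Prop}
    (h : ∀ (K : Type u) [Field K] [Algebra F K] [Module K (ι → F)] [IsScalarTower F K (ι → F)],
      finrank F K = r → (∀ m : Matrix ι ι F, m ∈ S ↔ ∃ k : K, ∀ v, m *ᵥ v = k • v) →
      (∀ k : K, ∃ m ∈ S, ∀ v, m *ᵥ v = k • v) →
      (∀ g : GL ι F, g ∈ Geo.subalgebraNormalizer S ↔ glEquiv ι F g ∈ normG (scal F K (ι → F))) → C) : C := by
  letI := (Asch.Fld.isField hS).toField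
  letI : Module S (ι → F) := Module.compHom (ι → F) (S.val.toRingHom : S →+* Matrix ι ι F)
  haveI : IsScalarTower F S (ι → F) := ⟨fun c k v => smul_mulVec c k.1 v⟩
  have h1 : ∀ m : Matrix ι ι F, m ∈ S ↔ ∃ k : S, ∀ v, m *ᵥ v = k • v := fun m =>
    ⟨fun hm => ⟨⟨m, hm⟩, fun _ => rfl⟩, fun ⟨k, hk⟩ => by
      rw [show m = k.1 from toLin'.injective (LinearMap.ext hk)]; exact k.2⟩
  refine @h S _ _ _ this hS.finrank_eq h1 (fun k => ⟨k.1, k.2, fun _ => rfl⟩) fun g =>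
    ⟨fun hg m => ?_, fun hg m => ?_⟩
  · obtain ⟨m, rfl⟩ := toLin'.surjective m
    refine (h1 m).symm.trans ((hg m).trans ((h1 _).trans (exists_congr fun k => forall_congr' fun v => ?_)))
    rw [← mulVec_mulVec, ← mulVec_mulVec]; rfl
  · refine (h1 m).trans ((hg (toLin' m)).trans (Iff.trans (exists_congr fun k => forall_congr' fun v => ?_)
      (h1 _).symm))
    rw [← mulVec_mulVec, ← mulVec_mulVec]; rfl

theorem exists_coord (h2 : finrank F K = 2) {J : K} (hJ : ∀ c, algebraMap F K c ≠ J) (k : K) :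
    ∃ α β : F, k = algebraMap F K α + algebraMap F K β * J := by
  haveI : FiniteDimensional F K := .of_finrank_pos (by omega)
  have h1 : J ∉ F ∙ (1 : K) := fun h => by
    obtain ⟨c, hc⟩ := Submodule.mem_span_singleton.1 h
    exact hJ c (by rw [← hc, Algebra.smul_def, mul_one])
  have h3 := Submodule.finrank_lt_finrank_of_lt (SetLike.lt_iff_le_and_exists.2
    ⟨le_sup_left, J, mem_sup_self (F ∙ (1 : K)) J, h1⟩)
  rw [finrank_span_singleton one_ne_zero] at h3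
  have h4 := Submodule.eq_top_of_finrank_eq (S := (F ∙ (1 : K)) ⊔ F ∙ J)
    (le_antisymm (Submodule.finrank_le _) (by omega))
  obtain ⟨_, h5, _, h6, rfl⟩ := Submodule.mem_sup.1 (h4.ge (Submodule.mem_top (x := k)))
  obtain ⟨α, rfl⟩ := Submodule.mem_span_singleton.1 h5
  obtain ⟨β, rfl⟩ := Submodule.mem_span_singleton.1 h6
  exact ⟨α, β, by simp [Algebra.smul_def]⟩

/-- `Φ` is the trace of the Hermitian form `Ψ` over the quadratic extension `K`. -/
structure HS {τ : K →+* K} (Φ : Formed (RingHom.id F) V) (Ψ : Formed τ V) (L : K →ₗ[F] F) : Prop where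
  hn : Φ.Nondeg
  hn' : Ψ.Nondeg
  hB : ∀ x y, Φ.B x y = L (Ψ.B x y)
  one : ∃ k, L k = 1
  deg : finrank F K = 2

theorem exists_HS {Φ : Formed (RingHom.id F) V} (hn : Φ.Nondeg) [Nontrivial V] (h2 : finrank F K = 2)
    (hadj : ∀ k : K, ∃ k' : K, ∀ u v, Φ.B (k • u) v = Φ.B u (k' • v))
    (hne : ¬ ∀ k : K, ∀ u v, Φ.B (k • u) v = Φ.B u (k • v)) :
    ∃ (τ : K →+* K) (Ψ : Formed τ V) (L : K →ₗ[F] F), HS Φ Ψ L ∧ τ ≠ RingHom.id K ∧ Ψ.ε = 1 ∧
      (∀ c, τ (algebraMap F K c) = algebraMap F K c) ∧ ∀ x, Ψ.Q x = 0 := by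
  haveI : FiniteDimensional F K := .of_finrank_pos (by omega)
  choose t ht using hadj
  have ext : ∀ a b : K, (∀ u v, Φ.B u (a • v) = Φ.B u (b • v)) → a = b := fun a b h => by
    obtain ⟨v, hv⟩ := exists_ne (0 : V)
    exact smul_left_injective K hv (hn.ext_right fun u => h u v)
  let τ : K →+* K :=
    { toFun := t
      map_one' := ext _ _ fun u v => by rw [← ht]; simp
      map_mul' := fun a b => ext _ _ fun u v => by rw [← ht, mul_smul, ht, ht, smul_smul, mul_comm]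
      map_zero' := ext _ _ fun u v => by rw [← ht]; simp
      map_add' := fun a b => ext _ _ fun u v => by rw [← ht]; simp [add_smul, ht] }
  have hτ : ∀ k u v, Φ.B (k • u) v = Φ.B u (τ k • v) := ht
  have hττ : ∀ a, τ (τ a) = a := fun a => ext _ _ fun u v => by
    rw [← hτ, Φ.symm, ← hτ, ← Φ.symm]
  have hτf : ∀ c, τ (algebraMap F K c) = algebraMap F K c := fun c => ext _ _ fun u v => by
    rw [← hτ]; simp
  have hτ1 : τ ≠ RingHom.id K := fun e => hne fun k u v => by rw [hτ, e]; rfl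
  let τ' : K →ₗ[F] K :=
    { toFun := τ
      map_add' := map_add τ
      map_smul' := fun c k => by simp [Algebra.smul_def, hτf] }
  obtain ⟨k₀, hk₀⟩ : ∃ k : K, k + Φ.ε • τ k ≠ 0 := by
    by_contra! hc
    refine hτ1 (RingHom.ext fun k => ?_)
    have h1 : algebraMap F K Φ.ε = -1 := by
      have := hc 1
      rw [map_one, Algebra.smul_def] at this
      linear_combination this
    have := hc k
    rw [Algebra.smul_def, h1] at this
    simp only [RingHom.id_apply]; linear_combination -this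
  obtain ⟨l, hl, -⟩ := Submodule.exists_le_ker_of_notMem (p := (⊥ : Submodule F K)) hk₀
  let L : K →ₗ[F] F := (l (k₀ + Φ.ε • τ k₀))⁻¹ • (l + Φ.ε • l ∘ₗ τ')
  have hL1 : L k₀ = 1 := by simpa [L, τ', ← mul_add] using inv_mul_cancel₀ hl
  have hLτ : ∀ k, L (τ k) = Φ.ε * L k := fun k => by
    simp only [L, τ', LinearMap.smul_apply, LinearMap.add_apply, LinearMap.comp_apply, LinearMap.coe_mk,
      AddHom.coe_mk, hττ, smul_eq_mul]
    linear_combination -(l (k₀ + Φ.ε • τ k₀))⁻¹ * l (τ k) * Φ.εε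
  let D : K →ₗ[F] Dual F K := (LinearMap.mul F K).compr₂ L
  have hD : Function.Injective D := (injective_iff_map_eq_zero D).2 fun a ha => by_contra fun h0 => by
    simpa [D, h0, hL1] using DFunLike.congr_fun ha (a⁻¹ * k₀)
  have hD' := (LinearMap.injective_iff_surjective_of_finrank_eq_finrank (Subspace.dual_finrank_eq).symm).1 hD
  have ex : ∀ x y : V, ∃ a : K, ∀ k, L (a * k) = Φ.B x (k • y) := fun x y => by
    obtain ⟨a, ha⟩ := hD' (Φ.B x ∘ₗ LinearMap.toSpanSingleton K V y |>.restrictScalars F)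
    exact ⟨a, fun k => DFunLike.congr_fun ha k⟩
  choose b hb using ex
  have ext' : ∀ a a' : K, (∀ k, L (a * k) = L (a' * k)) → a = a' := fun a a' h => hD (LinearMap.ext h)
  let B : V →ₛₗ[τ] V →ₗ[K] K := LinearMap.mk₂'ₛₗ τ (RingHom.id K) b
    (fun x y z => ext' _ _ fun k => by simp [add_mul, hb])
    (fun c x y => ext' _ _ fun k => by rw [hb, hτ, smul_smul, ← hb, smul_eq_mul]; ring_nf)
    (fun x y z => ext' _ _ fun k => by simp [add_mul, hb])
    (fun c x y => ext' _ _ fun k => by rw [hb, smul_smul, ← hb, smul_eq_mul, RingHom.id_apply]; ring_nf)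
  have hS : B.IsSymm := ⟨fun x y => ext' _ _ fun k => by
    change L (τ (b x y) * k) = L (b y x * k)
    rw [← hττ k, ← map_mul, hLτ, hb, hb, ← hτ, hττ, Φ.symm (k • x)]; rfl⟩
  have hB : ∀ x y, Φ.B x y = L (b x y) := fun x y => by simpa using (hb x y 1).symm
  exact ⟨τ, Formed.ofHerm hτ1 hττ B hS, L, ⟨hn, fun x hx => hn x fun y => by
    rw [hB, show b x y = 0 from hx y, map_zero], hB, ⟨k₀, hL1⟩, h2⟩, hτ1, rfl, hτf, fun _ => rfl⟩

namespace HS
variable {τ : K →+* K} {Φ : Formed (RingHom.id F) V} {Ψ : Formed τ V} {L : K →ₗ[F] F}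
  {X : Subgroup (V ≃ₗ[F] V)}

theorem zero (h : HS Φ Ψ L) {x y : V} (e : Ψ.B x y = 0) (k k' : K) : Φ.B (k • x) (k' • y) = 0 := by
  simp [h.hB, e]

theorem zero' (h : HS Φ Ψ L) {x y : V} (e : Ψ.B x y = 0) : Φ.B x y = 0 := by simp [h.hB, e]

theorem adj (h : HS Φ Ψ L) (k : K) (x v : V) : Φ.B x (k • v) = Φ.B (τ k • x) v := by
  simp [h.hB, Ψ.σσ]

omit [Module K V] [IsScalarTower F K V] in
theorem fixed (h2 : finrank F K = 2) (hf : ∀ c, τ (algebraMap F K c) = algebraMap F K c) {J : K}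
    (hJ : τ J ≠ J) {k : K} (hk : τ k = k) : ∃ c, algebraMap F K c = k := by
  obtain ⟨α, β, rfl⟩ := exists_coord h2 (J := J) (fun c e => hJ (by rw [← e, hf])) k
  rw [map_add, map_mul, hf, hf, add_right_inj, mul_eq_mul_left_iff, or_iff_right hJ] at hk
  exact ⟨α, by rw [hk]; ring⟩

variable [Finite K] [FiniteDimensional K V]

theorem big (h : HS Φ Ψ L) (h7 : 7 ≤ finrank K V) (hi : X ≤ Φ.isom)
    (hE : ∀ p a d s, IsE Ψ p a d s → s.restrictScalars F ∈ X) {u c : V} {d : F} (hu0 : u ≠ 0) (hu : Ψ.Sing u)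
    (huc : Ψ.B u c = 0) (hc : c ∉ K ∙ u) (he : HasE Φ X u c d) : ∀ a, Ψ.B u a = 0 → ∃ d, HasE Φ X u a d :=
  perp_le_of_inv h.hn' (by omega) hu0 hu (AE Φ X he.sp) (fun y z e s hy hz hs a ha =>
    map_mem_AE (hE _ _ _ _ hs) (hi (hE _ _ _ _ hs)) (by
      change s u = u
      rw [hs.apply_perp (Ψ.B_eq_zero_symm hy), Ψ.B_eq_zero_symm hz]; simp) ha) ⟨d, he⟩ huc hc

theorem big_step (h : HS Φ Ψ L) (h7 : 7 ≤ finrank K V) (hi : X ≤ Φ.isom)
    (hE : ∀ p a d s, IsE Ψ p a d s → s.restrictScalars F ∈ X) {u p : V} (hp0 : p ≠ 0) (hp : Ψ.Sing p)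
    (hup : Ψ.B u p = 0) (hn : u ∉ K ∙ p) (hu : ∀ a, Ψ.B u a = 0 → ∃ d, HasE Φ X u a d) :
    ∀ a, Ψ.B p a = 0 → ∃ d, HasE Φ X p a d := by
  obtain ⟨w, hw, a, ha, e⟩ := exists_B_one h.hn' (W := ⊤ ⊓ pf Ψ ![u, p]) (by
    have := finrank_pf (Φ := Ψ) ![u, p] ⊤; rw [finrank_top] at *; omega)
  have hw := mem_pf.1 hw.2
  have ha := mem_pf.1 ha.2
  have a1 : Ψ.B p a = 0 := ha 1
  obtain ⟨d, hd⟩ := hu a (ha 0)
  obtain ⟨d', s, hs⟩ := exists_isE' h.hn' hp (hw 1)
  have := (hd.comm (hE _ _ _ _ hs) (hi (hE _ _ _ _ hs)) (x := p) (by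
    change s u = u
    rw [hs.apply_perp (Ψ.B_eq_zero_symm hup), Ψ.B_eq_zero_symm (show Ψ.B u w = 0 from hw 0)]; simp)
    (by change s a = _; rw [hs.apply_perp a1, e, one_smul]) (h.zero' a1)).swap
  refine h.big h7 hi hE hp0 hp ?_ (fun hc => hn ?_) this
  · rw [← algebraMap_smul K, map_neg, Ψ.B_smul_right, Ψ.B_eq_zero_symm hup]; simp
  · rw [← algebraMap_smul K, neg_mem_iff] at hc
    exact (Submodule.smul_mem_iff _ (by simpa using Φ.ε_ne_zero)).1 hc

omit [Module F V] [IsScalarTower F K V] in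
theorem exists_nbr (Ψ : Formed τ V) (h7 : 7 ≤ finrank K V) {u p : V} (hu0 : u ≠ 0) (hp0 : p ≠ 0) :
    ∃ z, z ≠ 0 ∧ Ψ.Sing z ∧ Ψ.B u z = 0 ∧ Ψ.B p z = 0 ∧ z ∉ K ∙ u ∧ z ∉ K ∙ p ∧ u ∉ K ∙ z ∧ p ∉ K ∙ z := by
  obtain ⟨z, -, hz, hs, h1⟩ := exists_sing_pf Ψ ![u, p] (U := ⊤) (R := (K ∙ u) ⊔ K ∙ p) (by
    have := finrank_sup_one (K ∙ u) p; have := finrank_span_one (F := K) u
    rw [finrank_top]; omega)
  have h2 : z ∉ K ∙ u := fun e => hz (Submodule.mem_sup_left e)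
  have h3 : z ∉ K ∙ p := fun e => hz (Submodule.mem_sup_right e)
  exact ⟨z, by rintro rfl; simp at hz, hs, h1 0, h1 1, h2, h3, notMem_symm h2 hu0, notMem_symm h3 hp0⟩

theorem le_of_big [FiniteDimensional F V] [Finite F] (h : HS Φ Ψ L) (h7 : 7 ≤ finrank K V) (hi : X ≤ Φ.isom)
    (h2 : NotSp2 Φ) (hE : ∀ p a d s, IsE Ψ p a d s → s.restrictScalars F ∈ X) {u : V} (hu0 : u ≠ 0)
    (hu : ∀ a, Ψ.B u a = 0 → ∃ d, HasE Φ X u a d) : EG Φ ≤ X := by
  have all : ∀ p, p ≠ 0 → Ψ.Sing p → ∀ a, Ψ.B p a = 0 → ∃ d, HasE Φ X p a d := fun p hp0 hp => by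
    obtain ⟨z, z0, hz, e1, e2, -, n1, n2, -⟩ := exists_nbr Ψ h7 hu0 hp0
    exact h.big_step h7 hi hE hp0 hp (Ψ.B_eq_zero_symm e2) n1 (h.big_step h7 hi hE z0 hz e1 n2 hu)
  obtain ⟨k₁, hk₁⟩ := h.one
  have full : ∀ p, p ≠ 0 → Ψ.Sing p → Full Φ X p := fun p hp0 hp => by
    obtain ⟨_, h0⟩ := all p hp0 hp 0 (by simp)
    refine full_of_AE' h.hn (by
      have := Module.finrank_mul_finrank F K V; rw [h.deg] at this; omega) h2 hp0 h0.sp fun v hv => ?_
    by_cases hκ : Ψ.B p v = 0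
    · exact all p hp0 hp v hκ
    obtain ⟨r, hr⟩ := h.hn'.exists_isPair hp0 hp
    set x := Ψ.B p v • r
    have hx : Ψ.B p x = Ψ.B p v := by simp [x, hr.ef]
    obtain ⟨y, hy, c, hc, e⟩ := exists_B_one h.hn' (W := ⊤ ⊓ pf Ψ ![p, x]) (by
      have := finrank_pf (Φ := Ψ) ![p, x] ⊤; rw [finrank_top] at *; omega)
    have hy := mem_pf.1 hy.2
    have hc := mem_pf.1 hc.2
    obtain ⟨_, s, hsX, hs⟩ := all x (smul_ne_zero hκ hr.right_ne_zero) (hr.sf.smul _) y (hy 1)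
    have c0 : Ψ.B p (k₁ • c) = 0 := by simp [show Ψ.B p c = 0 from hc 0]
    have := sub_mem (map_mem_AE (hp := h0.sp) hsX hs.mem_isom (by
      rw [hs.apply_perp (Φ.B_eq_zero_symm (by rw [h.hB, hx, ← h.hB, hv])),
        Φ.B_eq_zero_symm (h.zero' (show Ψ.B p y = 0 from hy 0))]; simp) (all p hp0 hp _ c0)) (all p hp0 hp _ c0)
    rw [hs.apply_perp (h.zero' (by simp [show Ψ.B x c = 0 from hc 1])), h.hB] at this
    simpa [e, hk₁] using add_mem this (show v - x ∈ AE Φ X h0.sp from all p hp0 hp _ (by simp [hx]))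
  obtain ⟨p, hp0, hp⟩ := exists_sing_top Ψ (by omega)
  obtain ⟨r, hr⟩ := h.hn'.exists_isPair hp0 hp
  exact EG_le_of_full h.hn (full p hp0 hp) (full (k₁ • r) (smul_ne_zero (by rintro rfl; simp at hk₁)
    hr.right_ne_zero) (hr.sf.smul _)) (by simp [h.hB, hr.ef, hk₁])

theorem mem_of_lines [Finite V] (h : HS Φ Ψ L) (h7 : 7 ≤ finrank K V) {J : K} (hJ : ∀ c, algebraMap F K c ≠ J)
    {g : V ≃ₗ[F] V} (hg : ∀ x, x ≠ 0 → Ψ.Sing x → g (J • x) ∈ K ∙ g x) : g ∈ normG (scal F K V) := by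
  have step : ∀ a b (μ ν : K), a ≠ 0 → Ψ.Sing a → Ψ.Sing b → Ψ.B a b = 0 → b ∉ K ∙ a →
      g (J • a) = μ • g a → g (J • b) = ν • g b → μ = ν := fun a b μ ν a0 ha hb e n h1 h2 => by
    obtain ⟨ρ, h3⟩ := Submodule.mem_span_singleton.1 (hg (a + b) (fun e => n (by
      rw [eq_neg_of_add_eq_zero_right e]; exact neg_mem (Submodule.mem_span_singleton_self a)))
      (sing_add_of_perp ha hb e))
    rw [smul_add J, map_add, map_add, h1, h2, smul_add] at h3
    refine (fun this => this.1.symm.trans this.2) (eq_of_indep (F := K) (by simpa using a0)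
      (fun ⟨k, hk⟩ => n ?_) h3)
    obtain ⟨α, β, rfl⟩ := exists_coord h.deg (J := μ) (fun c hc => hJ c (smul_left_injective K a0
      (g.injective (by simp [h1, ← hc])))) k
    refine Submodule.mem_span_singleton.2 ⟨algebraMap F K α + algebraMap F K β * J, g.injective ?_⟩
    simp [hk, add_smul, mul_smul, h1]
  obtain ⟨p, hp0, hp⟩ := exists_sing_top Ψ (by omega)
  obtain ⟨r, hr⟩ := h.hn'.exists_isPair hp0 hp
  obtain ⟨ν, hν⟩ := Submodule.mem_span_singleton.1 (hg p hp0 hp)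
  have : ∀ x, g (J • x) = ν • g x := sing_induction hr (fun x hx => by
    rcases eq_or_ne x 0 with rfl | h0
    · simp
    obtain ⟨z, z0, hz, e1, e2, n1, n2, -⟩ := exists_nbr Ψ h7 hp0 h0
    obtain ⟨μ, hμ⟩ := Submodule.mem_span_singleton.1 (hg x h0 hx)
    obtain ⟨ρ, hρ⟩ := Submodule.mem_span_singleton.1 (hg z z0 hz)
    rw [step _ _ _ _ hp0 hp hz e1 n1 hν.symm hρ.symm, ← step _ _ _ _ h0 hx hz e2 n2 hμ.symm hρ.symm, hμ])
    fun x y hx hy => by simp [hx, hy]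
  refine mem_normG_scal.2 fun k => ?_
  obtain ⟨α, β, rfl⟩ := exists_coord h.deg hJ k
  exact ⟨algebraMap F K α + algebraMap F K β * ν, fun v => by simp [add_smul, mul_smul, this]⟩

theorem isMaximalIn [FiniteDimensional F V] [Finite F] [Finite V] (h : HS Φ Ψ L) (h7 : 7 ≤ finrank K V)
    (h2 : NotSp2 Φ) (hs : ∀ x, Ψ.Sing x → Φ.Sing x)
    (hE : ∀ p a d s, IsE Ψ p a d s → s.restrictScalars F ∈ EG Φ) {J : K} (hJ : ∀ c, algebraMap F K c ≠ J)
    {c₁ c₃ c₄ : F} (hc : c₃ ≠ 0 ∨ c₄ ≠ 0) (h4 : Φ.τ * c₄ = 0) (h4' : Φ.ε * c₄ + c₄ = 0)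
    (hr : ∀ x, Ψ.Sing x → ∃ r ∈ EG Φ, (∀ v, r (J • v) = J • r v) ∧ ∀ v, r v =
      v + (c₁ * Φ.B x v - Φ.ε * c₃ * Φ.B (J • x) v) • x + (c₃ * Φ.B x v + c₄ * Φ.B (J • x) v) • J • x) :
    Geo.IsMaximalIn (EG Φ) (normG (scal F K V) ⊓ EG Φ) := by
  obtain ⟨k₁, hk₁⟩ := h.one
  refine max_crit inf_le_right ?_ fun X h1 hXE g hg hg' => ?_
  · obtain ⟨u, hu0, hu⟩ := exists_sing_top Ψ (by omega)
    obtain ⟨c, -, hc, e1, -, n, -⟩ := exists_nbr Ψ h7 hu0 hu0
    obtain ⟨e, he⟩ := exists_isE0 h.hn (hs _ hu) (hs _ hc) (h.zero' e1)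
    refine ⟨e, IsE_mem_EG he, fun hm => ?_⟩
    obtain ⟨k, hk⟩ := mem_normG_scal.1 hm.1 J
    obtain ⟨t, t1, t2⟩ := exists_dual1 h.hn' n
    have a1 := hk u
    rw [he.apply_p, he.apply_perp (h.zero' (by simp [hu.2])), h.zero' (by simp [Ψ.B_eq_zero_symm e1]),
      zero_smul, add_zero] at a1
    obtain rfl := smul_left_injective K hu0 a1
    have a2 := hk (k₁ • t)
    rw [he.apply_perp (h.zero' (by simp [t2])), he.apply_perp (h.zero' (by simp [t2])), smul_add,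
      add_right_inj, h.hB c (k₁ • t), ← algebraMap_smul K] at a2
    exact hJ _ (smul_left_injective K hu0 (by simpa [t1, hk₁] using a2))
  have hi : X ≤ Φ.isom := hXE.trans EG_le_isom
  have hE' : ∀ p a d s, IsE Ψ p a d s → s.restrictScalars F ∈ X := fun p a d s hs =>
    h1 ⟨mem_normG_scal.2 fun k => ⟨k, fun v => map_smul s k v⟩, hE _ _ _ _ hs⟩
  obtain ⟨x, hx0, hx, hn⟩ : ∃ x, x ≠ 0 ∧ Ψ.Sing x ∧ g (J • x) ∉ K ∙ g x := by
    by_contra! hc
    exact hg' ⟨h.mem_of_lines h7 hJ hc, hXE hg⟩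
  obtain ⟨r, hrE, hrJ, hr⟩ := hr x hx
  have hrX : r ∈ X := h1 ⟨mem_normG_scal.2 fun k => ⟨k, fun v => by
    obtain ⟨α, β, rfl⟩ := exists_coord h.deg hJ k
    simp [add_smul, mul_smul, hrJ]⟩, hrE⟩
  have gi := (hi hg).1
  set a := g x with ha
  set b := g (J • x) with hb
  obtain ⟨u, -, n, hu, e⟩ := exists_sing_pf Ψ ![a, b] (U := ⊤) (R := (K ∙ a) ⊔ K ∙ b) (by
    have := finrank_sup_one (K ∙ a) b; have := finrank_span_one (F := K) a
    rw [finrank_top]; omega)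
  have ea : Ψ.B u a = 0 := Ψ.B_eq_zero_symm (e 0)
  have eb : Ψ.B u b = 0 := Ψ.B_eq_zero_symm (e 1)
  obtain ⟨w, hw, e'⟩ := h.hn'.exists_perp_eq_one (H := (K ∙ a) ⊔ K ∙ u) (x := b) fun hc => n (exch hc hn)
  simp only [Ψ.perp_sup, Submodule.mem_inf, Ψ.mem_perp_span_singleton] at hw
  obtain ⟨d, s, hs'⟩ := exists_isE' h.hn' hu hw.2
  have hsX := hE' _ _ _ _ hs'
  set s' := s.restrictScalars F
  have si := (hi hsX).1
  have sa : s' a = a := by
    change s a = a; rw [hs'.apply_perp ea, Ψ.B_eq_zero_symm hw.1]; simp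
  have sb : s' b = b + u := by change s b = _; rw [hs'.apply_perp eb, e', one_smul]
  have r1 : ∀ v, (g * r * g⁻¹) v =
      v + (c₁ * Φ.B a v - Φ.ε * c₃ * Φ.B b v) • a + (c₃ * Φ.B a v + c₄ * Φ.B b v) • b := fun v => by
    obtain ⟨v, rfl⟩ := g.surjective v
    simp [hr, ha, hb, gi]
  have r2 : ∀ v, (s' * (g * r * g⁻¹) * s'⁻¹) v = v + (c₁ * Φ.B a v - Φ.ε * c₃ * Φ.B (b + u) v) • a +
      (c₃ * Φ.B a v + c₄ * Φ.B (b + u) v) • (b + u) := fun v => by
    obtain ⟨v, rfl⟩ := s'.surjective v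
    rw [LinearEquiv.mul_apply, LinearEquiv.mul_apply, LinearEquiv.coe_inv, LinearEquiv.symm_apply_apply, r1,
      ← sb, ← si a, ← si b, sa]
    simp [sa]
  have baa : Φ.B a a = 0 := by rw [gi]; exact h.zero' hx.2
  have bab : Φ.B a b = 0 := by rw [gi]; simpa using h.zero hx.2 1 J
  have bba := Φ.B_eq_zero_symm bab
  have bbb : Φ.B b b = 0 := by rw [gi]; exact h.zero hx.2 J J
  have bua := h.zero' ea
  have bub := h.zero' eb
  have qa : Φ.Sing a := ⟨by rw [(hi hg).2]; exact (hs _ hx).1, baa⟩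
  have qb : Φ.Sing b := ⟨by rw [(hi hg).2]; exact (hs _ (hx.smul J)).1, bbb⟩
  have qc := sing_add_of_perp (qa.smul c₃) (qb.smul c₄) (by simp [bab])
  obtain ⟨e, he⟩ := exists_isE h.hn (a := c₃ • a + c₄ • b) (d := -c₄) (hs _ hu) (by simp [bua, bub])
    (by rw [qc.1, mul_neg, h4, neg_zero]) (by rw [qc.2, RingHom.id_apply]; linear_combination -h4')
  have rX := X.mul_mem (X.mul_mem hg hrX) (X.inv_mem hg)
  have : e = s' * (g * r * g⁻¹) * s'⁻¹ * (g * r * g⁻¹)⁻¹ := by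
    refine eq_mul_inv_of_mul_eq (LinearEquiv.ext fun v => ?_)
    rw [LinearEquiv.mul_apply, r2, r1, he.app]
    simp only [map_add, map_smul, LinearMap.add_apply, LinearMap.smul_apply, baa, bab, bba, bbb, bua, bub,
      smul_eq_mul, RingHom.id_apply]
    match_scalars
    · ring
    · ring
    · linear_combination -Φ.B u v * h4'
    · ring
  have hu0 : u ≠ 0 := by rintro rfl; simp at n
  refine h.le_of_big h7 hi h2 hE' hu0 (h.big h7 hi hE' hu0 hu ?_ (fun hm => ?_) ⟨e, this ▸ X.mul_mem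
    (X.mul_mem (X.mul_mem hsX rX) (X.inv_mem hsX)) (X.inv_mem rX), he⟩)
  · rw [← algebraMap_smul K, ← algebraMap_smul K c₄]; simp [-algebraMap_smul, ea, eb]
  · obtain ⟨k, hk⟩ := Submodule.mem_span_singleton.1 hm
    rw [← algebraMap_smul K c₃, ← algebraMap_smul K c₄] at hk
    rcases eq_or_ne k 0 with rfl | hk0
    · have := eq_of_indep (F := K) (a := a) (b := b) (by simpa [ha] using hx0)
        (fun ⟨k, hk⟩ => hn (Submodule.mem_span_singleton.2 ⟨k, hk.symm⟩)) (x := 0) (y := 0)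
        (by rw [← hk]; simp)
      simp only [eq_comm (a := (0 : K)), map_eq_zero] at this
      exact hc.elim (· this.1) (· this.2)
    · exact n ((Submodule.smul_mem_iff _ hk0).1 (hk ▸ add_mem (Submodule.mem_sup_left (Submodule.smul_mem _ _
        (Submodule.mem_span_singleton_self _))) (Submodule.smul_mem _ _ (mem_sup_self _ _))))

theorem isMaximalIn_alt [FiniteDimensional F V] [Finite F] [Finite V] (h : HS Φ Ψ L) (h7 : 7 ≤ finrank K V)
    (h2 : (2 : F) ≠ 0) (hQ : ∀ x, Φ.Q x = 0) (hτ : Φ.τ = 0) (hε : Φ.ε = -1) (hEG : EG Φ = Φ.isom)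
    (hf : ∀ c, τ (algebraMap F K c) = algebraMap F K c) (h1 : τ ≠ RingHom.id K) :
    Geo.IsMaximalIn (EG Φ) (normG (scal F K V) ⊓ EG Φ) := by
  obtain ⟨k, hk⟩ : ∃ k, τ k ≠ k := by_contra fun hx => h1 (RingHom.ext (by simpa using hx))
  have h3 : τ (k - τ k) = -(k - τ k) := by rw [map_sub, Ψ.σσ, neg_sub]
  have h4 : k - τ k ≠ 0 := sub_ne_zero.2 hk.symm
  generalize k - τ k = θ at h3 h4
  have h5 : τ θ ≠ θ := fun e => h4 (by
    have : (2 : K) ≠ 0 := by rw [← map_ofNat (algebraMap F K)]; simpa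
    exact mul_left_cancel₀ this (by linear_combination h3 - e))
  obtain ⟨δ, hδ⟩ := fixed h.deg hf h5 (k := θ * θ) (by rw [map_mul, h3]; ring)
  have hs : ∀ x, Ψ.Sing x → Φ.Sing x := fun x hx => ⟨hQ x, h.zero' hx.2⟩
  refine h.isMaximalIn h7 (notSp2_of_two h2) hs (fun p a d s hs => hEG ▸ ⟨fun x y => by
    rw [h.hB, h.hB]; exact congrArg L (hs.mem_isom.1 x y), fun x => by rw [hQ, hQ]⟩)
    (J := θ) (fun c e => h5 (by rw [← e, hf])) (c₁ := -δ) (c₃ := 0) (c₄ := 1) (Or.inr one_ne_zero)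
    (by rw [hτ, zero_mul]) (by rw [hε]; ring) fun x hx => ?_
  obtain ⟨r, hr⟩ := exists_isE h.hn (a := 0) (d := δ) (hs _ hx) (by simp) (by simp [hτ]) (by simp [hε])
  obtain ⟨r', hr'⟩ := exists_isE h.hn (a := 0) (d := -1) (hs _ (hx.smul θ)) (by simp) (by simp [hτ])
    (by simp [hε])
  have e : ∀ v, (r * r') v = v + (-δ * Φ.B x v) • x + Φ.B (θ • x) v • θ • x := fun v => by
    have : Φ.B x (θ • x) = 0 := by simpa using h.zero hx.2 1 θ
    rw [LinearEquiv.mul_apply, hr.app, hr'.app]; simp [this]; abel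
  refine ⟨r * r', mul_mem (IsE_mem_EG hr) (IsE_mem_EG hr'), fun v => ?_, fun v => by simp [e]⟩
  have hθ : θ • θ • x = δ • x := by rw [smul_smul, ← hδ, algebraMap_smul]
  rw [e, e, h.adj, h.adj, h3, neg_smul, neg_smul, hθ, smul_add, smul_add, smul_comm θ _ x, smul_comm θ _ (θ • x), hθ]
  simp only [map_neg, map_smul, LinearMap.neg_apply, LinearMap.smul_apply, smul_eq_mul]
  module

theorem isMaximalIn_quad [FiniteDimensional F V] [Finite F] [Finite V] {Q : QuadraticForm F V}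
    (h : HS (Formed.ofQuad Q) Ψ L) (h7 : 7 ≤ finrank K V) (hε : Ψ.ε = 1)
    (hsc : ∀ k : K, ∃ c : F, ∀ v, Q (k • v) = c * Q v)
    (hf : ∀ c, τ (algebraMap F K c) = algebraMap F K c) (h1 : τ ≠ RingHom.id K) :
    Geo.IsMaximalIn (EG (Formed.ofQuad Q)) (normG (scal F K V) ⊓ EG (Formed.ofQuad Q)) := by
  obtain ⟨J, hJ⟩ : ∃ k, τ k ≠ k := by_contra fun hx => h1 (RingHom.ext (by simpa using hx))
  obtain ⟨t, ht⟩ := fixed h.deg hf hJ (k := J + τ J) (by rw [map_add, Ψ.σσ, add_comm])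
  obtain ⟨n, hn⟩ := fixed h.deg hf hJ (k := J * τ J) (by rw [map_mul, Ψ.σσ, mul_comm])
  have hd := Module.finrank_mul_finrank F K V
  rw [h.deg] at hd
  obtain ⟨k₀, c, hQ⟩ : ∃ (k₀ : K) (c : F), ∀ x, Q x = c * L (k₀ * Ψ.B x x) := by
    have key : ∀ k : K, ∃ c : F, ∀ x, L (k * Ψ.B x x) = c * Q x := fun k => by
      obtain ⟨a, ha⟩ := hsc (1 + k)
      obtain ⟨b, hb⟩ := hsc k
      refine ⟨a - 1 - b, fun x => ?_⟩
      have := h.hB x (k • x)
      rw [Ψ.B_smul_right] at this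
      rw [← this, sub_mul, sub_mul, ← ha, ← hb, one_mul, add_smul, one_smul]; rfl
    obtain ⟨y, hy⟩ : ∃ y, Ψ.B y y ≠ 0 := by
      by_contra! hc
      obtain ⟨p, hp0, hp⟩ := exists_sing_top Ψ (by omega)
      obtain ⟨r, hr⟩ := h.hn'.exists_isPair hp0 hp
      have a1 := hc (p + r)
      have a2 := hc (p + J • r)
      simp only [map_add, LinearMap.add_apply, hc, hr.ef, hr.fe, hε, Ψ.B_smul_left, Ψ.B_smul_right] at a1 a2
      exact hJ (by linear_combination a2 - J * a1)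
    obtain ⟨k₁, hk₁⟩ := h.one
    obtain ⟨c, hc⟩ := key (k₁ / Ψ.B y y)
    have : c ≠ 0 := fun e => by simpa [e, hy, hk₁] using hc y
    exact ⟨_, c⁻¹, fun x => by rw [hc, inv_mul_cancel_left₀ this]⟩
  have hs : ∀ x, Ψ.Sing x → (Formed.ofQuad Q).Sing x := fun x hx => ⟨by simp [hQ, hx.2], h.zero' hx.2⟩
  refine h.isMaximalIn h7 (notSp2_quad Q) hs (fun p a d s hs => ?_)
    (J := J) (fun c e => hJ (by rw [← e, hf])) (c₁ := 0) (c₃ := -1) (c₄ := 0) (Or.inl (by simp))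
    (mul_zero _) (by simp) fun x hx => ?_
  · let g : OG Q := ⟨s.restrictScalars F, Formed.mem_isom_ofQuad.2 fun x => by
      rw [hQ, hQ x]; exact congrArg (fun y => c * L (k₀ * y)) (hs.mem_isom.1 x x)⟩
    have hx : NotExc Q := notExc_of_finrank (by omega)
    refine (mem_EG_quad h.hn (by omega) (g := g)).2 ((mem_commutator_iff h.hn hx g).2 ⟨dick_eq_one_iff.2 ?_, ?_⟩)
    · have := Module.finrank_mul_finrank F K (mov s)
      rw [h.deg] at this
      exact ⟨_, (show finrank F (mov g.1) = finrank F (mov s) from rfl).trans (this.symm.trans (two_mul _))⟩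
    · by_cases h2 : (2 : F) = 0
      · exact spin_of_two_eq_zero h2 g
      haveI : Fact (ringChar F).Prime := ⟨CharP.char_is_prime F _⟩
      haveI : CharP K (ringChar F) := charP_of_injective_algebraMap (algebraMap F K).injective _
      have h3 : g ^ ringChar F ^ 2 = 1 := Subtype.ext (LinearEquiv.ext fun v => by
        have := DFunLike.congr_fun (hs.pow_char (ringChar F)) v
        rw [LinearEquiv.pow_apply] at this
        exact (LinearEquiv.pow_apply _ _ _).trans this)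
      have h4 := congrArg (spinHom h.hn hx) h3
      rw [map_pow, map_one, spinHom_apply] at h4
      rcases Int.units_eq_one_or (spin g) with e | e
      · exact e
      · rw [e, Odd.neg_one_pow ((Nat.Prime.odd_of_ne_two Fact.out fun e => h2 (by
          simpa [e] using ringChar.Nat.cast_ringChar (R := F))).pow)] at h4
        exact absurd h4 (by decide)
  obtain ⟨r, hr⟩ := exists_isE0 h.hn (hs _ hx) (hs _ (hx.smul J)) (by simpa using h.zero hx.2 1 J)
  have e : ∀ v, r v = v + (Formed.ofQuad Q).B (J • x) v • x - (Formed.ofQuad Q).B x v • J • x := fun v => by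
    rw [hr.app]; simp [show (Formed.ofQuad Q).ε = 1 from rfl]
  refine ⟨r, IsE_mem_EG hr, fun v => ?_, fun v => by
    rw [e]; simp [show (Formed.ofQuad Q).ε = 1 from rfl, sub_eq_add_neg]⟩
  have a1 : τ J • J • x = n • x := by rw [smul_smul, mul_comm, ← hn, algebraMap_smul]
  have a2 : τ J • x = t • x - J • x := by rw [← algebraMap_smul K t, ht, add_smul]; abel
  have a3 : J • J • x = t • J • x - n • x := by rw [← a1, ← algebraMap_smul K t, ht, add_smul]; abel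
  rw [e, e, h.adj, h.adj, a1, a2, smul_sub, smul_add, smul_comm J _ x, smul_comm J _ (J • x), a3]
  simp only [map_sub, map_smul, LinearMap.sub_apply, LinearMap.smul_apply, smul_eq_mul]
  module

end HS

end Cfsg.Agent.Root.Mx
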