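import Cfsg.Agent.Root.Ext1
import Cfsg.Agent.Root.Sub5

/-! Extension field subgroups of prime degree, I: rings of endomorphisms of `K` containing `K`
(`exists_rk1_of_subring`), norm one elements generate `K` (`norm_one_gen`), and overgroups of
`SL_m(K)` in `GL(V_F)` (`TvK.centres`, `isMaximalIn_extSL`). -/

set_option autoImplicit false

namespace Cfsg.Agent.Root.Mx

open Cfsg.Agent.Geom Cfsg.Agent.AutCl Module

variable {F K : Type*} [Field F] [Field K] [Algebra F K] {V : Type*} [AddCommGroup V] [Module F V]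
  [Module K V] [IsScalarTower F K V]

local notation "f" => algebraMap F K

theorem mem_range_of_stab (hr : (finrank F K).Prime) {B : Submodule F K} (h0 : B ≠ ⊥) (h1 : B ≠ ⊤) {κ : K}
    (h : ∀ b ∈ B, κ * b ∈ B) : ∃ c, f c = κ := by
  let S : Subalgebra F K :=
    { carrier := {κ | ∀ b ∈ B, κ * b ∈ B}
      mul_mem' := fun ha hb b h => by rw [mul_assoc]; exact ha _ (hb b h)
      add_mem' := fun ha hb b h => by rw [add_mul]; exact add_mem (ha b h) (hb b h)
      algebraMap_mem' := fun c b h => by rw [← Algebra.smul_def]; exact B.smul_mem c h }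
  rcases (Subalgebra.isSimpleOrder_of_finrank_prime F K hr).eq_bot_or_eq_top S with e | e
  · exact Algebra.mem_bot.1 (e ▸ h : κ ∈ (⊥ : Subalgebra F K))
  · obtain ⟨b, hb, hb0⟩ := (Submodule.ne_bot_iff _).1 h0
    exact absurd (eq_top_iff.2 fun k _ => by simpa [hb0] using (e ▸ Algebra.mem_top : k / b ∈ S) b hb) h1

theorem exists_rk1_of_subring (hr : (finrank F K).Prime) (M : Subring (End F K)) (hK : ∀ k, LinearMap.mul F K k ∈ M)
    {ρ : End F K} (hρ : ρ ∈ M) (hn : ∀ k, ρ ≠ LinearMap.mul F K k) :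
    ∃ b : K, ∃ μ : Dual F K, b ≠ 0 ∧ μ ≠ 0 ∧ rk1 b μ ∈ M := by
  haveI : FiniteDimensional F K := .of_finrank_pos hr.pos
  have key : ∀ n, ∀ ρ ∈ M, finrank F (LinearMap.range ρ) = n → ρ ≠ 0 → LinearMap.ker ρ ≠ ⊥ →
      ∃ b : K, ∃ μ : Dual F K, b ≠ 0 ∧ μ ≠ 0 ∧ rk1 b μ ∈ M := fun n => by
    induction n using Nat.strong_induction_on with | _ n ih => ?_
    intro ρ hρ hn h0 hk
    obtain ⟨y, hy⟩ : ∃ y, ρ y ≠ 0 := by by_contra! hc; exact h0 (LinearMap.ext hc)
    by_cases hc : ∀ z, ρ z ∈ F ∙ ρ y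
    · obtain ⟨μ, h1, -⟩ := exists_fun (S := ⊥) (w := ρ y) (F := F) (by simpa)
      refine ⟨ρ y, μ ∘ₗ ρ, hy, fun e => by simpa [h1] using LinearMap.congr_fun e y, ?_⟩
      convert hρ using 1
      ext z
      obtain ⟨c, hc⟩ := Submodule.mem_span_singleton.1 (hc z)
      simp [← hc, h1]
    push Not at hc
    obtain ⟨z, hz⟩ := hc
    obtain ⟨t, ht, ht'⟩ : ∃ t ∈ LinearMap.ker ρ, ρ z / ρ y * t ∉ LinearMap.ker ρ := by
      by_contra! H
      obtain ⟨c, hc⟩ := mem_range_of_stab hr hk (by simpa [LinearMap.ker_eq_top]) H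
      exact hz (Submodule.mem_span_singleton.2 ⟨c, by rw [Algebra.smul_def, hc, div_mul_cancel₀ _ hy]⟩)
    have e1 : (ρ * LinearMap.mul F K (t / ρ y) * ρ) y = 0 := by simpa [hy] using ht
    refine ih _ ?_ _ (mul_mem (mul_mem hρ (hK (t / ρ y))) hρ) rfl (fun e => ht' ?_)
      ((Submodule.ne_bot_iff _).2 ⟨y, e1, by rintro rfl; simp at hy⟩)
    · have a1 := ρ.finrank_range_add_finrank_ker
      have a2 := (ρ * LinearMap.mul F K (t / ρ y) * ρ).finrank_range_add_finrank_ker
      have a3 : LinearMap.ker ρ < LinearMap.ker (ρ * LinearMap.mul F K (t / ρ y) * ρ) :=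
        SetLike.lt_iff_le_and_exists.2 ⟨fun x hx => by simp [LinearMap.mem_ker.1 hx], y, e1, hy⟩
      have := Submodule.finrank_lt_finrank_of_lt a3
      omega
    · simpa [div_mul_eq_mul_div, mul_comm t] using LinearMap.congr_fun e z
  exact key _ _ (sub_mem hρ (hK (ρ 1))) rfl (sub_ne_zero.2 (hn _))
    ((Submodule.ne_bot_iff _).2 ⟨1, by simp, one_ne_zero⟩)

theorem subring_eq_top [Finite K] (S : Subring K) (h : Nat.card K < Nat.card S ^ 2) : S = ⊤ := by
  letI := (Finite.isField_of_domain S).toField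
  haveI : Module.Finite S K := .of_finite
  have e := Module.natCard_eq_pow_finrank (K := S) (V := K)
  have h1 : finrank S K < 2 := by
    rw [e] at h; exact (Nat.pow_lt_pow_iff_right Finite.one_lt_card).1 h
  have h2 : 0 < finrank S K := finrank_pos
  rw [show finrank S K = 1 by omega, pow_one] at e
  exact SetLike.coe_injective (Set.eq_of_subset_of_ncard_le (Set.subset_univ _) (by
    rw [Subring.coe_top, Set.ncard_univ]; exact e.le))

theorem norm_one_gen [Finite K] (h2 : 2 ≤ finrank F K) (S : Subring K)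
    (h : ∀ κ, Algebra.norm F κ = 1 → κ ∈ S) : S = ⊤ := by
  haveI := Finite.of_injective _ (algebraMap F K).injective
  haveI : Module.Finite F K := .of_finite
  refine subring_eq_top S ?_
  let N := Units.map (Algebra.norm F (S := K))
  have e1 := N.ker.card_mul_index
  have e2 : N.ker.index ≤ Nat.card F - 1 := by
    rw [Subgroup.index_ker, ← Nat.card_units]; exact Nat.card_le_card_of_injective _ Subtype.val_injective
  have e3 : Nat.card N.ker ≤ Nat.card S := Nat.card_le_card_of_injective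
    (fun x => ⟨x.1.1, h _ (congrArg Units.val x.2)⟩) fun x y e => Subtype.ext (Units.ext (congrArg Subtype.val e))
  rw [Nat.card_units] at e1
  have e4 := Module.natCard_eq_pow_finrank (K := F) (V := K)
  obtain ⟨n, hn⟩ := Nat.exists_eq_add_of_le h2
  have e5 : 1 < Nat.card F := Finite.one_lt_card
  generalize Nat.card F = q at *
  have e6 : q ^ (n + 1) < Nat.card N.ker := by
    by_contra! hc
    have := Nat.mul_le_mul hc e2
    rw [e1, e4, hn, Nat.mul_sub, ← pow_succ, add_comm 2, mul_one, add_assoc, one_add_one_eq_two] at this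
    have a : q ^ (n + 1) < q ^ (n + 2) := Nat.pow_lt_pow_right e5 (by omega)
    have b : 1 < q ^ (n + 1) := Nat.one_lt_pow (by omega) e5
    omega
  calc Nat.card K ≤ (q ^ (n + 1)) ^ 2 := by rw [e4, hn, ← pow_mul]; exact Nat.pow_le_pow_right e5.le (by omega)
    _ < _ := Nat.pow_lt_pow_left (e6.trans_le e3) two_ne_zero

theorem addSubgroup_eq_top {T : Set K} (h1 : 1 ∈ T) (hm : ∀ a ∈ T, ∀ b ∈ T, a * b ∈ T)
    (H : ∀ S : Subring K, (∀ κ ∈ T, κ ∈ S) → S = ⊤) (A : AddSubgroup K) (h : ∀ κ ∈ T, κ ∈ A) (k : K) : k ∈ A := by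
  let S : Subring K :=
    { carrier := {k | ∀ a ∈ AddSubgroup.closure T, k * a ∈ AddSubgroup.closure T}
      mul_mem' := fun ha hb b h => by rw [mul_assoc]; exact ha _ (hb b h)
      add_mem' := fun ha hb b h => by rw [add_mul]; exact add_mem (ha b h) (hb b h)
      one_mem' := fun a h => by rwa [one_mul]
      zero_mem' := fun a h => by simp
      neg_mem' := fun ha b h => by rw [neg_mul]; exact neg_mem (ha b h) }
  have := H S fun κ hκ a ha => by
    induction ha using AddSubgroup.closure_induction with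
    | mem x hx => exact AddSubgroup.subset_closure (hm _ hκ _ hx)
    | zero => simp
    | add x y _ _ h1 h2 => rw [mul_add]; exact add_mem h1 h2
    | neg x _ h1 => rw [mul_neg]; exact neg_mem h1
  simpa using (AddSubgroup.closure_le A).2 h ((this ▸ Subring.mem_top k : k ∈ S) 1 (AddSubgroup.subset_closure h1))

theorem norm_one_add [Finite K] (h2 : 2 ≤ finrank F K) (A : AddSubgroup K)
    (h : ∀ κ, Algebra.norm F κ = 1 → κ ∈ A) (k : K) : k ∈ A :=
  addSubgroup_eq_top (T := {κ | Algebra.norm F κ = 1}) (by simp) (fun a ha b hb => by simp_all)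
    (norm_one_gen h2) A h k

theorem exists_dualK [FiniteDimensional F K] [FiniteDimensional K V] {μ : Dual F K} (hμ : μ ≠ 0) (ψ : Dual F V) :
    ∃ φ : Dual K V, ∀ v, μ (φ v) = ψ v := by
  haveI := FiniteDimensional.trans F K V
  let e : Dual K V →ₗ[F] Dual F V :=
    { toFun := fun φ => μ ∘ₗ φ.restrictScalars F
      map_add' := fun _ _ => by ext; simp
      map_smul' := fun _ _ => by ext; simp }
  have : Function.Injective e := (injective_iff_map_eq_zero _).2 fun φ h => LinearMap.ext fun v => by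
    by_contra hv
    exact hμ (LinearMap.ext fun k => by simpa [e, div_mul_cancel₀ _ hv] using LinearMap.congr_fun h ((k / φ v) • v))
  obtain ⟨φ, h⟩ := (LinearMap.injective_iff_surjective_of_finrank_eq_finrank (by
    rw [← finrank_mul_finrank F K, Subspace.dual_finrank_eq, Subspace.dual_finrank_eq,
      finrank_mul_finrank])).1 this ψ
  exact ⟨φ, fun v => LinearMap.congr_fun h v⟩

theorem eq_zero_of_dual {μ : Dual F K} (hμ : μ ≠ 0) {c : K} (h : ∀ k, μ (k * c) = 0) : c = 0 := by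
  by_contra hc
  exact hμ (LinearMap.ext fun k => by simpa [hc] using h (k / c))

/-- The map `k ↦ k • u`. -/
def kv (F K : Type*) [Field F] [Field K] [Algebra F K] {V : Type*} [AddCommGroup V] [Module F V]
  [Module K V] [IsScalarTower F K V] (u : V) : K →ₗ[F] V := (LinearMap.toSpanSingleton K V u).restrictScalars F

@[simp] theorem kv_apply (u : V) (k : K) : kv F K u k = k • u := rfl

/-- The scalars `k` with `g (k • u) ∈ K w`. -/
def Ak (K : Type*) [Field K] [Algebra F K] [Module K V] [IsScalarTower F K V] (g : V ≃ₗ[F] V) (u w : V) :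
    Submodule F K := ((K ∙ w).restrictScalars F).comap (g.toLinearMap ∘ₗ kv F K u)

theorem mem_Ak {g : V ≃ₗ[F] V} {u w : V} {k : K} : k ∈ Ak K g u w ↔ ∃ c : K, c • w = g (k • u) :=
  Submodule.mem_span_singleton

theorem mem_normG_of_points [Finite V] (hm : 2 ≤ finrank K V) {g : V ≃ₗ[F] V} (h : ∀ u, Ak K g u (g u) = ⊤) :
    g ∈ normG (scal F K V) := by
  refine mem_normG_scal.2 fun k => ?_
  choose c hc using fun u => mem_Ak.1 (h u ▸ Submodule.mem_top : k ∈ Ak K g u (g u))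
  have key : ∀ u v, g u ≠ 0 → g v ∉ K ∙ g u → c u = c v := fun u v hu hv => by
    have := hc (u + v)
    rw [smul_add, map_add, map_add, ← hc, ← hc, smul_add] at this
    have := eq_of_indep (F := K) hu (fun ⟨k, hk⟩ => hv (Submodule.mem_span_singleton.2 ⟨k, hk.symm⟩)) this
    exact this.1.symm.trans this.2
  haveI : FiniteDimensional K V := .of_finrank_pos (by omega)
  obtain ⟨u, -, hu⟩ := exists_notMem_of_lt (F := K) (U := ⊤) (R := (⊥ : Submodule K V)) (by simp; omega)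
  obtain ⟨w, -, hw⟩ := exists_notMem_of_lt (F := K) (U := ⊤) (R := K ∙ u) (by
    have := finrank_span_one (F := K) u; rw [finrank_top]; omega)
  obtain ⟨u, rfl⟩ := g.surjective u
  obtain ⟨w, rfl⟩ := g.surjective w
  have hu : g u ≠ 0 := by simpa using hu
  refine ⟨c u, fun v => ?_⟩
  rw [← hc]
  by_cases h1 : g v ∈ K ∙ g u
  · rcases eq_or_ne (g v) 0 with h0 | h0
    · simp [h0]
    rw [key u w hu hw, key v w h0 fun h2 => hw (((Submodule.span_singleton_le_iff_mem _ _).2 h1) h2)]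
  · rw [key u v hu h1]

theorem Ak_eq_top [Finite K] {g : V ≃ₗ[F] V} {u w : V} (hw : w ≠ 0) (h : Ak K g⁻¹ w u = ⊤) : Ak K g u w = ⊤ := by
  choose c hc using fun k : K => mem_Ak.1 (h ▸ Submodule.mem_top : k ∈ Ak K g⁻¹ w u)
  have : Function.Injective c := fun k k' e => smul_left_injective K hw ((g⁻¹).injective (by rw [← hc, ← hc, e]))
  refine eq_top_iff.2 fun k _ => ?_
  obtain ⟨k, rfl⟩ := Finite.surjective_of_injective this k
  exact mem_Ak.2 ⟨k, by simp [hc]⟩

theorem exists_coord2 (h2 : finrank K V = 2) {a b : V} (ha : a ≠ 0) (hb : b ∉ K ∙ a) (v : V) :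
    ∃ x y : K, v = x • a + y • b := by
  haveI : FiniteDimensional K V := .of_finrank_pos (by omega)
  have := finrank_lt_sup hb
  rw [finrank_span_singleton ha] at this
  have e := Submodule.eq_top_of_finrank_eq (S := (K ∙ a) ⊔ K ∙ b) (le_antisymm (Submodule.finrank_le _) (by omega))
  obtain ⟨_, h1, _, h2, rfl⟩ := Submodule.mem_sup.1 (e ▸ Submodule.mem_top : v ∈ (K ∙ a) ⊔ K ∙ b)
  obtain ⟨x, rfl⟩ := Submodule.mem_span_singleton.1 h1
  obtain ⟨y, rfl⟩ := Submodule.mem_span_singleton.1 h2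
  exact ⟨x, y, rfl⟩

/-- If all transvections with a given axis normalise `K`, then `K / F` is `𝔽₄ / 𝔽₂`. -/
theorem four_of_norm {lam : Dual F K} {x a : K} (hx : lam x = 1) (ha : lam a = 0) (ha0 : a ≠ 0)
    (h : ∀ a, lam a = 0 → ∀ k, ∃ k', (1 + rk1 a lam) * LinearMap.mul F K k = LinearMap.mul F K k' * (1 + rk1 a lam)) :
    (∀ c : F, c ≠ 0 → c = 1) ∧ (2 : K) = 0 ∧ ∀ z, lam z = 0 → z ∈ F ∙ a := by
  have key : ∀ a, lam a = 0 → a ≠ 0 → (∀ z, lam z = 0 → z ∈ F ∙ a) ∧ (2 : K) = 0 ∧ lam (x / a * x) = 1 :=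
    fun a ha ha0 => by
      obtain ⟨k', e⟩ := h a ha (x / a)
      have e1 := LinearMap.congr_fun e
      simp only [Module.End.mul_apply, LinearMap.add_apply, Module.End.one_apply, LinearMap.mul_apply',
        LinearMap.smulRight_apply, Algebra.smul_def] at e1
      have e2 := e1 a
      simp only [div_mul_cancel₀ _ ha0, hx, ha, map_one, map_zero] at e2
      obtain rfl : k' = x / a + 1 := by field_simp; linear_combination -e2
      have e3 := e1 x
      rw [hx, map_one] at e3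
      have e4 : 2 * x = f (lam (x / a * x) - 1) * a := by
        rw [map_sub, map_one]; linear_combination -e3 - div_mul_cancel₀ x ha0
      have e5 : (2 : F) = 0 := by
        have := congrArg lam e4
        rwa [← Algebra.smul_def, map_smul, ha, two_mul, map_add, hx, smul_zero, one_add_one_eq_two] at this
      have e6 : (2 : K) = 0 := by rw [← map_ofNat f, e5, map_zero]
      refine ⟨fun z hz => Submodule.mem_span_singleton.2 ⟨lam (x / a * z), ?_⟩, e6, ?_⟩
      · have := e1 z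
        rw [hz, map_zero] at this
        rw [Algebra.smul_def]; linear_combination this
      · simpa [e6, ha0, sub_eq_zero] using e4.symm
  refine ⟨fun c hc => ?_, (key a ha ha0).2.1, (key a ha ha0).1⟩
  have e1 := (key (c • a) (by simp [ha]) (by simp [hc, ha0])).2.2
  rw [show x / c • a * x = c⁻¹ • (x / a * x) by simp [Algebra.smul_def]; field_simp, map_smul,
    (key a ha ha0).2.2] at e1
  simpa using e1

theorem HasL.conj' {X : Subgroup (V ≃ₗ[F] V)} {N N' α : End F V} (h : HasL X N) (e : ∀ v, N' (v + N v) = -N v)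
    (h' : HasL X α) : HasL X ((1 + N) * α * (1 + N')) := by
  obtain ⟨s, hs, e'⟩ := h.exists_apply
  exact h'.conj hs fun v => by simp [e', ← map_add, e]

/-- Overgroups of the group of `K`-linear maps of `F`-determinant one. -/
structure TvK (K : Type*) [Field K] [Algebra F K] [Module K V] [IsScalarTower F K V] (X : Subgroup (V ≃ₗ[F] V)) :
    Prop where
  pr : (finrank F K).Prime
  two : 2 ≤ finrank K V
  tv : ∀ (w : V) (φ : Dual K V), Algebra.norm F (1 + φ w) = 1 → HasL X (kv F K w ∘ₗ φ.restrictScalars F)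

namespace TvK
variable {X : Subgroup (V ≃ₗ[F] V)} [Finite K]

omit [Finite K] in
theorem tv0 (h : TvK K X) {w : V} {φ : Dual K V} (e : φ w = 0) : HasL X (kv F K w ∘ₗ φ.restrictScalars F) :=
  h.tv w φ (by simp [e])

theorem fin0 (h : TvK K X) {a : V} {ψ : Dual F V} (ha : a ≠ 0) (h0 : ψ ≠ 0) (h1 : ∀ k : K, ψ (k • a) = 0)
    (H : HasL X (rk1 a ψ)) (p : V) : p ∈ centres X := by
  haveI : FiniteDimensional F K := .of_finrank_pos h.pr.pos
  haveI : FiniteDimensional K V := .of_finrank_pos (by have := h.two; omega)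
  obtain ⟨μ, hμ, -⟩ := exists_fun (S := (⊥ : Submodule F K)) (w := 1) (by simp)
  replace hμ : μ ≠ 0 := by rintro rfl; simp at hμ
  have dual : ∀ (ψ : Dual F V) a, (∀ k : K, ψ (k • a) = 0) → ∃ φ : Dual K V, φ a = 0 ∧ ∀ v, μ (φ v) = ψ v :=
    fun ψ a h => by
      obtain ⟨φ, e⟩ := exists_dualK hμ ψ
      exact ⟨φ, eq_zero_of_dual hμ fun k => by simpa [← e] using h k, e⟩
  obtain ⟨φ, e0, e1⟩ := dual ψ a h1
  obtain ⟨b, hb⟩ : ∃ b, φ b = 1 := by
    obtain ⟨v, hv⟩ : ∃ v, ψ v ≠ 0 := by by_contra! hc; exact h0 (LinearMap.ext hc)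
    exact ⟨(φ v)⁻¹ • v, by simpa using inv_mul_cancel₀ fun e => hv (by simp [← e1, e])⟩
  have n1 : ∀ φ' : Dual K V, φ' a = 0 → Algebra.norm F (φ' b) = 1 →
      HasL X (rk1 a (μ ∘ₗ φ'.restrictScalars F)) := fun φ' a1 a2 => by
    obtain ⟨s, hs, e⟩ := (h.tv b (φ' - φ) (by simpa [hb])).exists_apply
    refine H.conj (X.inv_mem hs) fun v => ?_
    obtain ⟨v, rfl⟩ := s.surjective v
    have : s.symm a = a := by rw [LinearEquiv.symm_apply_eq, e]; simp [a1, e0]
    simp [this]; simp [e, ← e1, hb]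
  have all : ∀ φ' : Dual K V, φ' a = 0 → HasL X (rk1 a (μ ∘ₗ φ'.restrictScalars F)) := by
    have ad : ∀ φ₁ φ₂ : Dual K V, φ₁ a = 0 → HasL X (rk1 a (μ ∘ₗ φ₁.restrictScalars F)) →
        HasL X (rk1 a (μ ∘ₗ φ₂.restrictScalars F)) → HasL X (rk1 a (μ ∘ₗ (φ₁ + φ₂).restrictScalars F)) :=
      fun φ₁ φ₂ e h1 h2 => (h1.add h2 (rk1_mul_zero (by simp [e]))).congr fun v => by simp [add_smul]
    have ng : ∀ φ₁ : Dual K V, φ₁ a = 0 → HasL X (rk1 a (μ ∘ₗ φ₁.restrictScalars F)) →
        HasL X (rk1 a (μ ∘ₗ (-φ₁).restrictScalars F)) :=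
      fun φ₁ e h1 => (h1.neg (rk1_mul_zero (by simp [e]))).congr fun v => by simp
    have z : ∀ φ' : Dual K V, φ' a = 0 → φ' b = 0 → HasL X (rk1 a (μ ∘ₗ φ'.restrictScalars F)) := fun φ' a1 a2 => by
      simpa using ad _ _ (by simp [a1, e0]) (n1 (φ' + φ) (by simp [a1, e0]) (by simp [a2, hb]))
        (ng _ e0 (n1 φ e0 (by simp [hb])))
    let A : AddSubgroup K :=
      { carrier := {k | HasL X (rk1 a (μ ∘ₗ (k • φ).restrictScalars F))}
        zero_mem' := z _ (by simp) (by simp)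
        add_mem' := fun h1 h2 => by simpa [add_smul] using ad _ _ (by simp [e0]) h1 h2
        neg_mem' := fun h1 => (ng _ (by simp [e0]) h1).congr fun v => by simp }
    have hA := norm_one_add h.pr.two_le A fun κ hκ => n1 _ (by simp [e0]) (by simp [hb, hκ])
    intro φ' a1
    simpa using ad _ _ (by simp [a1, e0]) (z (φ' - φ' b • φ) (by simp [a1, e0]) (by simp [hb])) (hA (φ' b))
  have mv : ∀ a b : V, b ∉ K ∙ a → a ≠ 0 → ∃ s ∈ X, (∀ (k : K) v, s (k • v) = k • s v) ∧ s a = b := fun a b hb ha => by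
    obtain ⟨φ, e1, e2⟩ := exists_fun (S := K ∙ (b - a)) (w := a) fun hc => by
      obtain ⟨c, hc⟩ := Submodule.mem_span_singleton.1 hc
      have := eq_of_indep (F := K) ha (fun ⟨k, hk⟩ => hb (Submodule.mem_span_singleton.2 ⟨k, hk.symm⟩))
        (x := -c) (y := c) (x' := 1) (y' := 0) (by linear_combination (norm := module) hc)
      simp [this.2] at this
    obtain ⟨s, hs, e⟩ := (h.tv0 (e2 _ (Submodule.mem_span_singleton_self _))).exists_apply
    exact ⟨s, hs, fun k v => by simp [e, smul_smul], by simp [e, e1]⟩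
  have hb' : b ∉ K ∙ a := fun hc => by
    obtain ⟨c, rfl⟩ := Submodule.mem_span_singleton.1 hc; simp [e0] at hb
  have ca : a ∈ centres X := fun ψ e2 => by
    obtain ⟨s, hs, e3, rfl⟩ := mv a b hb' ha
    obtain ⟨χ, c1, c2⟩ := exists_fun (S := K ∙ s a) (notMem_symm hb' ha)
    replace c2 := c2 _ (Submodule.mem_span_singleton_self _)
    obtain ⟨φ₁, d1, d2⟩ := dual ((ψ ∘ₗ kv F K a ∘ₗ χ.restrictScalars F) ∘ₗ s.toLinearMap) a (by simp [e3, c2])
    obtain ⟨φ₂, d3, d4⟩ := dual (ψ - ψ ∘ₗ kv F K a ∘ₗ χ.restrictScalars F) a (by simp [c1])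
    obtain ⟨k, hk⟩ : ∃ k, μ k = 1 := by
      obtain ⟨k, hk⟩ : ∃ k, μ k ≠ 0 := by by_contra! hc; exact hμ (LinearMap.ext hc)
      exact ⟨(μ k)⁻¹ • k, by simp [hk]⟩
    have h2 : HasL X (rk1 (s a) (ψ ∘ₗ kv F K a ∘ₗ χ.restrictScalars F)) :=
      ((all φ₁ d1).conj_rk1 hs).congr fun v => by simp [d2]
    have h3 := (all (k • φ) (by simp [e0])).comm h2 (rk1_mul_zero (by simp [e0])) (rk1_mul_zero (by simp [c2]))
      (rk1_mul_zero (by simp [c1, e2]))
    exact (h3.add (all φ₂ d3) (by ext v; simp [c1, e2])).congr fun v => by simp [hb, hk, d4, sub_smul]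
  have out : ∀ p, p ∉ K ∙ a → p ∈ centres X := fun p hp => by
    obtain ⟨s, hs, -, rfl⟩ := mv a p hp ha
    exact map_mem_centres ca hs
  by_cases hp : p ∈ K ∙ a
  · simpa using sub_mem (out (p + b) fun hc => hb' (by simpa using sub_mem hc hp)) (out b hb')
  · exact out p hp

theorem fin (h : TvK K X) {a : V} {D : End F V} (h0 : D ≠ 0) (h1 : D a = 0) (h2 : ∀ v, D v ∈ F ∙ a)
    (H : HasL X D) (p : V) : p ∈ centres X := by
  have ha : a ≠ 0 := by rintro rfl; exact h0 (LinearMap.ext fun v => by simpa using h2 v)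
  obtain ⟨μ, hμ, -⟩ := exists_fun (S := (⊥ : Submodule F V)) (w := a) (by simpa)
  have e : ∀ v, D v = μ (D v) • a := fun v => by
    obtain ⟨c, hc⟩ := Submodule.mem_span_singleton.1 (h2 v); simp [← hc, hμ]
  replace H : HasL X (rk1 a (μ ∘ₗ D)) := H.congr e
  have hψ : μ ∘ₗ D ≠ 0 := fun e0 => h0 (LinearMap.ext fun v => by
    rw [e, show μ (D v) = 0 from LinearMap.congr_fun e0 v]; simp)
  by_cases hc : ∀ k : K, μ (D (k • a)) = 0
  · exact h.fin0 ha hψ hc H p
  push Not at hc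
  obtain ⟨k, hk⟩ := hc
  haveI : FiniteDimensional K V := .of_finrank_pos (by have := h.two; omega)
  obtain ⟨w, -, hw⟩ := exists_notMem_of_lt (F := K) (U := ⊤) (R := K ∙ a) (by
    have := finrank_span_one (F := K) a; have := h.two; rw [finrank_top]; omega)
  obtain ⟨φ, e1, e2⟩ := exists_fun hw
  replace e2 := e2 _ (Submodule.mem_span_singleton_self _)
  refine h.fin0 (ψ := μ ∘ₗ D ∘ₗ kv F K a ∘ₗ φ.restrictScalars F) ha (fun e0 => hk (by
    simpa [e1] using LinearMap.congr_fun e0 (k • w))) (by simp [e2])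
    ((H.comm (h.tv0 e2) (rk1_mul_zero (by simp [h1])) (by ext; simp [e2]) (by ext; simp [e2])).congr
      fun v => by simp) p

/-- An element stabilising a `K`-point without normalising `K` on it. -/
theorem of_stab (h : TvK K X) {u : V} (hu : u ≠ 0) {N : End F V} {α : End F K} (H : HasL X N) (hN : N * N = 0)
    (e : ∀ k : K, N (k • u) = α k • u) (hn : ∃ k, ∀ k', (1 + α) * LinearMap.mul F K k ≠ LinearMap.mul F K k' * (1 + α))
    (p : V) : p ∈ centres X := by
  haveI : FiniteDimensional K V := .of_finrank_pos (by have := h.two; omega)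
  have nn : ∀ v, N (N v) = 0 := LinearMap.congr_fun hN
  have aa : ∀ k, α (α k) = 0 := fun k => by simpa [e, hu] using nn (k • u)
  let L : (V →ₗ[F] K) → Prop := fun θ => (∀ k : K, θ (k • u) = 0) ∧ HasL X (kv F K u ∘ₗ θ)
  have ad : ∀ θ θ', L θ → L θ' → L (θ + θ') := fun θ θ' a b => ⟨by simp [a.1, b.1],
    (a.2.add b.2 (by ext; simp [a.1])).congr (by simp [add_smul])⟩
  have ng : ∀ θ, L θ → L (-θ) := fun θ a => ⟨by simp [a.1], (a.2.neg (by ext; simp [a.1])).congr (by simp)⟩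
  let M : Subring (End F K) :=
    { carrier := {ρ | ∀ θ, L θ → L (ρ ∘ₗ θ)}
      mul_mem' := fun ha hb θ h => ha _ (hb θ h)
      add_mem' := fun ha hb θ h => by rw [LinearMap.add_comp]; exact ad _ _ (ha θ h) (hb θ h)
      one_mem' := fun θ h => h
      zero_mem' := fun θ h => ⟨by simp, by simpa using HasL.zero⟩
      neg_mem' := fun ha θ h => by rw [LinearMap.neg_comp]; exact ng _ (ha θ h) }
  obtain ⟨χ, c1, -⟩ := exists_fun (S := (⊥ : Submodule K V)) (w := u) (by simpa)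
  have hK : ∀ k, LinearMap.mul F K k ∈ M := norm_one_add h.pr.two_le
    (M.toAddSubgroup.comap (LinearMap.mul F K).toAddMonoidHom) fun κ hκ θ hθ => by
      obtain ⟨s, hs, e⟩ := (h.tv u ((κ - 1) • χ) (by simp [c1, hκ])).exists_apply
      exact ⟨by simp [hθ.1], hθ.2.conj hs fun v => by simp [e, hθ.1, c1, ← add_smul, smul_smul]; congr 1; ring⟩
  have cj : ∀ θ, L θ → L ((1 + α) ∘ₗ θ ∘ₗ (1 - N)) ∧ L ((1 - α) ∘ₗ θ ∘ₗ (1 + N)) := fun θ hθ =>
    ⟨⟨by simp [e, hθ.1], (H.conj' (N' := -N) (by simp [nn]) hθ.2).congr fun v => by simp [e, add_smul, sub_smul]; abel⟩,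
      by simp [e, hθ.1], ((H.neg hN).conj' (N' := N) (by simp [nn]) hθ.2).congr fun v => by
        simp [e, add_smul, sub_smul]; abel⟩
  obtain ⟨k, hk⟩ := hn
  obtain ⟨b, μ, hb, hμ, h1⟩ := exists_rk1_of_subring h.pr M hK (ρ := (1 + α) * LinearMap.mul F K k * (1 - α))
    (fun θ hθ => by convert (cj _ (hK k _ (cj θ hθ).2)).1 using 1; ext; simp [nn]) fun k' e => hk k' (by
      rw [← e]; ext; simp [aa])
  obtain ⟨w, -, hw⟩ := exists_notMem_of_lt (F := K) (U := ⊤) (R := K ∙ u) (by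
    have := finrank_span_one (F := K) u; have := h.two; rw [finrank_top]; omega)
  obtain ⟨φ, e1, e2⟩ := exists_fun hw
  replace e2 := e2 _ (Submodule.mem_span_singleton_self _)
  exact h.fin0 (a := b • u) (ψ := μ ∘ₗ φ.restrictScalars F) (by simp [hb, hu]) (fun e0 => hμ (LinearMap.ext fun k => by
    simpa [e1] using LinearMap.congr_fun e0 (k • w))) (by simp [e2])
    ((h1 (φ.restrictScalars F) ⟨by simp [e2], h.tv0 e2⟩).2.congr fun v => by simp) p

theorem four (h : TvK K X) (h2 : (2 : K) = 0) {ω : K} (hω : ω * ω = ω + 1) (hn : Algebra.norm F ω = 1)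
    (hK : ∀ k : K, ∃ c d : F, k = f c + f d * ω) {a b : V} (ha : a ≠ 0) (hb : b ∉ K ∙ a)
    (hV : ∀ v, ∃ x y : K, v = x • a + y • b) {N : End F V} (H : HasL X N) (n1 : N a = 0) (n2 : N (ω • a) = b)
    (n3 : N b = 0) (n4 : N (ω • b) = a ∨ N (ω • b) = a + b) (p : V) : p ∈ centres X := by
  haveI : FiniteDimensional K V := .of_finrank_pos (by have := h.two; omega)
  obtain ⟨φ, a1, a2⟩ := exists_fun hb
  obtain ⟨ψ, b1, b2⟩ := exists_fun (notMem_symm hb ha)
  replace a2 := a2 _ (Submodule.mem_span_singleton_self _)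
  replace b2 := b2 _ (Submodule.mem_span_singleton_self _)
  have ind : ∀ {P : V → Prop}, (∀ c₁ c₂ c₃ c₄ : F, P (c₁ • a + c₂ • ω • a + c₃ • b + c₄ • ω • b)) → ∀ v, P v :=
    fun H v => by
      obtain ⟨x, y, rfl⟩ := hV v
      obtain ⟨c₁, c₂, rfl⟩ := hK x
      obtain ⟨c₃, c₄, rfl⟩ := hK y
      simpa [add_smul, mul_smul, add_assoc] using H c₁ c₂ c₃ c₄
  have z : ∀ v : V, v + v = 0 := fun v => by rw [← two_smul K, h2, zero_smul]
  have z' : ∀ v w : V, v + (v + w) = w := fun v w => by rw [← add_assoc, z, zero_add]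
  have ng : ∀ v : V, -v = v := fun v => neg_eq_of_add_eq_zero_left (z v)
  have ωω : ∀ v : V, ω • ω • v = ω • v + v := fun v => by rw [smul_smul, hω, add_smul, one_smul]
  have hn' : Algebra.norm F (1 + ω) = 1 := by rw [add_comm, ← hω, map_mul, hn, one_mul]
  have hb0 : b ≠ 0 := by rintro rfl; simp at hb
  have hω0 : ω ≠ 0 := by rintro rfl; simp at hω
  have fin : ∀ g ∈ X, ∀ (c x : V), g x = x + c → c ≠ 0 → g c = c → g a - a ∈ F ∙ c → g (ω • a) - ω • a ∈ F ∙ c →
      g b - b ∈ F ∙ c → g (ω • b) - ω • b ∈ F ∙ c → p ∈ centres X := fun g hg c x e0 e1 e2 e3 e4 e5 e6 =>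
    h.fin (a := c) (D := g.toLinearMap - 1) (fun e => e1 (by simpa [e0] using LinearMap.congr_fun e x)) (by simp [e2])
      (ind fun c₁ c₂ c₃ c₄ => by
        simp only [map_add, map_smul]
        exact add_mem (add_mem (add_mem (Submodule.smul_mem _ _ e3) (Submodule.smul_mem _ _ e4))
          (Submodule.smul_mem _ _ e5)) (Submodule.smul_mem _ _ e6)) (HasL.of_apply hg (by simp)) p
  obtain ⟨s, hs, es⟩ := H.exists_apply
  have s1 : s a = a := by simp [es, n1]
  have s2 : s (ω • a) = ω • a + b := by rw [es, n2]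
  have s3 : s b = b := by simp [es, n3]
  have s4 := es (ω • b)
  rcases n4 with n4 | n4 <;> rw [n4] at s4
  · obtain ⟨t, ht, t1, t2, t3, t4⟩ : ∃ t ∈ X, t a = a + ω • b ∧ t (ω • a) = ω • a + ω • b + b ∧ t b = b + ω • b ∧
        t (ω • b) = b := by
      obtain ⟨t, ht, e⟩ := (h.tv (ω • b) (φ + ψ) (by simpa [a1, b2])).exists_apply
      exact ⟨t, ht, by simp [e, a1, a2, b1, b2, ωω, add_assoc, z']⟩
    refine fin _ (mul_mem (mul_mem (mul_mem hs ht) hs) ht) (a + b) b ?_ (fun e => hb ?_) ?_ ?_ ?_ ?_ ?_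
    pick_goal 2
    · rw [eq_neg_of_add_eq_zero_right e]; simp
    all_goals simp only [LinearEquiv.mul_apply, map_add, s1, s2, s3, s4, t1, t2, t3, t4, sub_eq_add_neg, ng]
    all_goals simp [z, z', add_comm, add_left_comm, add_assoc]
  obtain ⟨t, ht, t1, t2, t3, t4⟩ : ∃ t ∈ X, t a = b + ω • b ∧ t (ω • a) = b ∧
      t b = ω • a ∧ t (ω • b) = a + ω • a := by
    obtain ⟨t, ht, e⟩ := (h.tv0 (w := a + b + ω • b) (φ := ψ + ω • φ) (by
      simp [a1, a2, b1, b2, mul_add, hω]; linear_combination (ω + 1) * h2)).exists_apply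
    exact ⟨t, ht, by simp [e, a1, a2, b1, b2, ωω, mul_smul, add_comm, add_left_comm, add_assoc, z, z']⟩
  obtain ⟨r, hr, r1, r2, r3, r4⟩ : ∃ t ∈ X, t a = ω • b ∧ t (ω • a) = b + ω • b ∧
      t b = ω • a + ω • b ∧ t (ω • b) = a + ω • a + b + ω • b := by
    obtain ⟨t, ht, e⟩ := (h.tv (a + ω • b) (ψ + ω • φ) (by
      rw [show 1 + _ = 1 + ω by simp [a1, a2, b1, b2, hω]; linear_combination h2, hn'])).exists_apply
    exact ⟨t, ht, by simp [e, a1, a2, b1, b2, ωω, mul_smul, add_comm, add_left_comm, add_assoc, z, z']⟩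
  refine fin _ (mul_mem (mul_mem (mul_mem (mul_mem (mul_mem (mul_mem hs ht) hs) hr) hs) hr) hr) (ω • b) b ?_
    (by simp [hb0, hω0]) ?_ ?_ ?_ ?_ ?_
  all_goals simp only [LinearEquiv.mul_apply, map_add, s1, s2, s3, s4, t1, t2, t3, t4, r1, r2, r3, r4, sub_eq_add_neg, ng]
  all_goals simp [z, z', add_comm, add_left_comm, add_assoc]

theorem centres [Finite V] (h : TvK K X) {g₀ : V ≃ₗ[F] V} (hg₀ : g₀ ∈ X) (hn : g₀ ∉ normG (scal F K V)) (p : V) :
    p ∈ centres X := by
  haveI : FiniteDimensional F K := .of_finrank_pos h.pr.pos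
  haveI : FiniteDimensional K V := .of_finrank_pos (by have := h.two; omega)
  obtain ⟨_, ⟨g, hg, u, w, hu, rfl, h1, h0⟩, hmax⟩ := set_has_maximal_iff_noetherian.2 inferInstance
    {A : Submodule F K | ∃ g ∈ X, ∃ u w, u ≠ 0 ∧ A = Ak K g u w ∧ A ≠ ⊤ ∧ A ≠ ⊥} (by
      obtain ⟨u, hu⟩ := not_forall.1 (mt (mem_normG_of_points h.two) hn)
      exact ⟨_, g₀, hg₀, u, _, by rintro rfl; exact hu (eq_top_iff.2 fun k _ => mem_Ak.2 ⟨0, by simp⟩), rfl, hu,
        (Submodule.ne_bot_iff _).2 ⟨1, mem_Ak.2 ⟨1, by simp⟩, one_ne_zero⟩⟩)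
  obtain ⟨a, ha, ha0⟩ := (Submodule.ne_bot_iff _).1 h0
  obtain ⟨x, hx⟩ : ∃ x, x ∉ Ak K g u w := by by_contra! hc; exact h1 (eq_top_iff.2 fun x _ => hc x)
  obtain ⟨c, hc⟩ := mem_Ak.1 ha
  have hc0 : c • w ≠ 0 := by simp [hc, ha0, hu]
  have cj : ∀ φ : Dual K V, φ w = 0 → HasL X ((g⁻¹).toLinearMap ∘ₗ (kv F K w ∘ₗ φ.restrictScalars F) ∘ₗ g.toLinearMap) :=
    fun φ e => (h.tv0 e).conj (X.inv_mem hg) fun v => by simp
  have key : ∀ φ : Dual K V, φ w = 0 → φ (g (x • u)) ∈ Ak K g⁻¹ w u → ∀ k : K, φ (g (k • u)) ∈ Ak K g⁻¹ w u :=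
    fun φ e1 e2 k => by
      obtain ⟨s, hs, e⟩ := (cj φ e1).exists_apply
      have : Ak K s u u = ⊤ := by
        by_contra hc
        have le : Ak K g u w ≤ Ak K s u u := fun k hk => by
          obtain ⟨c, hc⟩ := mem_Ak.1 hk
          exact mem_Ak.2 ⟨k, by simp [e, ← hc, e1]⟩
        obtain ⟨y, hy⟩ := mem_Ak.1 e2
        exact hmax _ ⟨s, hs, u, u, hu, rfl, hc, fun e => h0 (eq_bot_iff.2 (e ▸ le))⟩
          (SetLike.lt_iff_le_and_exists.2 ⟨le, x, mem_Ak.2 ⟨x + y, by simp [e, add_smul, hy]⟩, hx⟩)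
      obtain ⟨y, hy⟩ := mem_Ak.1 (this ▸ Submodule.mem_top : k ∈ Ak K s u u)
      exact mem_Ak.2 ⟨y - k, by simp [sub_smul, hy, e]⟩
  have hB : Ak K g⁻¹ w u ≠ ⊤ := mt (Ak_eq_top (right_ne_zero_of_smul hc0)) h1
  have hx' : g (x • u) ∉ K ∙ w := fun e => hx e
  obtain ⟨φ₀, f1, f2⟩ := exists_fun hx'
  replace f2 := f2 _ (Submodule.mem_span_singleton_self _)
  obtain ⟨lam, l1, l2⟩ := exists_fun hx
  have hyp : ∀ k, k - lam k • x ∈ Ak K g u w := fun k => by
    have m : g (k • u) ∈ (K ∙ w) ⊔ K ∙ g (x • u) := by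
      by_contra hc
      obtain ⟨φ, e1, e2⟩ := exists_fun hc
      refine hB (eq_top_iff.2 fun y _ => ?_)
      simpa [e1] using key (y • φ) (by simp [e2 _ (Submodule.mem_sup_left (Submodule.mem_span_singleton_self _))])
        (by simp [e2 _ (mem_sup_self _ _)]) k
    obtain ⟨_, h1, _, h2, e⟩ := Submodule.mem_sup.1 m
    obtain ⟨κ', rfl⟩ := Submodule.mem_span_singleton.1 h1
    obtain ⟨κ, rfl⟩ := Submodule.mem_span_singleton.1 h2
    obtain ⟨d, rfl⟩ := mem_range_of_stab h.pr ((Submodule.ne_bot_iff _).2 ⟨c, mem_Ak.2 ⟨a, by simp [hc]⟩,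
      left_ne_zero_of_smul hc0⟩) hB (κ := κ) fun b hb => by
        simpa [← e, f1, f2, mul_comm] using key (b • φ₀) (by simp [f2]) (by simpa [f1]) k
    have : k - d • x ∈ Ak K g u w := mem_Ak.2 ⟨κ', by simp [sub_smul, ← e]⟩
    rwa [show lam k = d by simpa [l1, sub_eq_zero] using l2 _ this]
  have hN : ∀ a, lam a = 0 → ∃ N : End F V, HasL X N ∧ N * N = 0 ∧ (∀ k : K, N (k • u) = rk1 a lam k • u) ∧
      ∀ v, ∃ k : K, N v = g⁻¹ (k • w) := fun a ha => by
    obtain ⟨b, hb⟩ := mem_Ak.1 (show a ∈ Ak K g u w by simpa [ha] using hyp a)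
    refine ⟨_, cj (b • φ₀) (by simp [f2]), by ext; simp [f2], fun k => ?_, fun v => ⟨_, rfl⟩⟩
    obtain ⟨y, hy⟩ := mem_Ak.1 (hyp k)
    have : g (k • u) = y • w + lam k • g (x • u) := by simp [hy, sub_smul]
    simp [this, f1, f2, hb]
  by_cases H : ∃ a, lam a = 0 ∧ ∃ k, ∀ k', (1 + rk1 a lam) * LinearMap.mul F K k ≠
      LinearMap.mul F K k' * (1 + rk1 a lam)
  · obtain ⟨a, ha, H⟩ := H
    obtain ⟨N, n1, n2, n3, -⟩ := hN a ha
    exact h.of_stab hu n1 n2 n3 H p
  push Not at H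
  obtain ⟨q2, c2, hA⟩ := four_of_norm l1 (l2 a ha) ha0 H
  have hK : ∀ k : K, ∃ c d : F, k = f c + f d * (x / a) := fun k => by
    obtain ⟨c, hc⟩ := Submodule.mem_span_singleton.1 (hA _ (l2 _ (hyp (k * a))))
    refine ⟨c, lam (k * a), mul_right_cancel₀ ha0 ?_⟩
    simp only [Algebra.smul_def] at hc
    linear_combination -hc - f (lam (k * a)) * div_mul_cancel₀ x ha0
  have hω : ∀ c, f c ≠ x / a := fun c e => hx (by
    rw [show x = c • a by rw [Algebra.smul_def, e, div_mul_cancel₀ _ ha0]]; exact Submodule.smul_mem _ _ ha)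
  generalize x / a = ω at hK hω
  obtain ⟨z, hz⟩ : ∃ z, g z = ω • c • w := g.surjective _
  have hz' : z ∉ K ∙ u := fun e => by
    obtain ⟨k, rfl⟩ := Submodule.mem_span_singleton.1 e
    obtain ⟨d, rfl⟩ := Submodule.mem_span_singleton.1 (hA _ (l2 k (mem_Ak.2 ⟨ω * c, by rw [hz, mul_smul]⟩)))
    exact hω d (smul_left_injective K hc0 (by simp only [← hz]; simp [hc]))
  by_cases h3 : finrank K V = 2
  · obtain ⟨φ, e1, e2⟩ := exists_fun hz'
    replace e2 := e2 _ (Submodule.mem_span_singleton_self _)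
    have hb : g (x • u) ∉ K ∙ c • w := fun e => hx' (((Submodule.span_singleton_le_iff_mem _ _).2
      (Submodule.smul_mem _ _ (Submodule.mem_span_singleton_self _))) e)
    have ω0 : ω ≠ 0 := by simpa using (hω 0).symm
    have sp : ∀ k, k = 0 ∨ k = a ∨ k = x ∨ k = a + x := fun k => by
      obtain ⟨d, hd⟩ := Submodule.mem_span_singleton.1 (hA _ (l2 _ (hyp k)))
      rw [eq_sub_iff_add_eq] at hd
      rw [← hd]
      rcases (eq_or_ne d 0).imp_right (q2 d) with e | e <;>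
        rcases (eq_or_ne (lam k) 0).imp_right (q2 _) with e' | e' <;> simp [e, e']
    have ne : ∀ d : K, φ (g⁻¹ (ω • g (x • u) - d • c • w)) ≠ 0 := fun d e => by
      obtain ⟨α, β, e'⟩ := exists_coord2 h3 hu hz' (g⁻¹ (ω • g (x • u) - d • c • w))
      obtain rfl : β = 0 := by simpa [e', e1, e2] using e
      obtain ⟨y, hy⟩ := mem_Ak.1 (hyp α)
      refine hω (lam α) (by_contra fun hc => hx' ((Submodule.smul_mem_iff _ (sub_ne_zero.2 hc)).1
        (Submodule.mem_span_singleton.2 ⟨-(y + d * c), ?_⟩)))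
      have : g (α • u) = ω • g (x • u) - d • c • w := by simpa using congrArg g e'.symm
      rw [sub_smul, map_sub, this, smul_assoc (lam α), map_smul g (lam α), ← algebraMap_smul K (lam α)] at hy
      linear_combination (norm := module) -hy
    refine h.four c2 (ω := ω) ?_ (q2 _ (by simpa)) hK hc0 hb (exists_coord2 h3 hc0 hb)
      (N := g.toLinearMap ∘ₗ (kv F K u ∘ₗ (x • φ).restrictScalars F) ∘ₗ (g⁻¹).toLinearMap)
      ((h.tv0 (w := u) (φ := x • φ) (by simp [e2])).conj hg fun v => by simp) (by simp [hc, e2]) (by simp [← hz, e1]) (by simp [e2]) ?_ p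
    · obtain ⟨c, d, e⟩ := hK (ω * ω)
      have ω1 : ω - 1 ≠ 0 := by simpa [sub_eq_zero] using (hω 1).symm
      rcases (eq_or_ne c 0).imp_right (q2 c) with rfl | rfl <;>
        rcases (eq_or_ne d 0).imp_right (q2 d) with rfl | rfl <;> simp only [map_zero, map_one] at e
      · exact absurd (by simpa using e) ω0
      · exact absurd (by linear_combination e) (mul_ne_zero ω0 ω1)
      · exact absurd (by linear_combination e + (1 - ω) * c2) (mul_ne_zero ω1 ω1)
      · linear_combination e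
    have x0 : x ≠ 0 := by rintro rfl; simp at hx
    rcases sp (x * φ (g⁻¹ (ω • g (x • u)))) with e | e | e | e
    · exact absurd (by simpa [x0] using e) (ne 0)
    · exact Or.inl (by simp [hc] at e ⊢; rw [e])
    · exact absurd (by simpa [x0, ← hz, e1, sub_eq_zero] using e) (ne ω)
    · exact Or.inr (by simp [hc] at e ⊢; rw [e, add_smul, map_add])
  obtain ⟨y, -, hy⟩ := exists_notMem_of_lt (F := K) (U := ⊤) (R := (K ∙ u) ⊔ K ∙ z) (by
    have := finrank_span_one (F := K) u; have := h.two; have := finrank_sup_one (K ∙ u) z; rw [finrank_top]; omega)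
  obtain ⟨φ, e1, e2⟩ := exists_fun hy
  have e3 := e2 _ (Submodule.mem_sup_left (Submodule.mem_span_singleton_self _))
  obtain ⟨N, n1, n2, n3, n4⟩ := hN a (l2 a ha)
  refine h.fin0 (a := a • u) (ψ := lam ∘ₗ φ.restrictScalars F) (by simp [ha0, hu]) (fun e0 => by
    simpa [e1, l1] using LinearMap.congr_fun e0 (x • y)) (by simp [e3]) ((n1.comm (h.tv0 e3) n2 (by ext; simp [e3])
      (LinearMap.ext fun v => ?_)).congr fun v => by simp [n3]) p
  obtain ⟨k, hk⟩ := n4 v
  obtain ⟨α, β, e⟩ := hK (k / c)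
  rw [div_eq_iff (left_ne_zero_of_smul hc0)] at e
  have : k • w = g (α • a • u + β • z) := by simp [e, add_smul, mul_smul, ← hc, hz]
  simp [hk, this, e3, e2 _ (mem_sup_self _ _)]

end TvK

theorem det_kv [FiniteDimensional F K] [FiniteDimensional K V] {w : V} {φ : Dual K V} (h : 1 + φ w ≠ 0) :
    ∃ g : V ≃ₗ[F] V, (∀ v, g v = v + φ v • w) ∧ LinearMap.det g.toLinearMap = Algebra.norm F (1 + φ w) :=
  ⟨(LinearEquiv.dilatransvection h.isUnit).restrictScalars F, fun _ => rfl, by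
    conv_rhs => rw [← LinearMap.transvection.det, ← LinearMap.det_restrictScalars]
    rfl⟩

theorem tvK_of_le [Finite K] [Finite V] (hr : (finrank F K).Prime) (h2 : 2 ≤ finrank K V) {X : Subgroup (V ≃ₗ[F] V)}
    (h : normG (scal F K V) ⊓ SLg F V ≤ X) : TvK K X := by
  haveI : FiniteDimensional F K := .of_finrank_pos hr.pos
  haveI : FiniteDimensional K V := .of_finrank_pos (by omega)
  refine ⟨hr, h2, fun w φ e => ?_⟩
  obtain ⟨g, e1, e2⟩ := det_kv (F := F) (w := w) (φ := φ) fun e0 => by simp [e0] at e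
  exact HasL.of_apply (h ⟨mem_normG_scal.2 fun k => ⟨k, fun v => by simp [e1, smul_smul]⟩, mem_SLg.2 (e2.trans e)⟩) e1

theorem exists_notMem_normG [Finite V] (hr : 2 ≤ finrank F K) (h2 : 2 ≤ finrank K V) :
    ∃ g ∈ SLg F V, g ∉ normG (scal F K V) := by
  haveI : FiniteDimensional F K := .of_finrank_pos (by omega)
  haveI : FiniteDimensional K V := .of_finrank_pos (by omega)
  haveI := FiniteDimensional.trans F K V
  obtain ⟨u, -, hu⟩ := exists_notMem_of_lt (F := K) (U := ⊤) (R := (⊥ : Submodule K V)) (by simp; omega)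
  obtain ⟨w, -, hw⟩ := exists_notMem_of_lt (F := K) (U := ⊤) (R := K ∙ u) (by
    have := finrank_span_one (F := K) u; rw [finrank_top]; omega)
  obtain ⟨φ, e1, e2⟩ := exists_fun hw
  replace e2 := e2 _ (Submodule.mem_span_singleton_self _)
  obtain ⟨k, -, hk⟩ := exists_notMem_of_lt (F := F) (U := ⊤) (R := F ∙ (1 : K)) (by
    have := finrank_span_one (F := F) (1 : K); rw [finrank_top]; omega)
  obtain ⟨μ, m1, m2⟩ := exists_fun hk
  replace m2 := m2 _ (Submodule.mem_span_singleton_self _)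
  refine ⟨_, tv_mem_SLg (p := u) (φ := μ ∘ₗ φ.restrictScalars F) (by simp [e2]), fun hc => ?_⟩
  obtain ⟨k', e⟩ := mem_normG_scal.1 hc k
  have := e w
  simp only [LinearEquiv.transvection.apply, LinearMap.comp_apply, LinearMap.restrictScalars_apply, map_smul, e1,
    smul_eq_mul, mul_one, m1, m2] at this
  simpa using (eq_of_indep (F := K) (by simpa using hu) (fun ⟨k, hk⟩ => hw (Submodule.mem_span_singleton.2
    ⟨k, hk.symm⟩)) (x := 1) (y := k) (x' := 0) (y' := k') (by linear_combination (norm := module) this)).1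

section Mat
variable {ι : Type} [Fintype ι] [DecidableEq ι] [Module K (ι → F)] [IsScalarTower F K (ι → F)] [Finite F]

theorem isMaximalIn_extSL (hr : (finrank F K).Prime) (h2 : finrank F K < Fintype.card ι) :
    Geo.IsMaximalIn (SLg F (ι → F)) (normG (scal F K (ι → F)) ⊓ SLg F (ι → F)) ∧
      IsCoatom (normG (scal F K (ι → F))) := by
  haveI : FiniteDimensional F K := .of_finrank_pos hr.pos
  haveI : Finite K := Module.finite_of_finite F
  haveI := FiniteDimensional.right F K (ι → F)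
  have hm : 2 ≤ finrank K (ι → F) := by
    have := finrank_mul_finrank F K (ι → F)
    rw [finrank_fintype_fun_eq_card] at this
    by_contra! hc
    have := Nat.mul_le_mul_left (finrank F K) (Nat.lt_succ_iff.1 hc)
    omega
  obtain ⟨g, hg, hg'⟩ := exists_notMem_normG (V := ι → F) hr.two_le hm
  refine ⟨max_crit inf_le_right ⟨g, hg, fun h => hg' h.1⟩ fun X h1 h2 g hg hg' =>
    SLg_le ((tvK_of_le hr hm h1).centres hg fun h => hg' ⟨h, h2 hg⟩), fun e => hg' (e ▸ Subgroup.mem_top _),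
    fun X hX => eq_top_iff.2 fun s _ => ?_⟩
  obtain ⟨hle, g, hg, hg'⟩ := SetLike.lt_iff_le_and_exists.1 hX
  obtain ⟨κ, hκ⟩ := FiniteField.norm_surjective F K (LinearMap.det s.toLinearMap)
  obtain ⟨u, -, hu⟩ := exists_notMem_of_lt (F := K) (U := ⊤) (R := (⊥ : Submodule K (ι → F))) (by simp; omega)
  obtain ⟨φ, e1, -⟩ := exists_fun hu
  obtain ⟨t, e2, e3⟩ := det_kv (F := F) (w := u) (φ := (κ - 1) • φ) (by
    simp only [LinearMap.smul_apply, e1]; rintro e
    exact s.isUnit_det'.ne_zero (by rw [← hκ, show κ = 0 by simpa using e, Algebra.norm_zero]))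
  have ht : t ∈ X := hle (mem_normG_scal.2 fun k => ⟨k, fun v => by simp [e2, smul_smul, mul_left_comm]⟩)
  have : s * t⁻¹ ∈ SLg F _ := by
    rw [SLg, MonoidHom.mem_ker, map_mul, map_inv, mul_inv_eq_one, Units.ext_iff]
    simp [e3, e1, hκ]
  simpa using mul_mem (SLg_le ((tvK_of_le hr hm (inf_le_left.trans hle)).centres hg hg') this) ht

end Mat

end Cfsg.Agent.Root.Mx
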