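import Cfsg.Agent.Root.Max2

/-! Irreducible groups generated by reflections in vectors of norm one over a prime field `𝔽_p`,
`p > 3`: such a group containing a non-trivial Eichler map contains `Ω` (`RG.EG_le`). -/

set_option autoImplicit false

namespace Cfsg.Agent.Root.Mx

open Cfsg.Agent.Geom Cfsg.Agent.AutCl Module QuadraticMap

variable {F : Type*} [Field F] {V : Type*} [AddCommGroup V] [Module F V] {Q : QuadraticForm F V}

theorem exists_bin [Finite F] (h2 : (2 : F) ≠ 0) {a b : F} (ha : a ≠ 0) (hb : b ≠ 0) (c : F) :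
    ∃ x y : F, a * x ^ 2 + b * y ^ 2 = c := by
  have := Fintype.ofFinite F
  obtain ⟨x, y, h⟩ := FiniteField.exists_root_sum_quadratic (R := F)
    (f := Polynomial.C a * Polynomial.X ^ 2 + Polynomial.C 0 * Polynomial.X + Polynomial.C 0)
    (g := Polynomial.C b * Polynomial.X ^ 2 + Polynomial.C 0 * Polynomial.X + Polynomial.C (-c))
    (Polynomial.degree_quadratic ha) (Polynomial.degree_quadratic hb)
    (FiniteField.odd_card_of_char_ne_two fun h => h2 (by
      have := ringChar.Nat.cast_ringChar (R := F); rwa [h] at this))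
  simp at h
  exact ⟨x, y, by linear_combination h⟩

theorem exists_bin' [Finite F] (h2 : (2 : F) ≠ 0) (h3 : (3 : F) ≠ 0) {a b : F} (ha : a ≠ 0) (hb : b ≠ 0) :
    ∃ x y : F, x ≠ 0 ∧ x ≠ 2 ∧ a * x ^ 2 + b * y ^ 2 = 1 := by
  obtain ⟨x, y, hx, h⟩ : ∃ x y : F, x ≠ 0 ∧ a * x ^ 2 + b * y ^ 2 = 1 := by
    obtain ⟨x, y, h⟩ := exists_bin h2 ha hb 1
    by_cases hx : x = 0
    · have hy : y ≠ 0 := by rintro rfl; simp [hx] at h
      obtain ⟨m, hm, hm'⟩ : ∃ m : F, m ≠ 0 ∧ a + b * m ^ 2 ≠ 0 := by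
        by_cases e : a + b * 1 ^ 2 = 0
        · exact ⟨2, h2, fun e' => mul_ne_zero h3 hb (by linear_combination e' - e)⟩
        · exact ⟨1, one_ne_zero, e⟩
      refine ⟨-(2 * b * y * m) / (a + b * m ^ 2), y + m * (-(2 * b * y * m) / (a + b * m ^ 2)),
        by simp [*], ?_⟩
      rw [← h, hx]; field_simp; ring
    · exact ⟨x, y, hx, h⟩
  by_cases e : x = 2
  · exact ⟨-x, y, neg_ne_zero.2 hx, fun e' => mul_ne_zero h2 h2 (by linear_combination -e - e'),
      by linear_combination h⟩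
  · exact ⟨x, y, hx, e, h⟩

variable {Y : Subgroup (OG Q)}

/-- The roots of a subgroup of the orthogonal group. -/
def Ro (Y : Subgroup (OG Q)) (y : V) : Prop := Q y = 1 ∧ refl Q y ∈ Y

theorem Ro.map {y : V} (h : Ro Y y) {g : OG Q} (hg : g ∈ Y) : Ro Y (g.1 y) :=
  ⟨by rw [OG.map_Q, h.1], conj_refl g y ▸ mul_mem (mul_mem hg h.2) (inv_mem hg)⟩

theorem Ro.neg {y : V} (h : Ro Y y) : Ro Y (-y) := ⟨by simp [h.1], refl_neg (Q := Q) y ▸ h.2⟩

theorem Ro.app {y : V} (h : Ro Y y) (x : V) : (refl Q y).1 x = x - polar Q y x • y := by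
  simp [refl_apply, h.1]

theorem Ro.refl {y z : V} (h : Ro Y y) (hz : Ro Y z) : Ro Y (z - polar Q y z • y) :=
  h.app z ▸ hz.map h.2

/-- The Eichler map with data `p, a` lies in `Y`. -/
def Ae (Y : Subgroup (OG Q)) (p a : V) : Prop := Q p = 0 ∧ polar Q p a = 0 ∧ eich Q p a ∈ Y

section Ae
variable {p a b : V}

theorem Ae.add (h : Ae Y p a) (h' : Ae Y p b) : Ae Y p (a + b) :=
  ⟨h.1, by simp [h.2.1, h'.2.1], eich_add h.1 h.2.1 h'.2.1 ▸ mul_mem h.2.2 h'.2.2⟩

theorem ae_smul (hp : Q p = 0) (c : F) : Ae Y p (c • p) :=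
  ⟨hp, by simp [polar_self', hp], eich_smul_self hp c ▸ one_mem _⟩

theorem Ae.neg (h : Ae Y p a) : Ae Y p (-a) :=
  ⟨h.1, by simp [h.2.1], eich_neg h.1 h.2.1 ▸ inv_mem h.2.2⟩

theorem Ae.sub (h : Ae Y p a) (h' : Ae Y p b) : Ae Y p (a - b) := sub_eq_add_neg a b ▸ h.add h'.neg

theorem Ae.map (h : Ae Y p a) {g : OG Q} (hg : g ∈ Y) : Ae Y (g.1 p) (g.1 a) :=
  ⟨by rw [OG.map_Q, h.1], by rw [OG.map_polar, h.2.1],
    conj_eich g p a ▸ mul_mem (mul_mem hg h.2.2) (inv_mem hg)⟩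

theorem Ae.swap (h : Ae Y p a) (ha : Q a = 0) : Ae Y a p :=
  ⟨ha, by rw [polar_comm, h.2.1], eich_swap h.1 ha h.2.1 ▸ h.neg.2.2⟩

theorem Ae.of_smul {c : F} (h : Ae Y (c • p) a) (hc : c ≠ 0) : Ae Y p (c • a) := by
  have h1 : Q p = 0 := by simpa [quad_smul, hc] using h.1
  have h2 : polar Q p a = 0 := by simpa [hc] using h.2.1
  exact ⟨h1, by simp [h2], eich_smul_left h1 h2 c ▸ h.2.2⟩

theorem Ro.ae {y z : V} (h : Ro Y y) (hz : Ro Y z) (e : polar Q y z = 2) : Ae Y (z - y) y := by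
  have h1 : Q (z - y) = 0 := by rw [quad_sub, polar_comm, e, h.1, hz.1]; ring
  have h2 : polar Q (z - y) y = 0 := by rw [polar_sub_left, polar_comm, e, polar_self', h.1]; ring
  refine ⟨h1, h2, ?_⟩
  rw [eich_eq_refl_mul h1 h2 (by simp [h.1]), h.1, one_smul, add_sub_cancel]
  exact mul_mem hz.2 h.2

end Ae

/-- Irreducible reflection groups over prime fields of odd order. -/
structure RG (Y : Subgroup (OG Q)) : Prop where
  hn : (Formed.ofQuad Q).Nondeg
  two : (2 : F) ≠ 0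
  prime : ∀ c : F, ∃ n : ℕ, (n : F) = c
  irr : ∀ U : Submodule F V, U ≠ ⊥ → (∀ y, Ro Y y → y ∈ U ∨ ∀ u ∈ U, polar Q u y = 0) → U = ⊤

namespace RG
variable {p r a u y : V}

theorem smul (H : RG Y) (h : Ae Y p a) (c : F) : Ae Y p (c • a) := by
  obtain ⟨n, rfl⟩ := H.prime c
  induction n with
  | zero => simpa using ae_smul h.1 0
  | succ n ih => simpa [add_smul] using ih.add h

theorem of_smul (H : RG Y) {c : F} (h : Ae Y p (c • a)) (hc : c ≠ 0) : Ae Y p a := by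
  simpa [smul_smul, hc] using H.smul h c⁻¹

theorem smul_left (H : RG Y) (h : Ae Y p a) {c : F} (hc : c ≠ 0) : Ae Y (c • p) a :=
  H.of_smul (c := c⁻¹) (Ae.of_smul (by simpa [smul_smul, hc] using h) (inv_ne_zero hc)) (inv_ne_zero hc)

theorem of_root (H : RG Y) (h : Ae Y p a) (hy : Ro Y y) (e : polar Q y p = 0) (e' : polar Q y a ≠ 0) :
    Ae Y p y := by
  have := h.map hy.2
  rw [refl_of_perp e, hy.app] at this
  exact H.of_smul (by simpa using h.sub this) e'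

theorem exists_root (H : RG Y) (h0 : p ≠ 0) (ha : a ∉ F ∙ p) : ∃ y, Ro Y y ∧ polar Q y p ≠ 0 := by
  by_contra! hc
  exact ha (H.irr (F ∙ p) (by simpa using h0) (fun y hy => Or.inr fun u hu => by
    obtain ⟨c, rfl⟩ := Submodule.mem_span_singleton.1 hu
    simp [polar_comm Q p y, hc y hy]) ▸ trivial)

theorem EG_le_of_full [FiniteDimensional F V] (H : RG Y) (hp : p ≠ 0) (hq : Q p = 0)
    (h : ∀ v, polar Q p v = 0 → Ae Y p v) : EG (Formed.ofQuad Q) ≤ Y.map (OG Q).subtype := by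
  have hF : Full (Formed.ofQuad Q) (Y.map (OG Q).subtype) p := ⟨Formed.sing_ofQuad.2 hq, fun v d g hg =>
    ⟨_, (h v hg.pa).2.2, (IsE_eq_eich hg).symm⟩⟩
  obtain ⟨r, hr⟩ := H.hn.exists_ne hp
  obtain ⟨y, hy, e⟩ := H.exists_root hp (a := r) fun h => by
    obtain ⟨c, rfl⟩ := Submodule.mem_span_singleton.1 h
    simp [polar_self', hq] at hr
  refine EG_le_of_full' H.hn hF (s := (refl Q y).1) ⟨_, hy.2, rfl⟩ (refl Q y).2 ?_
  rw [hy.app]
  simpa [polar_self', hq, polar_comm Q p y] using e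

end RG

/-- A three-dimensional space `⟨p, r, a⟩` whose Eichler maps lie in `Y`. -/
structure T3 (Y : Subgroup (OG Q)) (p r a : V) : Prop extends RG Y where
  pa : Ae Y p a
  ra : Ae Y r a
  pr : polar Q p r = 1
  qa : Q a ≠ 0

theorem RG.exists_T3 (H : RG Y) {p a : V} (h : Ae Y p a) (h0 : p ≠ 0) (ha : a ∉ F ∙ p) :
    ∃ p r a, T3 Y p r a := by
  have key : ∀ p a, Ae Y p a → p ≠ 0 → a ∉ F ∙ p → (∃ p r a, T3 Y p r a) ∨
      ∃ a' y, a' ≠ 0 ∧ Ro Y y ∧ Ae Y a' y ∧ Q a = 0 := fun p a h h0 ha => by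
    obtain ⟨y, hy, e⟩ := H.exists_root h0 ha
    obtain ⟨c, hc⟩ : ∃ c : F, polar Q y (a + c • p) = 0 :=
      ⟨-(polar Q y a / polar Q y p), by simp [e]⟩
    have h1 := h.add (ae_smul h.1 c)
    have h2 := h1.map hy.2
    rw [refl_of_perp hc, hy.app] at h2
    have h3 : polar Q p (p - polar Q y p • y) ≠ 0 := by
      simpa [polar_self', h.1, polar_comm Q p y] using e
    by_cases hq : Q (a + c • p) = 0
    · refine Or.inr ⟨_, y, fun e0 => ha ?_, hy, H.of_smul (by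
        simpa using (h1.swap hq).sub (h2.swap hq)) e, by rwa [quad_add_smul_of_perp h.1 h.2.1] at hq⟩
      rw [eq_neg_of_add_eq_zero_left e0]
      exact neg_mem (Submodule.smul_mem _ _ (Submodule.mem_span_singleton_self _))
    · exact Or.inl ⟨p, _, _, H, h1, H.smul_left h2 (inv_ne_zero h3), by
        rw [polar_smul_right, smul_eq_mul, inv_mul_cancel₀ h3], hq⟩
  obtain h | ⟨a', y, h1, h2, h3, -⟩ := key p a h h0 ha
  · exact h
  refine (key a' y h3 h1 fun hc => ?_).resolve_right fun ⟨_, _, _, _, _, e⟩ => by simp [h2.1] at e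
  obtain ⟨c, rfl⟩ := Submodule.mem_span_singleton.1 hc
  simpa [quad_smul, h3.1] using h2.1

namespace T3
variable {p r a u : V} {α β γ α' β' γ' : F}

theorem symm (H : T3 Y p r a) : T3 Y r p a :=
  ⟨H.toRG, H.ra, H.pa, by rw [polar_comm, H.pr], H.qa⟩

/-- Perpendicular to the three-space. -/
def Pp (Q : QuadraticForm F V) (p r a u : V) : Prop :=
  polar Q p u = 0 ∧ polar Q r u = 0 ∧ polar Q a u = 0

/-- Moves inside the three-space. -/
def Mv (Y : Subgroup (OG Q)) (p r a : V) (α β γ α' β' γ' : F) : Prop :=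
  ∃ g ∈ Y, g.1 (α • p + β • a + γ • r) = α' • p + β' • a + γ' • r ∧ ∀ u, Pp Q p r a u → g.1 u = u

theorem Mv.trans {α'' β'' γ'' : F} (h : Mv Y p r a α β γ α' β' γ') (h' : Mv Y p r a α' β' γ' α'' β'' γ'') :
    Mv Y p r a α β γ α'' β'' γ'' := by
  obtain ⟨g, hg, e, f⟩ := h
  obtain ⟨g', hg', e', f'⟩ := h'
  exact ⟨g' * g, mul_mem hg' hg, by rw [OG.mul_apply, e, e'], fun u hu => by
    rw [OG.mul_apply, f u hu, f' u hu]⟩

theorem Mv.symm (h : Mv Y r p a γ β α γ' β' α') : Mv Y p r a α β γ α' β' γ' := by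
  obtain ⟨g, hg, e, f⟩ := h
  refine ⟨g, hg, ?_, fun u hu => f u ⟨hu.2.1, hu.1, hu.2.2⟩⟩
  rw [show α • p + β • a + γ • r = γ • r + β • a + α • p by abel, e]; abel

theorem m1 (H : T3 Y p r a) (k : F) (e1 : α' = α + 2 * k * Q a * β - k ^ 2 * Q a * γ)
    (e2 : β' = β - k * γ) : Mv Y p r a α β γ α' β' γ := by
  have h := H.smul H.pa k
  refine ⟨_, h.2.2, ?_, fun u hu => ?_⟩
  · rw [eich_apply h.1 h.2.1]
    simp only [polar_add_right, polar_smul_right, polar_smul_left, polar_self', h.1, H.pa.2.1, H.pr,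
      polar_comm Q a p, polar_comm Q a r, H.ra.2.1, quad_smul, smul_eq_mul, e1, e2]
    module
  · rw [eich_apply h.1 h.2.1]; simp [hu.1, hu.2.2]

theorem m2 (H : T3 Y p r a) (k : F) (e1 : γ' = γ + 2 * k * Q a * β - k ^ 2 * Q a * α)
    (e2 : β' = β - k * α) : Mv Y p r a α β γ α β' γ' := (H.symm.m1 k e1 e2).symm

theorem m1' (H : T3 Y p r a) (h0 : γ ≠ 0) (e : α * γ + Q a * β ^ 2 = α' * γ + Q a * β' ^ 2) :
    Mv Y p r a α β γ α' β' γ :=
  H.m1 ((β - β') / γ) (by field_simp; linear_combination -e) (by field_simp; ring)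

theorem m2' (H : T3 Y p r a) (h0 : α ≠ 0) (e : α * γ + Q a * β ^ 2 = α * γ' + Q a * β' ^ 2) :
    Mv Y p r a α β γ α β' γ' := (H.symm.m1' h0 (by linear_combination e)).symm

theorem tr [Finite F] (H : T3 Y p r a) (hν : ∀ c, α * γ + Q a * β ^ 2 ≠ Q a * c ^ 2)
    (e : α * γ + Q a * β ^ 2 = α' * γ' + Q a * β' ^ 2) : Mv Y p r a α β γ α' β' γ' := by
  have h1 : γ ≠ 0 := by rintro rfl; exact hν β (by ring)
  have h2 : γ' ≠ 0 := by rintro rfl; exact hν β' (by rw [e]; ring)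
  obtain ⟨t, s, h⟩ := exists_bin H.two (mul_ne_zero H.qa h1) (neg_ne_zero.2 (mul_ne_zero H.qa h2))
    ((α * γ + Q a * β ^ 2) * (γ - γ'))
  have h3 : α * γ + Q a * β ^ 2 - Q a * s ^ 2 ≠ 0 := sub_ne_zero.2 (hν s)
  refine ((H.m1' (α' := (α * γ + Q a * β ^ 2 - Q a * s ^ 2) / γ) (β' := s) h1 (by field_simp; ring)).trans
    (H.m2' (β' := t) (γ' := γ') (div_ne_zero h3 h1) ?_)).trans (H.m1' h2 ?_)
  · field_simp; linear_combination -h
  · rw [← e]; field_simp; linear_combination h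

theorem Q_w (H : T3 Y p r a) (hu : Pp Q p r a u) :
    Q (α • p + β • a + γ • r + u) = α * γ + Q a * β ^ 2 + Q u := by
  simp only [quad_add, quad_smul, polar_add_left, polar_smul_right, polar_smul_left, H.pa.1, H.ra.1,
    H.pa.2.1, H.pr, polar_comm Q a r, H.ra.2.1, hu.1, hu.2.1, hu.2.2, smul_eq_mul]
  ring

theorem polar_w (H : T3 Y p r a) (hu : Pp Q p r a u) {u' : V} (hu' : Pp Q p r a u') :
    polar Q (α • p + β • a + γ • r + u) (α' • p + β' • a + γ' • r + u') =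
      α * γ' + γ * α' + 2 * Q a * β * β' + polar Q u u' := by
  simp only [polar_add_left, polar_add_right, polar_smul_right, polar_smul_left, H.pa.1, H.ra.1,
    H.pa.2.1, H.pr, polar_comm Q a r, polar_comm Q a p, polar_comm Q r p, polar_comm Q u p,
    polar_comm Q u r, polar_comm Q u a, H.ra.2.1, hu.1, hu.2.1, hu.2.2, hu'.1, hu'.2.1, hu'.2.2,
    smul_eq_mul, polar_self']
  ring

theorem Mv.ro (h : Mv Y p r a α β γ α' β' γ') (hu : Pp Q p r a u) (hy : Ro Y (α • p + β • a + γ • r + u)) :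
    Ro Y (α' • p + β' • a + γ' • r + u) := by
  obtain ⟨g, hg, e, f⟩ := h
  have := hy.map hg
  rwa [map_add, e, f u hu] at this

theorem c0 (H : T3 Y p r a) (h : Ae Y p (α • p + β • a + (0 : F) • r + u)) : Ae Y p u := by
  convert (h.sub (ae_smul h.1 α)).sub (H.smul H.pa β) using 1; module

theorem c1 (H : T3 Y p r a) (hu : Pp Q p r a u) (hy : Ro Y (α • p + β • a + γ • r + u)) {c : F} (hc : c ≠ 0)
    (e : α * γ + Q a * β ^ 2 = Q a * c ^ 2) : Ae Y p u := by
  have hq := H.qa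
  obtain ⟨β', h0, h⟩ : ∃ β', β' ≠ 0 ∧ Mv Y p r a α β γ α β' 0 := by
    by_cases h0 : α = 0
    · have hβ : β ≠ 0 := by rintro rfl; simp [h0, hq, hc] at e
      exact ⟨β, hβ, H.m2 (-γ / (2 * Q a * β)) (by have := H.two; rw [h0]; field_simp; ring) (by simp [h0])⟩
    · exact ⟨c, hc, H.m2' h0 (by linear_combination e)⟩
  have h1 := h.ro hu hy
  refine H.c0 (H.of_root H.pa h1 ?_ ?_)
  · have := H.polar_w (α := α) (β := β') (γ := 0) (α' := 1) (β' := 0) (γ' := 0) hu (u' := 0) (by simp [Pp])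
    simp only [zero_smul, one_smul, add_zero] at this ⊢
    rw [this]; simp
  · have := H.polar_w (α := α) (β := β') (γ := 0) (α' := 0) (β' := 1) (γ' := 0) hu (u' := 0) (by simp [Pp])
    simp only [zero_smul, one_smul, add_zero, zero_add] at this ⊢
    rw [this]; simp [H.two, hq, h0]

theorem c2 (H : T3 Y p r a) (h3 : (3 : F) ≠ 0) (hu : Pp Q p r a u) (hy : Ro Y (α • p + β • a + γ • r + u))
    (h0 : α ≠ 0 ∨ γ ≠ 0) (e : α * γ + Q a * β ^ 2 = 0) : Ae Y p u := by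
  have hq := H.qa
  obtain ⟨α', h0, h⟩ : ∃ α', α' ≠ 0 ∧ Mv Y p r a α β γ α' 0 0 := by
    by_cases h1 : α = 0
    · have hγ := h0.resolve_left (not_not.2 h1)
      have h2 : -(Q a * γ) ≠ 0 := by simp [hq, hγ]
      exact ⟨_, h2, (H.m1' (β' := γ) hγ (by rw [e]; ring)).trans (H.m2' h2 (by ring))⟩
    · exact ⟨α, h1, H.m2' h1 (by rw [e]; ring)⟩
  have h1 := h.ro hu hy
  have h4 : (4 : F) ≠ 0 := fun h => mul_ne_zero H.two H.two (by linear_combination h)
  have h2 := (((H.m2' (γ := 0) (β := 0) (β' := α') (γ' := -(Q a * α')) h0 (by ring)).trans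
    (H.m1' (α' := 4 * α') (β' := 2 * α') (by simp [hq, h0]) (by ring))).trans
    (H.m2' (β' := 0) (γ' := 0) (mul_ne_zero h4 h0) (by ring))).ro hu h1
  have h5 := h1.ae h2 (by
    have := h1.1
    rw [H.Q_w hu] at this
    rw [H.polar_w hu hu, polar_self']; linear_combination 2 * this)
  rw [show (4 * α') • p + (0 : F) • a + (0 : F) • r + u - (α' • p + (0 : F) • a + (0 : F) • r + u) =
    (3 * α') • p by module] at h5
  exact H.c0 (H.of_smul (h5.of_smul (mul_ne_zero h3 h0)) (mul_ne_zero h3 h0))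

theorem pp_smul (hu : Pp Q p r a u) (c : F) : Pp Q p r a (c • u) := by simp [Pp, hu.1, hu.2.1, hu.2.2]

theorem c3 [Finite F] (H : T3 Y p r a) (h3 : (3 : F) ≠ 0) (hu : Pp Q p r a u)
    (hy : Ro Y (α • p + β • a + γ • r + u)) (h0 : α ≠ 0 ∨ β ≠ 0 ∨ γ ≠ 0) : Ae Y p u := by
  have hq := H.qa
  have h2 := H.two
  by_cases hν : ∃ c, α * γ + Q a * β ^ 2 = Q a * c ^ 2
  · obtain ⟨c, e⟩ := hν
    by_cases hc : c = 0
    · refine H.c2 h3 hu hy ?_ (by simpa [hc] using e)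
      by_contra! h
      simp [h.1, h.2, hc, hq] at e h0; exact h0 e
    · exact H.c1 hu hy hc e
  push Not at hν
  have hγ : γ ≠ 0 := by rintro rfl; exact hν β (by ring)
  have hn := hy.1
  rw [H.Q_w hu] at hn
  by_cases hμ : Q u = 0
  · have h1 := ((H.tr (α' := -α) (β' := -β) (γ' := -γ) hν (by ring)).ro hu hy).neg
    rw [show -(-α • p + -β • a + -γ • r + u) = α • p + β • a + γ • r + (-1 : F) • u by module] at h1
    have h4 := hy.ae h1 (by
      rw [H.polar_w hu (pp_smul hu _), polar_smul_right, polar_self', hμ, smul_eq_mul]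
      linear_combination 2 * hn - 2 * hμ)
    rw [show α • p + β • a + γ • r + (-1 : F) • u - (α • p + β • a + γ • r + u) = (-2 : F) • u by module] at h4
    have h5 := (H.of_smul (h4.of_smul (neg_ne_zero.2 h2)) (neg_ne_zero.2 h2)).sub (ae_smul hμ 1)
    rw [one_smul, add_sub_cancel_right] at h5
    have h6 : ∀ k : F, Ae Y u ((α + 2 * k * Q a * β - k ^ 2 * Q a * γ) • p + (β - k * γ) • a + γ • r) :=
      fun k => by
        obtain ⟨g, hg, e, f⟩ := H.m1 (α := α) (β := β) (γ := γ) k rfl rfl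
        have := h5.map hg
        rwa [e, f u hu] at this
    refine (H.of_smul (c := 2 * Q a * γ) ?_ (by simp [*])).swap H.pa.1
    convert ((h5.sub (h6 1)).add h5).sub (h6 (-1)) using 1; module
  obtain ⟨s, t, hs, hs2, e⟩ := exists_bin' h2 h3 hμ hq
  obtain ⟨ν, hν'⟩ : ∃ ν, ν = α * γ + Q a * β ^ 2 := ⟨_, rfl⟩
  have hν0 : ν ≠ 0 := fun h => hν 0 (by rw [← hν', h]; ring)
  obtain ⟨b, x, e'⟩ := exists_bin h2 hq (neg_ne_zero.2 hν0) (ν - (1 - s - 2 * Q u) ^ 2 / (4 * ν))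
  have h4 : (4 : F) ≠ 0 := fun h => mul_ne_zero h2 h2 (by linear_combination h)
  have y1 := (H.tr (α' := ν) (β' := 0) (γ' := 1) hν (by rw [← hν']; ring)).ro hu hy
  have e2 : ν * ((1 - s - 2 * Q u) / (2 * ν) + x) * ((1 - s - 2 * Q u) / (2 * ν) - x) + Q a * b ^ 2 = ν := by
    field_simp at e' ⊢; linear_combination e'
  have y2 := (H.tr (α' := ν * ((1 - s - 2 * Q u) / (2 * ν) + x)) (β' := b)
    (γ' := (1 - s - 2 * Q u) / (2 * ν) - x) hν (by rw [← hν', e2])).ro hu hy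
  have z := y1.refl y2
  rw [H.polar_w hu hu, polar_self', show ν * ((1 - s - 2 * Q u) / (2 * ν) - x) + 1 * (ν * ((1 - s - 2 * Q u) /
    (2 * ν) + x)) + 2 * Q a * 0 * b + 2 * Q u = 1 - s by field_simp; ring] at z
  generalize ν * ((1 - s - 2 * Q u) / (2 * ν) + x) = A at *
  generalize (1 - s - 2 * Q u) / (2 * ν) - x = C at *
  rw [show A • p + b • a + C • r + u - (1 - s) • (ν • p + (0 : F) • a + (1 : F) • r + u) =
    (A - (1 - s) * ν) • p + b • a + (C - (1 - s)) • r + s • u by module] at z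
  have zn := z.1
  rw [H.Q_w (pp_smul hu s), quad_smul] at zn
  refine H.of_smul (c := s) ?_ hs
  by_cases ht : t = 0
  · refine H.c2 h3 (pp_smul hu s) z ?_ (by rw [ht] at e; linear_combination zn - e)
    by_contra! h
    have hb : b = 0 := by
      rw [h.1] at zn
      rw [ht] at e
      exact pow_eq_zero_iff two_ne_zero |>.1 ((mul_eq_zero.1 (by linear_combination zn - e)).resolve_left hq)
    rw [sub_eq_zero.1 h.1, sub_eq_zero.1 h.2, hb] at e2
    exact mul_ne_zero hν0 (mul_ne_zero hs (sub_ne_zero.2 hs2)) (by linear_combination e2)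
  · exact H.c1 (pp_smul hu s) z ht (by linear_combination zn - e)

theorem EG_le [Finite F] [FiniteDimensional F V] (H : T3 Y p r a) (h3 : (3 : F) ≠ 0) :
    EG (Formed.ofQuad Q) ≤ Y.map (OG Q).subtype := by
  have hq := H.qa
  have h2 := H.two
  let U : Submodule F V :=
    { carrier := {v | ∃ c : F, Ae Y p (v - c • r)}
      zero_mem' := ⟨0, by simpa using ae_smul H.pa.1 0⟩
      add_mem' := fun ⟨c, h⟩ ⟨d, h'⟩ => ⟨c + d, by convert h.add h' using 1; module⟩
      smul_mem' := fun t _ ⟨c, h⟩ => ⟨t * c, by convert H.smul h t using 1; module⟩ }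
  have hr : r ≠ 0 := by rintro rfl; simpa using H.pr
  have hp : p ≠ 0 := by rintro rfl; simpa using H.pr
  have hU := H.irr U (fun h => hr ((Submodule.mem_bot F).1 (h ▸ ⟨1, by simpa using ae_smul H.pa.1 0⟩)))
    fun y hy => by
    obtain ⟨α, β, γ, u, hu, rfl⟩ : ∃ (α β γ : F) (u : V), Pp Q p r a u ∧ y = α • p + β • a + γ • r + u := by
      refine ⟨polar Q r y, polar Q a y / (2 * Q a), polar Q p y, y - (_ + _ + _), ?_, (add_sub_cancel _ _).symm⟩
      simp only [Pp, polar_add_right, polar_sub_right, polar_smul_right, H.pa.1, H.ra.1,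
        H.pa.2.1, H.pr, polar_comm Q a r, polar_comm Q a p, polar_comm Q r p, H.ra.2.1,
        smul_eq_mul, polar_self']
      refine ⟨by ring, by ring, by field_simp; ring⟩
    by_cases h0 : α ≠ 0 ∨ β ≠ 0 ∨ γ ≠ 0
    · exact Or.inl ⟨γ, by convert ((ae_smul H.pa.1 α).add (H.smul H.pa β)).add (H.c3 h3 hu hy h0) using 1; module⟩
    push Not at h0
    simp only [h0.1, h0.2.1, h0.2.2, zero_smul, zero_add] at hy ⊢
    by_cases h1 : ∃ v, Ae Y p v ∧ polar Q u v ≠ 0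
    · obtain ⟨v, hv, e⟩ := h1
      exact Or.inl ⟨0, by simpa using H.of_root hv hy (by rw [polar_comm, hu.1]) e⟩
    · push Not at h1
      refine Or.inr fun v ⟨c, hc⟩ => ?_
      have := h1 _ hc
      rwa [polar_sub_right, polar_smul_right, polar_comm Q u r, hu.2.1, smul_zero, sub_zero, polar_comm] at this
  refine H.EG_le_of_full hp H.pa.1 fun v hv => ?_
  obtain ⟨c, hc⟩ : v ∈ U := hU ▸ trivial
  have e := hc.2.1
  rw [polar_sub_right, polar_smul_right, H.pr, hv] at e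
  obtain rfl : c = 0 := by simpa using e
  simpa using hc

end T3

/-- An irreducible reflection group over `𝔽_p`, `p > 3`, with an Eichler map contains `Ω`. -/
theorem RG.EG_le [Finite F] [FiniteDimensional F V] (H : RG Y) (h3 : (3 : F) ≠ 0) {p a : V}
    (h : Ae Y p a) (h0 : p ≠ 0) (ha : a ∉ F ∙ p) : EG (Formed.ofQuad Q) ≤ Y.map (OG Q).subtype := by
  obtain ⟨_, _, _, h⟩ := H.exists_T3 h h0 ha
  exact h.EG_le h3

end Cfsg.Agent.Root.Mx
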