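import Cfsg.Agent.Root.Inv1
import Cfsg.Agent.ZC.Main
import Cfsg.Prelude.Def_QuasithinSetup

/-! Block systems for root involutions (`Blk`: members of different blocks have odd product).  In the action on the
blocks the image of `D` is product closed (`Blk.pc`), so there are no products of order four (`Blk.not_fo`) and the
image is a simple Bender group (`Blk.hyp`); the kernel is `Z_*(G)` (`Blk.ker_eq`). -/

namespace Cfsg.Agent.Root
open Cfsg MulAction

variable {G Ω : Type*} [Group G] [MulAction G Ω] {D : Set G} {β : G → Ω} {a b c d e k s t x y z : G} {ω : Ω}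

theorem RI.comm_mem_pCore [Finite G] (h : IsRootInvolutionSet D) {N : Subgroup G} [hN : N.Normal] (hd : d ∈ D)
    (ho : ∀ n ∈ N, ¬ Od d (n * d * n⁻¹)) {n : G} (hn : n ∈ N) : n * d * n⁻¹ * d ∈ pCore 2 G := by
  let F := {x | ∃ n ∈ N, x = n * d * n⁻¹}
  have hF : ∀ x ∈ F, x ∈ D := by rintro _ ⟨n, -, rfl⟩; exact h.conj_mem d hd n
  have hc : ∀ m ∈ N, ∀ x ∈ F, m * x * m⁻¹ ∈ F := by
    rintro m hm _ ⟨n, hn, rfl⟩; exact ⟨m * n, mul_mem hm hn, by group⟩
  have hp : IsPGroup 2 (Subgroup.closure F) := isPGroup_closure_of_four (fun x hx => RI.sq h (hF x hx))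
    (by
      rintro _ ⟨n, hn, rfl⟩ _ ⟨m, hm, rfl⟩
      refine ⟨m * (d * (m⁻¹ * n) * d⁻¹), mul_mem hm (hN.conj_mem _ (mul_mem (inv_mem hm) hn) d), ?_⟩
      conv_lhs => rw [← RI.inv h hd]
      conv_lhs => enter [1, 1, 1, 2]; rw [RI.inv h hd]
      conv_lhs => enter [1, 2, 1, 2]; rw [RI.inv h hd]
      group)
    (by
      rintro _ ⟨n, hn, rfl⟩ _ ⟨m, hm, rfl⟩
      refine RI.pow_four h (h.conj_mem d hd n) (h.conj_mem d hd m) fun o => ho (n⁻¹ * m) (mul_mem (inv_mem hn) hm) ?_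
      simpa [mul_assoc] using o.conj n⁻¹)
  have hn' : N ≤ Subgroup.normalizer ((Subgroup.closure F ⊓ N : Subgroup G) : Set G) := by
    have key : ∀ m ∈ N, ∀ x ∈ Subgroup.closure F ⊓ N, m * x * m⁻¹ ∈ Subgroup.closure F ⊓ N := fun m hm x hx =>
      ⟨(Subgroup.closure_le ((Subgroup.closure F).comap (MulAut.conj m).toMonoidHom)).2
        (fun y hy => Subgroup.subset_closure (hc m hm y hy)) hx.1, N.mul_mem (N.mul_mem hm hx.2) (N.inv_mem hm)⟩
    intro m hm x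
    exact ⟨key m hm x, fun k => by simpa [mul_assoc] using key _ (inv_mem hm) _ k⟩
  refine Solv.map_subtype_pCore_le N (Solv.le_map_pCore inf_le_right hn' (hp.to_le inf_le_left) ⟨mul_mem
    (Subgroup.subset_closure ⟨n, hn, rfl⟩) (Subgroup.subset_closure ⟨1, one_mem _, by simp⟩), ?_⟩)
  have := mul_mem hn (hN.conj_mem _ (inv_mem hn) d)
  rwa [RI.inv h hd, ← mul_assoc, ← mul_assoc] at this

theorem RI.le_twoZ [Finite G] (h : IsRootInvolutionSet D) {N : Subgroup G} [N.Normal]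
    (ho : ∀ d ∈ D, ∀ n ∈ N, ¬ Od d (n * d * n⁻¹)) : N ≤ twoZCore G := fun n hn => by
  refine Subgroup.mem_center_iff.2 fun g => ?_
  obtain ⟨g, rfl⟩ := QuotientGroup.mk'_surjective _ g
  have : g ∈ (Subgroup.centralizer {QuotientGroup.mk' (pCore 2 G) n}).comap (QuotientGroup.mk' (pCore 2 G)) := by
    refine (Subgroup.closure_le _).2 (fun d hd => ?_) (h.generates.ge (Subgroup.mem_top g))
    refine Subgroup.mem_centralizer_singleton_iff.2 ?_
    have := (QuotientGroup.eq_one_iff _).2 (RI.comm_mem_pCore h hd (ho d hd) hn)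
    rw [← RI.inv h hd] at this
    conv at this => enter [1, 1, 1, 1, 2]; rw [RI.inv h hd]
    simp only [QuotientGroup.mk_mul, QuotientGroup.mk_inv, mul_inv_eq_one] at this
    simpa using (mul_inv_eq_iff_eq_mul.1 this).symm
  exact Subgroup.mem_centralizer_singleton_iff.1 this

theorem RI.not_od_twoZ (h : IsRootInvolutionSet D) (hd : d ∈ D) (hz : z ∈ twoZCore G) :
    ¬ Od d (z * d * z⁻¹) := fun o => by
  have h1 : d * (z * d * z⁻¹) ∈ pCore 2 G := by
    rw [← QuotientGroup.eq_one_iff]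
    have := Subgroup.mem_center_iff.1 hz (QuotientGroup.mk' _ d)
    simp only [QuotientGroup.mk'_apply] at this
    rw [QuotientGroup.mk_mul, QuotientGroup.mk_mul, QuotientGroup.mk_mul, ← this, QuotientGroup.mk_inv,
      mul_inv_cancel_right, ← QuotientGroup.mk_mul, RI.sq h hd, QuotientGroup.mk_one]
  obtain ⟨k, hk⟩ := Solv.isPGroup_pCore 2 G ⟨_, h1⟩
  exact o.not_pow (RI.sq h (h.conj_mem d hd z)) (congrArg Subtype.val hk)

/-- a block system: members of different blocks have odd product -/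
structure Blk (D : Set G) (β : G → Ω) : Prop where
  ri : IsRootInvolutionSet D
  equi : ∀ d ∈ D, ∀ g : G, β (g * d * g⁻¹) = g • β d
  od : ∀ a ∈ D, ∀ b ∈ D, β a ≠ β b → Od a b
  surj : ∀ ω, ∃ d ∈ D, β d = ω
  two : ∃ a ∈ D, ∃ b ∈ D, β a ≠ β b

theorem dih (ht : t * t = 1) (hy : y * y = 1) (o : Odd (orderOf (t * y * (t * y)))) :
    ∃ g, Commute (g * y * g⁻¹) t ∧ Commute (t * (g * y * g⁻¹)) y := by
  obtain ⟨j, hj⟩ := o
  have it := inv_eq_of_mul_eq_one_left ht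
  have iy := inv_eq_of_mul_eq_one_left hy
  have h1 : ∀ n : ℕ, t * (t * y) ^ n * t⁻¹ = ((t * y) ^ n)⁻¹ := fun n => by
    rw [← conj_pow, ← inv_pow, mul_inv_rev, it, iy, ← mul_assoc, ht, one_mul]
  have h2 : ∀ n : ℕ, y * (t * y) ^ n * y⁻¹ = ((t * y) ^ n)⁻¹ := fun n => by
    rw [← conj_pow, ← inv_pow, mul_inv_rev, it, iy, mul_assoc, mul_assoc, hy, mul_one]
  have h3 : ((t * y) ^ (2 * j + 1))⁻¹ = (t * y) ^ (2 * j + 1) := by
    apply inv_eq_of_mul_eq_one_left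
    rw [← (Commute.refl _).mul_pow, ← hj, pow_orderOf_eq_one]
  have e : (t * y) ^ j * t * y * ((t * y) ^ j * t)⁻¹ = (t * y) ^ (2 * j + 1) * t := by
    rw [mul_inv_rev, ← h1 j, it, ← mul_assoc t, ← mul_assoc t, ht, one_mul,
      mul_assoc ((t * y) ^ j) t y, ← pow_succ, ← mul_assoc, ← pow_add]
    congr 2; ring
  have c1 : Commute t ((t * y) ^ (2 * j + 1)) := mul_inv_eq_iff_eq_mul.1 ((h1 _).trans h3)
  have c2 : Commute y ((t * y) ^ (2 * j + 1)) := mul_inv_eq_iff_eq_mul.1 ((h2 _).trans h3)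
  refine ⟨(t * y) ^ j * t, e ▸ c1.symm.mul_left (Commute.refl t), ?_⟩
  rw [e, ← c1.eq, ← mul_assoc, ht, one_mul]
  exact c2.symm

namespace Blk
variable (h : Blk D β)
include h

theorem fix (hd : d ∈ D) (hc : Commute s d) : s • β d = β d := by rw [← h.equi d hd, hc.eq, mul_inv_cancel_right]

theorem exists_conj (ha : a ∈ D) (hb : b ∈ D) (hne : β a ≠ β b) : ∃ m : ℕ, (a * b) ^ m * a * ((a * b) ^ m)⁻¹ = b :=
  (h.od a ha b hb hne).exists_conj (RI.sq h.ri ha) (RI.sq h.ri hb)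

theorem uniq (hd : d ∈ D) (k : d • ω = ω) : ω = β d := by
  obtain ⟨e, he, rfl⟩ := h.surj ω
  by_contra hne
  obtain ⟨m, hm⟩ := h.exists_conj hd he (Ne.symm hne)
  have : (d * e) ^ m ∈ stabilizer G (β e) := pow_mem (mul_mem k (h.fix he (Commute.refl e))) m
  refine hne (smul_left_cancel ((d * e) ^ m) ?_)
  rw [← h.equi d hd, hm]; exact this

theorem exists_ne (ω : Ω) : ∃ b ∈ D, β b ≠ ω := by
  obtain ⟨a, ha, b, hb, hne⟩ := h.two
  by_cases e : β a = ω
  exacts [⟨b, hb, e ▸ hne.symm⟩, ⟨a, ha, e⟩]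

theorem not_triv (hd : d ∈ D) : ¬ ∀ ω : Ω, d • ω = ω := fun k =>
  let ⟨_, _, hb⟩ := h.exists_ne (β d)
  hb (h.uniq hd (k _))

theorem isConj (ha : a ∈ D) (hb : b ∈ D) : IsConj a b := by
  have key : ∀ a ∈ D, ∀ b ∈ D, β a ≠ β b → IsConj a b := fun a ha b hb k =>
    let ⟨_, hm⟩ := h.exists_conj ha hb k
    isConj_iff.2 ⟨_, hm⟩
  by_cases e : β a = β b
  · obtain ⟨c, hc, k⟩ := h.exists_ne (β a)
    exact (key a ha c hc k.symm).trans (key c hc b hb (e ▸ k))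
  · exact key a ha b hb e

theorem dih (ht : t * t = 1) (hy : y ∈ D) (k : t • β y ≠ β y) : ∃ d ∈ D, Commute d t ∧ Commute (t * d) y := by
  have o := (h.od _ (h.ri.conj_mem y hy t) y hy (h.equi y hy t ▸ k)).2
  rw [inv_eq_of_mul_eq_one_left ht, mul_assoc] at o
  obtain ⟨g, hg⟩ := Root.dih ht (RI.sq h.ri hy) o
  exact ⟨_, h.ri.conj_mem y hy g, hg⟩

theorem typ (ha : a ∈ D) (hc : c ∈ D) (k : Commute a c) (hne : a * c ≠ 1) (hx : x ∈ D) (k' : Commute x (a * c)) :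
    β x = β a := by
  by_contra e
  refine hne (RI.eq_one h.ri ha hx (h.od _ hx _ ha e).symm ?_ ((Commute.refl a).mul_left k.symm) k'.symm ?_)
  · rw [mul_assoc, ← mul_assoc c, ← k.eq, mul_assoc, RI.sq h.ri hc, mul_one, RI.sq h.ri ha]
  · rwa [← mul_assoc, RI.sq h.ri ha, one_mul]

theorem mul_img (ha : a ∈ D) (hc : c ∈ D) (k : Commute a c) :
    (∀ ω : Ω, (a * c) • ω = ω) ∨ ∃ d ∈ D, ∀ ω : Ω, (a * c) • ω = d • ω := by
  refine or_iff_not_imp_left.2 fun hn => ?_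
  have hne : a * c ≠ 1 := fun e => hn fun ω => by rw [e, one_smul]
  have ty := fun x => h.typ (x := x) ha hc k hne
  have h2 : a * c * (a * c) = 1 := by
    rw [mul_assoc, ← mul_assoc c, ← k.eq, mul_assoc, RI.sq h.ri hc, mul_one, RI.sq h.ri ha]
  have hf := h.fix ha ((Commute.refl a).mul_left k.symm)
  generalize a * c = k at *
  push Not at hn
  obtain ⟨ω, hn⟩ := hn
  obtain ⟨y, hy, rfl⟩ := h.surj ω
  obtain ⟨d, hd, c1, c2⟩ := h.dih h2 hy hn
  have c3 : Commute (k * d) d := c1.symm.mul_left (Commute.refl d)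
  have e1 : k * d * d = k := by rw [mul_assoc, RI.sq h.ri hd, mul_one]
  have h3 : k * d * (k * d) = 1 := by rw [mul_assoc, ← mul_assoc d, c1.eq, mul_assoc, RI.sq h.ri hd, mul_one, h2]
  have hdy : β d ≠ β y := fun e => hn (by rw [← e, ty d hd c1, hf])
  refine ⟨d, hd, fun ω => ?_⟩
  rw [← e1, mul_smul]
  generalize k * d = s at *
  obtain ⟨y', hy', e⟩ := h.surj (d • ω)
  rw [← e]
  by_contra hn'
  obtain ⟨d', hd', c4, c5⟩ := h.dih h3 hy' hn'
  have key : ∀ a ∈ D, ∀ b ∈ D, Commute s a → Commute s b → β a ≠ β b → ∃ g, Commute s g ∧ g * a * g⁻¹ = b :=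
    fun a ha b hb k1 k2 k3 => let ⟨m, hm⟩ := h.exists_conj ha hb k3; ⟨_, (k1.mul_right k2).pow_right m, hm⟩
  obtain ⟨g, c6, rfl⟩ : ∃ g, Commute s g ∧ g * d * g⁻¹ = d' := by
    by_cases e' : β d = β d'
    · obtain ⟨g, k1, k2⟩ := key d hd y hy c3 c2 hdy
      obtain ⟨g', k3, k4⟩ := key y hy d' hd' c2 c4.symm (e' ▸ hdy.symm)
      exact ⟨g' * g, k3.mul_right k1, by rw [← k4, ← k2]; group⟩
    · exact key d hd d' hd' c3 c4.symm e'
  have e2 : β (g⁻¹ * y' * g⁻¹⁻¹) = β d := by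
    refine (ty _ (h.ri.conj_mem y' hy' _) ?_).trans (ty d hd c1).symm
    have := c5.symm.conj g⁻¹
    rwa [show g⁻¹ * (s * (g * d * g⁻¹)) * g⁻¹⁻¹ = g⁻¹ * (s * g) * d by group, c6.eq, inv_mul_cancel_left, e1] at this
  rw [h.equi y' hy', inv_smul_eq_iff, ← h.equi d hd] at e2
  exact hn' (e2 ▸ h.fix hd' c4.symm)

theorem comm_of_img (ha : a ∈ D) (hc : c ∈ D) (k : ∀ ω : Ω, (a * c * a * c) • ω = ω) (hne : ¬ ∀ ω : Ω, (a * c) • ω = ω) :
    Commute a c := by
  rcases RI.pair h.ri ha hc with k' | k' | k'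
  · exact k'
  · obtain ⟨m, hm⟩ := k'.2
    refine absurd (fun ω => ?_) hne
    have : (a * c) ^ (2 * m) ∈ stabilizer G ω := by
      rw [pow_mul, sq, ← mul_assoc]; exact pow_mem (k ω) m
    conv_rhs => rw [← one_smul G ω, ← pow_orderOf_eq_one (a * c), hm, pow_succ', mul_smul, this]
  · exact absurd k (h.not_triv (RI.fo_mem h.ri ha hc k'))

end Blk

/-- the image in the action -/
abbrev Im (G Ω : Type*) [Group G] [MulAction G Ω] : Subgroup (Equiv.Perm Ω) := (toPermHom G Ω).range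

/-- the projection onto the image -/
abbrev im (Ω : Type*) [MulAction G Ω] : G →* Im G Ω := (toPermHom G Ω).rangeRestrict

theorem im_smul (g : G) (ω : Ω) : im Ω g • ω = g • ω := rfl

theorem im_eq_iff : im Ω a = im Ω b ↔ ∀ ω : Ω, a • ω = b • ω :=
  ⟨fun e ω => by rw [← im_smul, e, im_smul], fun e => Subtype.ext (Equiv.ext e)⟩

theorem im_eq_one : im Ω a = 1 ↔ ∀ ω : Ω, a • ω = ω := by rw [← (im Ω).map_one, im_eq_iff]; simp

instance finite_rootIm [Finite G] : Finite (Im G Ω) := Finite.of_surjective _ (toPermHom G Ω).rangeRestrict_surjective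

namespace Blk
variable (h : Blk D β)
include h

theorem two_im (hd : d ∈ D) : orderOf (im Ω d) = 2 :=
  Invol.orderOf_two_iff.2 ⟨by rw [← map_mul, RI.sq h.ri hd, map_one], fun e => h.not_triv hd (im_eq_one.1 e)⟩

theorem comm_of_im (ha : a ∈ D) (hc : c ∈ D) (k : Commute (im Ω a) (im Ω c)) (hne : im Ω a ≠ im Ω c) :
    Commute a c := by
  refine h.comm_of_img ha hc (im_eq_one.1 ?_) fun e => hne ?_
  · simp only [map_mul]
    rw [mul_assoc (im Ω a), ← k.eq, ← mul_assoc, ← map_mul, RI.sq h.ri ha, map_one, one_mul, ← map_mul, RI.sq h.ri hc,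
      map_one]
  · rw [eq_inv_of_mul_eq_one_left ((map_mul _ _ _).symm.trans (im_eq_one.2 e)), ← map_inv, RI.inv h.ri hc]

theorem pc : ZD.PC (Im G Ω) Ω (im Ω '' D) := by
  refine ⟨?_, ?_, ?_, ?_, ?_⟩
  · rintro _ ⟨d, hd, rfl⟩; exact h.two_im hd
  · rintro _ ⟨d, hd, rfl⟩ g
    obtain ⟨g, rfl⟩ := (toPermHom G Ω).rangeRestrict_surjective g
    exact ⟨_, h.ri.conj_mem d hd g, by simp only [map_mul, map_inv]⟩
  · rintro _ ⟨d, hd, rfl⟩; exact ⟨_, h.fix hd (Commute.refl d)⟩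
  · rintro _ ⟨d, hd, rfl⟩ a b k1 k2; exact (h.uniq hd k1).trans (h.uniq hd k2).symm
  · rintro _ ⟨a, ha, rfl⟩ _ ⟨c, hc, rfl⟩ k hne
    rcases h.mul_img ha hc (h.comm_of_im ha hc k hne) with e | ⟨d, hd, e⟩
    · refine absurd ?_ hne
      rw [eq_inv_of_mul_eq_one_left ((map_mul _ _ _).symm.trans (im_eq_one.2 e)), ← map_inv, RI.inv h.ri hc]
    · exact ⟨d, hd, by rw [← map_mul]; exact (im_eq_iff.2 e).symm⟩

variable [Finite G]

theorem not_fo (ha : a ∈ D) (hb : b ∈ D) : ¬ Fo a b := fun k => by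
  obtain ⟨c, hc, hne⟩ := h.exists_ne (β a)
  have := h.pc.comm_of_two ⟨a, ha, rfl⟩ (h.fix ha (Commute.refl a)) ⟨c, hc, rfl⟩ (fun e => hne (h.uniq hc e).symm)
    ⟨a, ha, rfl⟩ ⟨b, hb, rfl⟩ ⟨2, by rw [← map_mul, ← map_pow]; exact (congrArg _ k.2).trans (map_one _)⟩
  refine h.not_triv (RI.fo_mem h.ri ha hb k) (im_eq_one.1 ?_)
  simp only [map_mul]
  rw [mul_assoc (im Ω a), ← this.eq, ← mul_assoc, ← map_mul, RI.sq h.ri ha, map_one, one_mul, ← map_mul,
    RI.sq h.ri hb, map_one]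

theorem closure_im : Subgroup.closure (im Ω '' D) = ⊤ := by
  rw [← MonoidHom.map_closure, h.ri.generates]
  exact Subgroup.map_top_of_surjective _ (toPermHom G Ω).rangeRestrict_surjective

theorem loc {t : Im G Ω} (ht : orderOf t = 2) : t ∈ im Ω '' D := by
  obtain ⟨a, ha, c, hc, hne⟩ := h.two
  exact h.pc.loc ⟨a, ha, rfl⟩ (h.fix ha (Commute.refl a)) ⟨c, hc, rfl⟩ (fun e => hne (h.uniq hc e))
    (h.closure_im.ge (Subgroup.mem_top t)) ht

theorem hyp (hr : SE.Rank2 (⊤ : Subgroup (Im G Ω))) (ω : Ω) :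
    IsSimpleGroup (Im G Ω) ∧ ∃ t Q, Suz.Hyp (Im G Ω) Ω ω t Q := by
  have h1 : SE.One (Im G Ω) Ω := ⟨fun t ht => h.pc.ex t (h.loc ht), fun t ht => h.pc.uniq t (h.loc ht)⟩
  obtain ⟨t, Q, k⟩ := h1.bender (fun ω ω' => by
    obtain ⟨a, ha, rfl⟩ := h.surj ω
    obtain ⟨b, hb, rfl⟩ := h.surj ω'
    obtain ⟨g, rfl⟩ := isConj_iff.1 (h.isConj ha hb)
    exact ⟨im Ω g, (h.equi a ha g).symm⟩) (let ⟨a, _, b, _, e⟩ := h.two; ⟨_, _, e⟩) hr ω
  obtain ⟨-, k1, k2, k3, -⟩ := k.suzuki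
  have : Suz.Lg t Q = ⊤ := by
    rw [eq_top_iff, ← h.closure_im, Subgroup.closure_le]
    intro x hx
    refine (QuotientGroup.eq_one_iff x).1 (eq_one_of_odd (k := 1) k2 pow_card_eq_one' ?_)
    rw [pow_one, sq, ← QuotientGroup.mk_mul, Invol.mul_self_of (h.pc.two x hx), QuotientGroup.mk_one]
  rw [this] at k3
  exact ⟨Subgroup.topEquiv.symm.isSimpleGroup, t, Q, k⟩

theorem twoZ_le : twoZCore G ≤ (toPermHom G Ω).ker := fun z hz => Equiv.ext fun ω => by
  obtain ⟨d, hd, rfl⟩ := h.surj ω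
  by_contra e
  exact RI.not_od_twoZ h.ri hd hz (h.od _ (h.ri.conj_mem d hd z) d hd (h.equi d hd z ▸ e)).symm

theorem ker_eq (hDD : (D ∩ commutingProducts D).Nonempty) : (toPermHom G Ω).ker = twoZCore G := by
  refine le_antisymm (RI.le_twoZ h.ri fun d hd n hn o => ?_) h.twoZ_le
  obtain ⟨_, hm, a, ha, c, hc, k, -, rfl⟩ := hDD
  obtain ⟨g, rfl⟩ := isConj_iff.1 (h.isConj ha hd)
  replace hm := h.ri.conj_mem _ hm g
  replace k := Commute.conj k g
  replace hc := h.ri.conj_mem _ hc g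
  rw [← conj_mul] at hm
  generalize g * a * g⁻¹ = a at *
  generalize g * c * g⁻¹ = c at *
  have hx := h.ri.conj_mem a hd n
  have e : im Ω (n * a * n⁻¹) = im Ω a := by
    rw [map_mul, map_mul, map_inv, show im Ω n = 1 from Subtype.ext hn]; simp
  refine RI.not_comm h.ri hd hx o hc k hm (h.comm_of_im hc hx (e ▸ (k.map _).symm) fun e' => h.not_triv hm (im_eq_one.1 ?_))
  rw [map_mul, e', e, ← map_mul, RI.sq h.ri hd, map_one]

theorem rank2 (hDD : (D ∩ commutingProducts D).Nonempty) : SE.Rank2 (⊤ : Subgroup (Im G Ω)) := by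
  obtain ⟨_, hm, a, ha, c, hc, k, -, rfl⟩ := hDD
  refine ⟨_, trivial, _, trivial, h.two_im ha, h.two_im hc, fun e => h.not_triv hm (im_eq_one.1 ?_), Commute.map k _⟩
  rw [map_mul, e, ← map_mul, RI.sq h.ri hc, map_one]

end Blk

theorem exists_blk (h : IsRootInvolutionSet D) {R : G → G → Prop} (hr : ∀ a, R a a) (hs : ∀ a b, R a b → R b a)
    (ht : ∀ a b c, R a b → R b c → R a c) (hc : ∀ a b g, R a b → R (g * a * g⁻¹) (g * b * g⁻¹))
    (ho : ∀ a ∈ D, ∀ b ∈ D, ¬ R a b → Od a b) (hn : ∃ a ∈ D, ∃ b ∈ D, ¬ R a b) :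
    ∃ (H : Subgroup G) (β : G → G ⧸ H), Blk D β ∧ ∀ a ∈ D, ∀ b ∈ D, β a = β b ↔ R a b := by
  obtain ⟨a, ha, b, hb, hn⟩ := hn
  have key : ∀ a ∈ D, ∀ b ∈ D, ¬ R a b → IsConj a b := fun a ha b hb k =>
    let ⟨_, hm⟩ := (ho a ha b hb k).exists_conj (RI.sq h ha) (RI.sq h hb)
    isConj_iff.2 ⟨_, hm⟩
  have hcl : ∀ d ∈ D, ∃ g, g * a * g⁻¹ = d := fun d hd => isConj_iff.1 (by
    by_cases e : R a d
    · exact (key a ha b hb hn).trans (key b hb d hd fun k => hn (ht _ _ _ e (hs _ _ k)))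
    · exact key a ha d hd e)
  choose! γ hγ using hcl
  let H : Subgroup G :=
    { carrier := {g | R a (g * a * g⁻¹)}
      one_mem' := by simpa using hr a
      mul_mem' := fun {x y} hx hy => ht _ _ _ hx (by simpa [mul_assoc] using hc _ _ x hy)
      inv_mem' := fun {x} hx => hs _ _ (by simpa [mul_assoc] using hc _ _ x⁻¹ hx) }
  have hH : ∀ g k : G, (g : G ⧸ H) = k ↔ R (g * a * g⁻¹) (k * a * k⁻¹) := fun g k => by
    rw [QuotientGroup.eq]
    exact ⟨fun e => by simpa [mul_assoc] using hc _ _ g e, fun e => by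
      have := hc _ _ g⁻¹ e
      change R _ _
      simpa [mul_assoc] using this⟩
  have hβ : ∀ x ∈ D, ∀ y ∈ D, (γ x : G ⧸ H) = γ y ↔ R x y := fun x hx y hy => by rw [hH, hγ x hx, hγ y hy]
  refine ⟨H, fun d => γ d, ⟨h, fun d hd g => ?_, fun x hx y hy e => ho x hx y hy fun k => e ((hβ x hx y hy).2 k),
    fun ω => ?_, a, ha, b, hb, fun e => hn ((hβ a ha b hb).1 e)⟩, hβ⟩
  · rw [Quotient.smul_mk, hH, hγ _ (h.conj_mem d hd g), smul_eq_mul, mul_inv_rev, mul_assoc g (γ d), mul_assoc g (_ * a),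
      ← mul_assoc (_ * a), hγ d hd, ← mul_assoc]
    exact hr _
  · obtain ⟨g, rfl⟩ := QuotientGroup.mk_surjective ω
    exact ⟨_, h.conj_mem a ha g, by rw [hH, hγ _ (h.conj_mem a ha g)]; exact hr _⟩

/-- Connectedness in the commuting graph. -/
abbrev CConn (D : Set G) (a b : G) : Prop := Relation.ReflTransGen (CommAdj D) a b

theorem CConn.symm (k : CConn D a b) : CConn D b a := by
  induction k with
  | refl => exact .refl
  | tail _ k ih => exact .head ⟨k.2.1, k.1, k.2.2.1.symm, k.2.2.2.symm⟩ ih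

theorem CConn.of_comm (ha : a ∈ D) (hb : b ∈ D) (k : Commute a b) : CConn D a b := by
  by_cases e : a = b
  exacts [e ▸ .refl, .single ⟨ha, hb, e, k⟩]

theorem RI.exists_blk (h : IsRootInvolutionSet D) (hn : ¬ IsConnectedSet (CommAdj D) D) :
    ∃ (H : Subgroup G) (β : G → G ⧸ H), Blk D β ∧ ∀ a ∈ D, ∀ b ∈ D, β a = β b ↔ CConn D a b := by
  refine Root.exists_blk h (fun _ => .refl) (fun _ _ => CConn.symm) (fun _ _ _ => .trans) (fun a b g k => ?_)
    (fun a ha b hb k => ?_) (by simpa [IsConnectedSet] using hn)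
  · exact k.lift (fun x => g * x * g⁻¹) fun x y k =>
      ⟨h.conj_mem x k.1 g, h.conj_mem y k.2.1 g, by simpa using k.2.2.1, Commute.conj k.2.2.2 g⟩
  · rcases RI.pair h ha hb with k' | k' | k'
    · exact absurd (CConn.of_comm ha hb k') k
    · exact k'
    · have hu := RI.fo_mem h ha hb k'
      exact absurd ((CConn.of_comm ha hu (k'.comm_left (RI.sq h ha) (RI.sq h hb)).symm).trans
        (CConn.of_comm hu hb (k'.comm_right (RI.sq h ha) (RI.sq h hb)))) k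

theorem RI.cconn_of_fo [Finite G] (h : IsRootInvolutionSet D) (ha : a ∈ D) (hb : b ∈ D) (k : Fo a b) :
    IsConnectedSet (CommAdj D) D := by
  by_contra hn
  obtain ⟨H, β, k', -⟩ := RI.exists_blk h hn
  exact k'.not_fo ha hb k

end Cfsg.Agent.Root
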