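import Cfsg.Agent.Root.Inv2

/-! Non-degenerate classes of root involutions (`ND`): the graph `𝓔(D)` is connected (`ND.econn`) and
`G = ⟨X_d, x⟩` (`ND.gen`); the lemmas `RI.key`, `RI.three`. -/

namespace Cfsg.Agent.Root
open Cfsg MulAction

universe u
variable {G : Type u} [Group G] {D : Set G} {a b c d e w x y z : G}

theorem RI.key [Finite G] (hD : IsRootInvolutionSet D) (hcl : ∀ a ∈ D, ∀ b ∈ D, IsConj a b) (ha : a ∈ D) (hb : b ∈ D)
    (hc : Commute b a) (hm : a * b ∈ D) (hc' : c ∈ D) (hn : ¬ (Commute c a ↔ Commute c b)) :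
    ∃ y ∈ D, Fo y a ∧ y * a * y * a = b := by
  by_contra hcon
  have ho := RI.od_iff_of_le hD (hcl a ha b hb) fun x hx o => by
    by_contra hn
    obtain ⟨y, hy, -, h⟩ := RI.exists_fo hD ha hx o hb hc hm (RI.fo_of_not_od hD ha hx o hb hc.symm hm hn)
    exact hcon ⟨y, hy, h⟩
  exact hn ⟨RI.comm_of_od hD hcl ha hb ho hc', RI.comm_of_od hD hcl hb ha (fun x hx => (ho x hx).symm) hc'⟩

theorem RI.three (hD : IsRootInvolutionSet D) (ha : a ∈ D) (hw : w ∈ D) (hx : x ∈ D) (f1 : Fo w a)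
    (e1 : w * a * w * a = b) (f2 : Fo x b) (e3 : x * b * x * b = w) : orderOf (a * x) = 3 := by
  have hb : b ∈ D := e1 ▸ RI.fo_mem hD hw ha f1
  have hc' : Commute b a := e1 ▸ f1.comm_right (RI.sq hD hw) (RI.sq hD ha)
  have hm : a * b ∈ D := by
    rw [← e1, f1.swap (RI.sq hD hw) (RI.sq hD ha), RI.mul_fo hD ha]; exact RI.conj hD ha hw
  have c1 : Commute b w := e1 ▸ f1.comm_left (RI.sq hD hw) (RI.sq hD ha)
  have e2 : w * b = a * w * a := by rw [← e1, RI.mul_fo hD hw]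
  have c2 : Commute w x := e3 ▸ f2.comm_left (RI.sq hD hx) (RI.sq hD hb)
  have e4 : a * w = w * b * a := by rw [e2, mul_assoc, RI.sq hD ha, mul_one]
  have e5 : x * b = b * w * x := by
    rw [← e3, f2.swap (RI.sq hD hx) (RI.sq hD hb), RI.mul_fo hD hb, mul_assoc, RI.sq hD hx, mul_one]
  have e6 : a * x * b = w * (a * x) := by
    calc _ = (a * b) * w * x := by rw [mul_assoc, e5]; group
      _ = b * (a * w) * x := by rw [← hc'.eq]; group
      _ = (b * w) * b * a * x := by rw [e4]; group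
      _ = _ := by rw [c1.eq, mul_assoc w, RI.sq hD hb]; group
  have e7 : a * x * w = w * b * (a * x) := by rw [mul_assoc, ← c2.eq, ← mul_assoc, e4]; group
  have e8 : a * (a * x) ^ 3 = (x * a) * x * (x * a)⁻¹ := by
    simp only [mul_inv_rev, RI.inv hD ha, RI.inv hD hx, pow_succ, pow_zero, one_mul, ← mul_assoc, RI.sq hD ha]
  have e9 : Odd (orderOf (a * x)) ∨ (a * x) ^ 4 = 1 := by
    by_cases o : Od a x
    · exact Or.inl o.2
    · exact Or.inr (RI.pow_four hD ha hx o)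
  generalize a * x = r at *
  have c3 : Commute b (r ^ 3) := by
    change _ = _
    symm
    calc _ = r * r * (r * b) := by simp only [pow_succ, pow_zero, one_mul, mul_assoc]
      _ = r * (r * w) * r := by rw [e6]; group
      _ = r * (w * b * r) * r := by rw [e7]
      _ = (r * w) * b * r * r := by group
      _ = w * b * (r * b) * r * r := by rw [e7]; group
      _ = w * b * w * r * r * r := by rw [e6]; group
      _ = _ := by rw [← c1.eq, mul_assoc b, RI.sq hD hw]; simp only [pow_succ, pow_zero, one_mul, mul_assoc]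
  have hne : ¬ Commute r b := fun k => by
    rw [k.eq, mul_left_inj] at e6
    exact f1.1 (e6 ▸ hc')
  refine orderOf_eq_prime ?_ fun e => hne (e ▸ Commute.one_left b)
  by_contra h3
  have hv : a * r ^ 3 ∈ D := e8 ▸ hD.conj_mem x hx _
  have e10 : a * (a * r ^ 3) = r ^ 3 := by rw [← mul_assoc, RI.sq hD ha, one_mul]
  have h4 : ¬ (r ^ 3) ^ 4 = 1 := fun e => by
    rcases e9 with o | o
    · exact h3 (eq_one_of_odd (k := 2) o (by rw [← pow_mul, mul_comm, pow_mul, pow_orderOf_eq_one, one_pow]) e)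
    · rw [pow_succ', mul_eq_one_iff_eq_inv] at o
      have : Commute b r := by have := c3.inv_right; rwa [← o] at this
      exact hne this.symm
  refine RI.not_comm hD ha hv ?_ hb hc'.symm hm (hc'.mul_right c3)
  by_contra hn
  exact h4 (e10 ▸ RI.pow_four hD ha hv hn)

/-- Connectedness in the graph `𝓔(D)`. -/
abbrev EConn (D : Set G) (a b : G) : Prop := Relation.ReflTransGen (ProdAdj D) a b

theorem EConn.mem (k : EConn D a b) (ha : a ∈ D) : b ∈ D := by
  induction k with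
  | refl => exact ha
  | tail _ k _ => exact k.2.1

theorem EConn.symm (k : EConn D a b) : EConn D b a := by
  induction k with
  | refl => exact .refl
  | tail _ k ih => exact .head ⟨k.2.1, k.1, k.2.2.1.symm, k.2.2.2.1.symm, k.2.2.2.1 ▸ k.2.2.2.2⟩ ih

namespace RI
variable (h : IsRootInvolutionSet D)
include h

theorem econn_conj (k : EConn D a b) (g : G) : EConn D (g * a * g⁻¹) (g * b * g⁻¹) :=
  k.lift (p := ProdAdj D) (fun x => g * x * g⁻¹) fun x y k => ⟨h.conj_mem x k.1 g, h.conj_mem y k.2.1 g,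
    by simpa using k.2.2.1, Commute.conj k.2.2.2.1 g, by rw [conj_mul]; exact h.conj_mem _ k.2.2.2.2 g⟩

theorem prodAdj_fo (ha : a ∈ D) (hb : b ∈ D) (k : Fo a b) : ProdAdj D a (a * b * a * b) :=
  ⟨ha, fo_mem h ha hb k, fun e => k.1 (e ▸ k.comm_right (sq h ha) (sq h hb)), (k.comm_left (sq h ha) (sq h hb)).symm,
    by rw [mul_fo h ha]; exact conj h ha hb⟩

theorem econn_fo (ha : a ∈ D) (hb : b ∈ D) (k : Fo a b) : EConn D a b :=
  .head (prodAdj_fo h ha hb k) (EConn.symm (.single (k.swap (sq h ha) (sq h hb) ▸ prodAdj_fo h hb ha k.symm)))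

theorem comm_of_econn (hx : x ∈ D) (hn : ¬ EConn D a x) (hc : Commute a x) (k : EConn D a b) : Commute b x := by
  induction k with
  | refl => exact hc
  | tail k' k ih =>
    rcases pair h k.2.1 hx with o | o | o
    · exact o
    · exact absurd ih (not_comm h k.2.1 hx o k.1 k.2.2.2.1.symm (k.2.2.2.1 ▸ k.2.2.2.2))
    · exact absurd ((k'.tail k).trans (econn_fo h k.2.1 hx o)) hn

theorem od_of_econn (ha : a ∈ D) (hx : x ∈ D) (hn : ¬ EConn D a x) (o : Od a x) (k : EConn D a b) : Od b x := by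
  have hn' : ¬ EConn D b x := fun k' => hn (k.trans k')
  rcases pair h (k.mem ha) hx with o' | o' | o'
  · exact absurd (comm_of_econn h hx hn' o' k.symm) (o.not_comm (sq h ha) (sq h hx))
  · exact o'
  · exact absurd (econn_fo h (k.mem ha) hx o') hn'

end RI

/-- a non-degenerate class of root involutions -/
structure ND (D : Set G) : Prop where
  ri : IsRootInvolutionSet D
  cl : ∀ a ∈ D, ∀ b ∈ D, IsConj a b
  od : ∃ a ∈ D, ∃ b ∈ D, Od a b
  fo : ∃ a ∈ D, ∃ b ∈ D, Fo a b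

theorem nd_of (hD : IsNondegenerateRootInvolutionSet D) (hcl : IsRootInvolutionClass D) : ND D :=
  ⟨hD.1, fun a ha b hb => let ⟨g, e⟩ := hcl.2.2 a ha b hb; isConj_iff.2 ⟨g, e.symm⟩, hD.2.2.1,
    let ⟨a, ha, b, hb, e⟩ := hD.2.2.2; ⟨a, ha, b, hb, (RI.fo_iff hD.1 ha hb).1 e⟩⟩

theorem Fo.conj (k : Fo a b) (g : G) : Fo (g * a * g⁻¹) (g * b * g⁻¹) :=
  ⟨fun e => k.1 (by simpa [mul_assoc] using e.conj g⁻¹), by rw [conj_mul, conj_pow, k.2]; simp⟩

theorem ND.exists_od (h : ND D) (ha : a ∈ D) : ∃ b ∈ D, Od a b := by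
  obtain ⟨x, hx, y, hy, k⟩ := h.od
  obtain ⟨g, rfl⟩ := isConj_iff.1 (h.cl x hx a ha)
  exact ⟨_, h.ri.conj_mem y hy g, k.conj g⟩

theorem ND.exists_fo (h : ND D) (ha : a ∈ D) : ∃ b ∈ D, Fo a b := by
  obtain ⟨x, hx, y, hy, k⟩ := h.fo
  obtain ⟨g, rfl⟩ := isConj_iff.1 (h.cl x hx a ha)
  exact ⟨_, h.ri.conj_mem y hy g, k.conj g⟩

/-- a subset closed under conjugation and fourth-order squares is a set of root involutions of the group it generates -/
theorem RI.sub (h : IsRootInvolutionSet D) {H : Subgroup G} {E : Set G} (hE : E ⊆ D) (hH : Subgroup.closure E = H)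
    (hc : ∀ x ∈ E, ∀ g ∈ H, g * x * g⁻¹ ∈ E) (hf : ∀ x ∈ E, ∀ y ∈ E, Fo x y → x * y * x * y ∈ E) :
    IsRootInvolutionSet (Subtype.val ⁻¹' E : Set H) := by
  refine ⟨fun d hd => by rw [← Subgroup.orderOf_coe]; exact h.orderOf_eq _ (hE hd), ?_, fun d hd g => hc _ hd g g.2,
    fun x hx y hy => ?_⟩
  · subst hH; exact Subgroup.closure_closure_coe_preimage
  rcases h.pair _ (hE hx) _ (hE hy) with k | k | k
  · exact Or.inl (Subtype.ext k)
  · exact Or.inr (Or.inl (by rwa [← Subgroup.orderOf_coe]))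
  · refine Or.inr (Or.inr ⟨by rw [← Subgroup.orderOf_coe]; exact k.1, ?_⟩)
    have := hf _ hx _ hy ((RI.fo_iff h (hE hx) (hE hy)).1 k.1)
    change ((x : G) * y) ^ 2 ∈ E
    rwa [_root_.sq, ← mul_assoc]

theorem od_coe {H : Subgroup G} {a b : H} : Od a b ↔ Od (a : G) b := by
  rw [Od, Od, ← Subgroup.orderOf_coe, Subgroup.coe_mul, Ne, Ne, Subtype.ext_iff]

theorem fo_coe {H : Subgroup G} {a b : H} : Fo a b ↔ Fo (a : G) b := by
  rw [Fo, Fo, Subtype.ext_iff, commute_iff_eq, commute_iff_eq, Subtype.ext_iff]; rfl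

theorem econn_aux (n : ℕ) : ∀ {G : Type u} [Group G] [Finite G] {D : Set G}, Nat.card G < n → ND D →
    ∀ a ∈ D, ∀ b ∈ D, EConn D a b := by
  induction n with
  | zero => exact fun k => absurd k (Nat.not_lt_zero _)
  | succ n ih => ?_
  intro G _ _ D hn h a ha b hb
  have hD := h.ri
  have M : ∀ x ∈ D, ¬ EConn D a x → Od a x → Subgroup.closure ({y | EConn D a y} ∪ {x}) = ⊤ := by
    intro x hx hax o
    by_contra hne
    set H := Subgroup.closure ({y | EConn D a y} ∪ {x}) with hH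
    let E := {y | ∃ g ∈ H, y = g * a * g⁻¹}
    have hT : ∀ y, EConn D a y → y ∈ H := fun y hy => Subgroup.subset_closure (Or.inl hy)
    have hxH : x ∈ H := Subgroup.subset_closure (Or.inr rfl)
    have hE : E ⊆ D := by rintro _ ⟨g, -, rfl⟩; exact hD.conj_mem a ha g
    have hc : ∀ y ∈ E, ∀ g ∈ H, g * y * g⁻¹ ∈ E := by
      rintro _ ⟨g, hg, rfl⟩ g' hg'; exact ⟨g' * g, mul_mem hg' hg, by group⟩
    have haE : a ∈ E := ⟨1, one_mem _, by simp⟩
    have hxE : x ∈ E := by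
      obtain ⟨m, hm⟩ := o.exists_conj (RI.sq hD ha) (RI.sq hD hx)
      exact ⟨_, pow_mem (mul_mem (hT a .refl) hxH) m, hm.symm⟩
    have hTE : ∀ y, EConn D a y → y ∈ E := fun y hy => by
      obtain ⟨m, hm⟩ := (RI.od_of_econn hD ha hx hax o hy).symm.exists_conj (RI.sq hD hx) (RI.sq hD (hy.mem ha))
      exact hm ▸ hc x hxE _ (pow_mem (mul_mem hxH (hT y hy)) m)
    have hEE : ∀ y ∈ E, ∀ z, EConn D y z → z ∈ E := by
      rintro _ ⟨g, hg, rfl⟩ z k
      have := hc _ (hTE _ (by simpa [mul_assoc] using RI.econn_conj hD k g⁻¹)) g hg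
      simpa [mul_assoc] using this
    have hEH : ∀ y ∈ E, y ∈ H := by rintro _ ⟨g, hg, rfl⟩; exact mul_mem (mul_mem hg (hT a .refl)) (inv_mem hg)
    obtain ⟨c, hc', f⟩ := h.exists_fo ha
    have hcE := hTE c (RI.econn_fo hD ha hc' f)
    have h' : ND (Subtype.val ⁻¹' E : Set H) := ⟨RI.sub hD hE (le_antisymm ((Subgroup.closure_le _).2 hEH)
      (Subgroup.closure_mono (by rintro y (hy | rfl); exacts [hTE y hy, hxE]))) hc
      fun y hy z hz k => hEE y hy _ (.single (RI.prodAdj_fo hD (hE hy) (hE hz) k)),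
      by
        rintro ⟨_, k1⟩ ⟨g, hg, rfl⟩ ⟨_, k2⟩ ⟨g', hg', rfl⟩
        exact isConj_iff.2 ⟨⟨g' * g⁻¹, mul_mem hg' (inv_mem hg)⟩, Subtype.ext (by simp [mul_assoc])⟩,
      ⟨⟨a, hEH a haE⟩, haE, ⟨x, hxH⟩, hxE, od_coe.2 o⟩, ⟨⟨a, hEH a haE⟩, haE, ⟨c, hEH c hcE⟩, hcE, fo_coe.2 f⟩⟩
    have := ih (lt_of_lt_of_le (Finite.card_subtype_lt (not_forall.1 (mt (Subgroup.eq_top_iff' H).2 hne)).choose_spec)
      (Nat.lt_succ_iff.1 hn)) h' ⟨a, hEH a haE⟩ haE ⟨x, hxH⟩ hxE
    exact hax (this.lift (p := ProdAdj D) Subtype.val fun y z k => ⟨hE k.1, hE k.2.1, fun e => k.2.2.1 (Subtype.ext e),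
      congrArg Subtype.val k.2.2.2.1, hE k.2.2.2.2⟩)
  have S : ∀ y, CConn D a y → EConn D a y ∨ Commute a y := by
    intro y k
    induction k with
    | refl => exact Or.inl .refl
    | @tail y z _ k ih =>
      refine or_iff_not_imp_left.2 fun hz => ?_
      by_cases hy : EConn D a y
      · exact RI.comm_of_econn hD k.2.1 (fun k' => hz (hy.trans k')) k.2.2.2 hy.symm
      rcases RI.pair hD ha k.2.1 with o | o | o
      · exact o
      · obtain ⟨v, hv, o'⟩ := h.exists_od k.1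
        refine absurd (Subgroup.mem_centralizer_singleton_iff.1 ((Subgroup.closure_le (Subgroup.centralizer {y})).2 ?_
          ((M z k.2.1 hz o).ge (Subgroup.mem_top v)))).symm (o'.not_comm (RI.sq hD k.1) (RI.sq hD hv))
        rintro u (hu | rfl)
        · exact Subgroup.mem_centralizer_singleton_iff.2 (RI.comm_of_econn hD k.1 hy (ih.resolve_left hy) hu)
        · exact Subgroup.mem_centralizer_singleton_iff.2 k.2.2.2.symm
      · exact absurd (RI.econn_fo hD ha k.2.1 o) hz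
  obtain ⟨c, hc, f⟩ := h.exists_fo ha
  let K : Subgroup G :=
    { carrier := {g | EConn D a (g * a * g⁻¹)}
      one_mem' := by simpa using Relation.ReflTransGen.refl
      mul_mem' := fun {x y} hx hy => hx.trans (by simpa [mul_assoc] using RI.econn_conj hD hy x)
      inv_mem' := fun {x} hx => EConn.symm (by simpa [mul_assoc] using RI.econn_conj hD hx x⁻¹) }
  obtain ⟨g, rfl⟩ := isConj_iff.1 (h.cl a ha b hb)
  refine (Subgroup.closure_le K).2 (fun y hy => ?_) (hD.generates.ge (Subgroup.mem_top g))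
  change EConn D a _
  rcases S y (RI.cconn_of_fo hD ha hc f a ha y hy) with k | k
  · exact k.trans (EConn.symm (by simpa using RI.econn_conj hD k y))
  · rw [← k.eq, mul_inv_cancel_right]

variable [Finite G]

theorem ND.econn (h : ND D) : IsConnectedSet (ProdAdj D) D := econn_aux _ (Nat.lt_succ_self _) h

theorem ND.gen (h : ND D) (hd : d ∈ D) (hx : x ∈ D) (o : Od d x) {H : Subgroup G}
    (hX : ∀ e, ProdAdj D d e → e ∈ H) (hxH : x ∈ H) : H = ⊤ := by
  have hD := h.ri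
  have hX' : ∀ e, ProdAdj D d e → ProdAdj D d (d * e) := fun e k =>
    ⟨hd, k.2.2.2.2, fun e' => RI.ne_one hD k.2.1 (by simpa using e'), (Commute.refl d).mul_right k.2.2.2.1,
      by rw [← mul_assoc, RI.sq hD hd, one_mul]; exact k.2.1⟩
  have hdH : d ∈ H := by
    obtain ⟨c, hc, f⟩ := h.exists_fo hd
    have k := RI.prodAdj_fo hD hd hc f
    have := mul_mem (hX _ (hX' _ k)) (inv_mem (hX _ k))
    rwa [mul_inv_cancel_right] at this
  let E := {y | ∃ g ∈ H, y = g * d * g⁻¹}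
  have hc : ∀ y ∈ E, ∀ g ∈ H, g * y * g⁻¹ ∈ E := by
    rintro _ ⟨g, hg, rfl⟩ g' hg'; exact ⟨g' * g, mul_mem hg' hg, by group⟩
  have hxE : x ∈ E := by
    obtain ⟨m, hm⟩ := o.exists_conj (RI.sq hD hd) (RI.sq hD hx)
    exact ⟨_, pow_mem (mul_mem hdH hxH) m, hm.symm⟩
  have h1 : ∀ b, ProdAdj D d b → Od b x → b ∈ E := fun b k o => by
    obtain ⟨m, hm⟩ := o.symm.exists_conj (RI.sq hD hx) (RI.sq hD k.2.1)
    exact hm ▸ hc x hxE _ (pow_mem (mul_mem hxH (hX b k)) m)
  have h2 : ∀ b, ProdAdj D d b → b ∈ E := fun b k => by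
    by_cases o' : Od b x
    · exact h1 b k o'
    have c : Commute d b := k.2.2.2.1
    have f := RI.fo_of_not_od hD hd hx o k.2.1 c k.2.2.2.2 o'
    obtain ⟨z, hz, f', e⟩ := RI.key hD h.cl k.2.1 hd c (c ▸ k.2.2.2.2) (RI.fo_mem hD k.2.1 hx f) fun e =>
      (RI.triangle hD hd hx o k.2.1 c.symm f).1 (e.1 (f.comm_left (RI.sq hD k.2.1) (RI.sq hD hx)))
    have k' := RI.prodAdj_fo hD hz k.2.1 f'
    rw [e] at k'
    have := hc _ (h1 _ (hX' b k) ((RI.od_or_od hD hd hx o k.2.1 c k.2.2.2.2).resolve_left o')) z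
      (hX z ⟨hd, hz, k'.2.2.1.symm, k'.2.2.2.1.symm, k'.2.2.2.1 ▸ k'.2.2.2.2⟩)
    rwa [← e, mul_assoc _ b b, RI.sq hD k.2.1, mul_one, mul_assoc, mul_inv_cancel_right, ← mul_assoc, RI.sq hD hz,
      one_mul] at this
  rw [eq_top_iff, ← hD.generates, Subgroup.closure_le]
  intro y hy
  obtain ⟨g, hg, rfl⟩ : y ∈ E := by
    have k := h.econn d hd y hy
    clear hy
    induction k with
    | refl => exact ⟨1, one_mem _, by simp⟩
    | @tail y z _ k ih =>
      obtain ⟨g, hg, rfl⟩ := ih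
      have := hc _ (h2 (g⁻¹ * z * g⁻¹⁻¹) ⟨hd, hD.conj_mem z k.2.1 _, fun e => k.2.2.1 (by simp [e, mul_assoc]),
        by simpa [mul_assoc] using (Commute.conj k.2.2.2.1 g⁻¹).eq,
        by simpa [mul_assoc] using hD.conj_mem _ k.2.2.2.2 g⁻¹⟩) g hg
      simpa [mul_assoc] using this
  exact mul_mem (mul_mem hg hdH) (inv_mem hg)

end Cfsg.Agent.Root
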