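import Cfsg.Agent.Root.Inv3

/-! Classes of odd transpositions (`OC`): for `O₂(G) = 1` the set `E_d ∪ 1` is a group (`OC.closed`); the central
involution trick `OC.strick`; in `X = ⟨E_d, x⟩` commuting members have the same commuting members (`OC.sm_of_comm`). -/

namespace Cfsg.Agent.Root
open Cfsg MulAction

universe u
variable {G : Type u} [Group G] {D : Set G} {a b c d e f g s t w x y z : G}

/-- same commuting members -/
def Sm (D : Set G) (a b : G) : Prop := ∀ c ∈ D, Commute c a ↔ Commute c b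

theorem Sm.refl (a : G) : Sm D a a := fun _ _ => Iff.rfl
theorem Sm.symm (k : Sm D a b) : Sm D b a := fun c hc => (k c hc).symm
theorem Sm.trans (k : Sm D a b) (k' : Sm D b c) : Sm D a c := fun x hx => (k x hx).trans (k' x hx)
theorem Sm.comm (k : Sm D a b) (ha : a ∈ D) : Commute a b := (k a ha).1 (Commute.refl a)

theorem cmj_iff : Commute c (g * a * g⁻¹) ↔ Commute (g⁻¹ * c * g⁻¹⁻¹) a :=
  ⟨fun k => by simpa [mul_assoc] using k.conj g⁻¹, fun k => by simpa [mul_assoc] using k.conj g⟩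

theorem RI.sm_conj (h : IsRootInvolutionSet D) (k : Sm D a b) (g : G) : Sm D (g * a * g⁻¹) (g * b * g⁻¹) :=
  fun c hc => by rw [cmj_iff, cmj_iff, k _ (h.conj_mem c hc _)]

theorem conj_sub [Finite G] {S : Set G} (h : ∀ c ∈ S, g * c * g⁻¹ ∈ S) (hc : g * c * g⁻¹ ∈ S) : c ∈ S := by
  have key : ∀ n : ℕ, ∀ c ∈ S, g ^ n * c * (g ^ n)⁻¹ ∈ S := fun n => by
    induction n with
    | zero => simp
    | succ n ih => exact fun c hc => by simpa [pow_succ', mul_assoc] using h _ (ih c hc)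
  have := key (orderOf g - 1) _ hc
  rwa [show g ^ (orderOf g - 1) * (g * c * g⁻¹) * (g ^ (orderOf g - 1))⁻¹ =
    g ^ (orderOf g - 1 + 1) * c * (g ^ (orderOf g - 1 + 1))⁻¹ by rw [pow_succ]; group,
    Nat.sub_add_cancel (orderOf_pos g), pow_orderOf_eq_one, inv_one, one_mul, mul_one] at this

theorem dih' (ht : t * t = 1) (hy : y * y = 1) (o : Odd (orderOf (t * y * (t * y)))) :
    ∃ g ∈ Subgroup.closure {t, y}, Commute (g * y * g⁻¹) t ∧ Commute (t * (g * y * g⁻¹)) y := by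
  have m1 : t ∈ Subgroup.closure {t, y} := Subgroup.subset_closure (by simp)
  have m2 : y ∈ Subgroup.closure {t, y} := Subgroup.subset_closure (by simp)
  obtain ⟨g, k1, k2⟩ := dih (t := (⟨t, m1⟩ : Subgroup.closure {t, y})) (y := ⟨y, m2⟩) (Subtype.ext ht) (Subtype.ext hy)
    (by rwa [← Subgroup.orderOf_coe])
  exact ⟨g, g.2, congrArg Subtype.val k1, congrArg Subtype.val k2⟩

theorem mul_sq' (ha : a * a = 1) (hb : b * b = 1) (k : Commute a b) : a * b * (a * b) = 1 := by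
  rw [mul_assoc, ← mul_assoc b, ← k.eq, mul_assoc, hb, mul_one, ha]

/-- a class of odd transpositions -/
structure OC (D : Set G) : Prop where
  ri : IsRootInvolutionSet D
  nf : ∀ a ∈ D, ∀ b ∈ D, ¬ Fo a b
  cl : ∀ a ∈ D, ∀ b ∈ D, IsConj a b

namespace OC
variable (h : OC D)
include h

theorem sq (ha : a ∈ D) : a * a = 1 := RI.sq h.ri ha

theorem od (ha : a ∈ D) (hb : b ∈ D) (k : ¬ Commute a b) : Od a b :=
  ((RI.pair h.ri ha hb).resolve_left k).resolve_right (h.nf a ha b hb)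

theorem nc (ha : a ∈ D) (hb : b ∈ D) (k : Od a b) : ¬ Commute a b := k.not_comm (h.sq ha) (h.sq hb)

theorem cc (ha : a ∈ D) (hb : b ∈ D) (k : Commute a b) (hne : a ≠ b) (hc : c ∈ D) (k' : Commute c (a * b)) :
    Commute c a := by
  by_contra e
  have := RI.eq_one h.ri ha hc (h.od hc ha e).symm (mul_sq' (h.sq ha) (h.sq hb) k)
    ((Commute.refl a).mul_left k.symm) k'.symm (by rwa [← mul_assoc, h.sq ha, one_mul])
  exact hne (by rw [eq_inv_of_mul_eq_one_left this, RI.inv h.ri hb])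

theorem sm_of_prod (ha : a ∈ D) (hb : b ∈ D) (k : Commute a b) (hm : a * b ∈ D) : Sm D a b := fun c hc =>
  ⟨fun k' => by_contra fun e => RI.not_comm h.ri hb hc (h.od hc hb e).symm ha k.symm (k ▸ hm) k'.symm,
    fun k' => by_contra fun e => RI.not_comm h.ri ha hc (h.od hc ha e).symm hb k hm k'.symm⟩

theorem conj_in (ha : a ∈ D) (hb : b ∈ D) (k : ¬ Commute a b) (k1 : Commute s a) (k2 : Commute s b) :
    ∃ g, Commute s g ∧ g * a * g⁻¹ = b :=
  let ⟨m, hm⟩ := (h.od ha hb k).exists_conj (h.sq ha) (h.sq hb)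
  ⟨_, (k1.mul_right k2).pow_right m, hm⟩

theorem conj_in2 (ha : a ∈ D) (hb : b ∈ D) (hy : y ∈ D) (k : ¬ Commute a y) (k' : ¬ Commute y b) (k1 : Commute s a)
    (k2 : Commute s b) (k3 : Commute s y) : ∃ g, Commute s g ∧ g * a * g⁻¹ = b := by
  obtain ⟨g, e1, e2⟩ := h.conj_in ha hy k k1 k3
  obtain ⟨g', e3, e4⟩ := h.conj_in hy hb k' k3 k2
  exact ⟨g' * g, e3.mul_right e1, by rw [← e4, ← e2]; group⟩

theorem dih (ht : t * t = 1) (hy : y ∈ D) (k : ¬ Commute y (t * y * t)) :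
    ∃ d ∈ D, (∃ g ∈ Subgroup.closure {t, y}, d = g * y * g⁻¹) ∧ Commute d t ∧ Commute (t * d) y ∧ ¬ Commute d y := by
  have it := inv_eq_of_mul_eq_one_left ht
  have o := (h.od hy (by simpa [it] using h.ri.conj_mem y hy t) k).symm.2
  rw [mul_assoc] at o
  obtain ⟨g, hg, k1, k2⟩ := dih' ht (h.sq hy) o
  refine ⟨_, h.ri.conj_mem y hy g, ⟨g, hg, rfl⟩, k1, k2, fun e => k ?_⟩
  have : Commute t y := by
    have := k2.mul_left e
    rwa [mul_assoc, h.sq (h.ri.conj_mem y hy g), mul_one] at this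
  exact (this.symm.mul_right (Commute.refl y)).mul_right this.symm

variable [Finite G]

theorem sm_of_le (ha : a ∈ D) (hb : b ∈ D) (k : ∀ c ∈ D, Commute c a → Commute c b) : Sm D a b := fun c hc => by
  refine ⟨k c hc, fun k' => ?_⟩
  obtain ⟨g, rfl⟩ := isConj_iff.1 (h.cl a ha b hb)
  exact (conj_sub (S := {c | c ∈ D ∧ Commute c a}) (g := g⁻¹)
    (fun c hc => ⟨h.ri.conj_mem c hc.1 _, cmj_iff.1 (k c hc.1 hc.2)⟩) ⟨h.ri.conj_mem c hc _, cmj_iff.1 k'⟩).2

theorem mem_pCore (ht : t * t = 1) (hm : t ∈ Subgroup.closure {f | f ∈ D ∧ Sm D f d})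
    (k : ∀ y ∈ D, Commute y (t * y * t)) : t ∈ pCore 2 G := by
  have it := inv_eq_of_mul_eq_one_left ht
  refine Frob.mem_pCore_of_forall_conj fun g => ?_
  have h1 : g * t * g⁻¹ ∈ Subgroup.closure {f | f ∈ D ∧ Sm D f (g * d * g⁻¹)} :=
    (Subgroup.closure_le ((Subgroup.closure _).comap (MulAut.conj g).toMonoidHom)).2
      (fun f hf => Subgroup.subset_closure (k := {f | f ∈ D ∧ Sm D f (g * d * g⁻¹)})
        ⟨h.ri.conj_mem f hf.1 g, RI.sm_conj h.ri hf.2 g⟩) hm
  have h2 : g * t * g⁻¹ * (g * t * g⁻¹) = 1 := by rw [conj_mul, ht]; simp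
  generalize g * t * g⁻¹ = u at *
  have h3 : ∀ f ∈ D, Sm D f (g * d * g⁻¹) → Commute u (t * f * t) := fun f hf k1 =>
    Subgroup.mem_centralizer_singleton_iff.1 ((Subgroup.closure_le (Subgroup.centralizer {t * f * t})).2
      (fun f' hf' => Subgroup.mem_centralizer_singleton_iff.2
        ((k1.trans hf'.2.symm _ (by simpa [it] using h.ri.conj_mem f hf t)).1 (k f hf).symm).symm) h1)
  have h4 : Commute (t * u * t) u := by
    have := Subgroup.mem_centralizer_singleton_iff.1 ((Subgroup.closure_le (Subgroup.centralizer {t * u * t})).2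
      (fun f hf => Subgroup.mem_centralizer_singleton_iff.2 (by
        have := (h3 f hf.1 hf.2).conj t
        rw [it, ← mul_assoc, ← mul_assoc, ht, one_mul, mul_assoc f, ht, mul_one] at this
        exact this.symm)) h1)
    exact Commute.symm this
  refine isPGroup_closure_pair ht h2 ?_
  rw [show 4 = 2 * 2 from rfl, pow_mul, _root_.sq (t * u), ← mul_assoc, _root_.sq]
  exact mul_sq' (by rw [mul_assoc, ← mul_assoc t, ← mul_assoc t t, ht, one_mul, ← mul_assoc, mul_assoc t u, h2, mul_one,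
    ht]) h2 h4

theorem closed (hO : pCore 2 G = ⊥) (hd : d ∈ D) (he : e ∈ D) (k : Sm D e d) (hne : e ≠ d) : e * d ∈ D := by
  by_contra hn
  have ced := k.comm he
  have h2 := mul_sq' (h.sq he) (h.sq hd) ced
  have ty : ∀ c ∈ D, Commute c (e * d) → Commute c d := fun c hc k' => (k c hc).1 (h.cc he hd ced hne hc k')
  have md : d ∈ Subgroup.closure {f | f ∈ D ∧ Sm D f d} := Subgroup.subset_closure ⟨hd, Sm.refl d⟩
  have me : e ∈ Subgroup.closure {f | f ∈ D ∧ Sm D f d} := Subgroup.subset_closure ⟨he, k⟩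
  obtain ⟨y, hy, ny⟩ : ∃ y ∈ D, ¬ Commute y (e * d * y * (e * d)) := by
    by_contra! H
    have := hO.le (h.mem_pCore h2 (mul_mem me md) H)
    exact hne (by rw [eq_inv_of_mul_eq_one_left this, RI.inv h.ri hd])
  obtain ⟨a, ha, -, c1, c2, n1⟩ := h.dih h2 hy ny
  have n2 : ¬ Commute y d := fun c => ny (by
    have := ((k y hy).2 c).mul_right c
    exact (this.mul_right (Commute.refl y)).mul_right this)
  have cad := ty a ha c1
  have cae := (k a ha).2 cad
  have sd : Commute (e * d * a) d := (ced.mul_left (Commute.refl d)).mul_left cad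
  have sa : Commute (e * d * a) a := c1.symm.mul_left (Commute.refl a)
  have e1 : e * d * a * a = e * d := by rw [mul_assoc, h.sq ha, mul_one]
  have e2 : e * d * a * d = e * a := by rw [mul_assoc (e * d), cad.eq, ← mul_assoc, mul_assoc e d d, h.sq hd, mul_one]
  have h3 := mul_sq' h2 (h.sq ha) c1.symm
  have sad : Sm D a d := by
    obtain ⟨g, c3, e3⟩ := h.conj_in2 ha hd hy n1 n2 sa sd c2
    have e4 : g * (e * d) * g⁻¹ = e * a := by
      rw [← e1, ← conj_mul, ← c3.eq, mul_inv_cancel_right, e3, e2]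
    have nea : e ≠ a := fun e' => n2 (by
      rw [← e', mul_assoc, ← ced.eq, ← mul_assoc, h.sq he, one_mul] at c2; exact c2.symm)
    refine (h.sm_of_le hd ha fun c hc c4 => ?_).symm
    have := (conj_sub (S := {c | c ∈ D ∧ Commute c (e * d)}) (g := g) (c := g⁻¹ * c * g⁻¹⁻¹) (fun c hc =>
      ⟨h.ri.conj_mem c hc.1 g, ?_⟩) (by simpa [mul_assoc] using ⟨hc, ((k c hc).2 c4).mul_right c4⟩)).2
    · rw [← cmj_iff, e4, ← cae.eq] at this
      exact h.cc ha he cae nea.symm hc this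
    · have := hc.2.conj g
      rw [e4] at this
      replace this := h.cc he ha cae.symm nea (h.ri.conj_mem c hc.1 g) this
      exact this.mul_right ((k _ (h.ri.conj_mem c hc.1 g)).1 this)
  have cs : ∀ c ∈ D, Commute c d → Commute c (e * d * a) := fun c hc c4 =>
    (((k c hc).2 c4).mul_right c4).mul_right ((sad c hc).2 c4)
  have hs := hO.le (h.mem_pCore h3 (mul_mem (mul_mem me md) (Subgroup.subset_closure ⟨ha, sad⟩)) fun y' hy' => ?_)
  · exact hn (by rw [← e1, Subgroup.mem_bot.1 hs, one_mul]; exact ha)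
  by_contra ny'
  obtain ⟨d', hd', -, c4, c5, n3⟩ := h.dih h3 hy' ny'
  have n4 : ¬ Commute y' d := fun c => ny' (((cs y' hy' c).mul_right (Commute.refl y')).mul_right (cs y' hy' c))
  have key : ∀ g, Commute (e * d * a) g → g * a * g⁻¹ ≠ d' := fun g c6 e5 => n3 (by
    have := c5.symm
    rw [← e5, show e * d * a * (g * a * g⁻¹) = e * d * a * g * a * g⁻¹ by group, c6.eq, mul_assoc g, e1,
      cmj_iff] at this
    have := (sad _ (h.ri.conj_mem y' hy' _)).2 (ty _ (h.ri.conj_mem y' hy' _) this)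
    rw [← cmj_iff, e5] at this
    exact this.symm)
  have c6 : Commute y d' := by
    by_contra n
    obtain ⟨g, k1, k2⟩ := h.conj_in2 ha hd' hy n1 n sa c4.symm c2
    exact key g k1 k2
  have c7 : Commute d d' := by
    by_contra n
    obtain ⟨g, k1, k2⟩ := h.conj_in2 ha hd hy n1 n2 sa sd c2
    obtain ⟨g', k3, k4⟩ := h.conj_in hd hd' n sd c4.symm
    exact key (g' * g) (k3.mul_right k1) (by rw [← k4, ← k2]; group)
  obtain ⟨g, c8, e5⟩ := h.conj_in2 hd' hd hy' n3 n4 (c4.symm.mul_left (Commute.refl d')) (sd.mul_left c7.symm) c5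
  have e6 : g * (e * d * a) * g⁻¹ = e * a * d' := by
    rw [show e * d * a = e * d * a * d' * d' by rw [mul_assoc _ d' d', h.sq hd', mul_one], ← conj_mul, ← c8.eq,
      mul_inv_cancel_right, e5, mul_assoc _ d' d, ← c7.eq, ← mul_assoc, e2]
  have k1 : ∀ c ∈ D, Commute c d → Commute c (e * a * d') → Commute c d' := fun c hc k1 k2 => by
    have := (((k c hc).2 k1).mul_right ((sad c hc).2 k1)).inv_right.mul_right k2
    rwa [inv_mul_cancel_left] at this
  have k2 : ∀ c ∈ D, Commute c d' → Commute c (e * d * a) → g * c * g⁻¹ ∈ D ∧ Commute (g * c * g⁻¹) d' ∧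
      Commute (g * c * g⁻¹) d := fun c hc k2 k3 =>
    have := e5 ▸ k2.conj g
    ⟨h.ri.conj_mem c hc g, k1 _ (h.ri.conj_mem c hc g) this (e6 ▸ k3.conj g), this⟩
  exact n2 (conj_sub (S := {c | c ∈ D ∧ Commute c d' ∧ Commute c d}) (g := g)
    (fun c hc => k2 c hc.1 hc.2.1 (cs c hc.1 hc.2.2)) (k2 y hy c6 c2.symm)).2.2

omit [Finite G] in
/-- the central involution trick -/
theorem strick (hd : d ∈ D) (he : e ∈ D) (k : Sm D e d) (hm : e * d ∈ D) (hc : c ∈ D) (k1 : Commute c d)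
    (hn : ¬ Sm D c d) (hx : x ∈ D) (n1 : ¬ Commute x d) :
    ∃ f ∈ D, Sm D f d ∧ ∃ a ∈ D, (∃ g ∈ Subgroup.closure {c * f, x}, a = g * x * g⁻¹) ∧ Commute a c ∧ Commute a d ∧
      Commute (c * f * a) x ∧ ¬ Commute a x ∧ c * f ∉ D := by
  have sm := h.sm_of_prod hm hd ((k.comm he).mul_left (Commute.refl d)) (by rwa [mul_assoc, h.sq hd, mul_one])
  obtain ⟨f, hf, k2, n2⟩ : ∃ f ∈ D, Sm D f d ∧ ¬ Commute (c * x * c) (f * x * f) := by
    by_contra! H
    have o := (h.od hx hm fun c => n1 ((sm x hx).1 c)).conj d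
    rw [← (sm.comm hm).eq, mul_inv_cancel_right, RI.inv h.ri hd] at o
    have := o.commute (h.sq (RI.conj h.ri hx hd)) (H d hd (Sm.refl d)) (by
      rw [show e * d * (d * x * d) * (e * d) = e * (d * d) * x * (d * (e * d)) by group, (k.comm he).eq, ← mul_assoc d,
        h.sq hd, mul_one, one_mul]; exact H e he k)
    replace this := this.conj c
    rw [((sm c hc).2 k1).eq, mul_inv_cancel_right, ← mul_assoc, ← mul_assoc, h.sq hc, one_mul,
      mul_inv_cancel_right] at this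
    exact n1 ((sm x hx).1 this)
  have cf := (k2 c hc).2 k1
  have ne : c ≠ f := fun e => hn (e ▸ k2)
  obtain ⟨a, ha, hg, c1, c2, n3⟩ := h.dih (mul_sq' (h.sq hc) (h.sq hf) cf) hx fun c3 => n2 (by
    have := c3.conj c
    rwa [RI.inv h.ri hc, show c * (c * f * x * (c * f)) * c = c * c * f * x * (c * f * c) by group, cf.eq,
      mul_assoc f c c, h.sq hc, mul_one, one_mul] at this)
  exact ⟨f, hf, k2, a, ha, hg, h.cc hc hf cf ne ha c1, (k2 a ha).1 (h.cc hf hc cf.symm ne.symm ha (cf.eq ▸ c1)), c2, n3,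
    fun hm => hn ((h.sm_of_prod hc hf cf hm).trans k2)⟩

/-- members of `⟨E_d, x⟩` commuting with `d` lie in `E_d` -/
theorem sm_of_comm (hd : d ∈ D) (he : e ∈ D) (k : Sm D e d) (hm : e * d ∈ D) (hx : x ∈ D) (n1 : ¬ Commute x d)
    (hb : b ∈ D) (hX : b ∈ Subgroup.closure ({f | f ∈ D ∧ Sm D f d} ∪ {x})) (k1 : Commute b d) : Sm D b d := by
  refine (h.sm_of_le hd hb fun c hc k2 => ?_).symm
  by_contra n2
  have key : ∀ s, (∀ f ∈ D, Sm D f d → Commute f s) → Commute x s → Commute b s := fun s k3 k4 =>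
    Subgroup.mem_centralizer_singleton_iff.1 ((Subgroup.closure_le (Subgroup.centralizer {s})).2 (by
      rintro f (hf | rfl)
      exacts [Subgroup.mem_centralizer_singleton_iff.2 (k3 f hf.1 hf.2),
        Subgroup.mem_centralizer_singleton_iff.2 k4]) hX)
  obtain ⟨f, hf, k3, a, ha, -, c1, c2, c3, n3, n4⟩ := h.strick hd he k hm hc k2 (fun s => n2 ((s b hb).2 k1).symm) hx n1
  have c4 := key (c * f * a) (fun f' hf' s => (((s c hc).2 k2).symm.mul_right ((k3 f' hf').2 (s.comm hf'))).mul_right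
    ((s a ha).2 c2).symm) c3.symm
  have c5 := c4.mul_right ((k3 b hb).2 k1)
  rw [mul_assoc, ((k3 a ha).2 c2).eq, ← mul_assoc, mul_assoc c f f, h.sq hf, mul_one] at c5
  refine n2 (h.cc hc ha c1.symm (fun e => n1 ((k3 x hx).1 ?_)) hb c5).symm
  rw [← e, ((k3 c hc).2 k2).eq, mul_assoc, h.sq hc, mul_one] at c3
  exact c3.symm

end OC

end Cfsg.Agent.Root
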