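import Cfsg.Agent.Root.Inv4
import Cfsg.Agent.S0102
import Cfsg.Agent.Sz.Partition
import Cfsg.Agent.Classical.PSL2Basic

/-! Groups `G = ⟨E_d, x⟩` generated by odd transpositions: `OC.star` (the image on the blocks is `L₂(q)` or `Sz(q)`,
the kernel is `Z_*(G)`, a 2-group), images and subgroups of classes of odd transpositions (`OC.map`, `OC.sub`). -/

namespace Cfsg.Agent.Root
open Cfsg MulAction

universe u
variable {G : Type u} [Group G] {D : Set G} {a b c d e f g s t w x y z : G}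

theorem RI.top_or_le [Finite G] (hD : IsRootInvolutionSet D) (hcl : ∀ a ∈ D, ∀ b ∈ D, IsConj a b) (ha : a ∈ D)
    (hc' : c ∈ D) (k : Commute a c) (hm : a * c ∈ D) (N : Subgroup G) [hN : N.Normal] : N = ⊤ ∨ N ≤ twoZCore G := by
  have top : ∀ d ∈ D, d ∈ N → N = ⊤ := fun d hd k => by
    rw [eq_top_iff, ← hD.generates, Subgroup.closure_le]
    intro y hy
    obtain ⟨g, rfl⟩ := isConj_iff.1 (hcl d hd y hy)
    exact hN.conj_mem d k g
  refine or_iff_not_imp_left.2 fun hn => RI.le_twoZ hD fun d hd n hn' o => ?_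
  obtain ⟨g, rfl⟩ := isConj_iff.1 (hcl a ha d hd)
  replace hm := hD.conj_mem _ hm g
  replace k := Commute.conj k g
  replace hc' := hD.conj_mem _ hc' g
  rw [← conj_mul] at hm
  generalize g * a * g⁻¹ = a at *
  generalize g * c * g⁻¹ = c at *
  have hx := hD.conj_mem a hd n
  have e : ((n * a * n⁻¹ : G) : G ⧸ N) = a := by
    rw [QuotientGroup.mk_mul, QuotientGroup.mk_mul, QuotientGroup.mk_inv, (QuotientGroup.eq_one_iff n).2 hn']; simp
  have e2 : ((c : G ⧸ N) * a) ^ 2 = 1 := by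
    rw [← QuotientGroup.mk_mul, ← QuotientGroup.mk_pow, _root_.sq, ← k.eq, RI.sq hD hm, QuotientGroup.mk_one]
  by_cases o' : Od c (n * a * n⁻¹)
  · refine hn (top _ hm ((QuotientGroup.eq_one_iff _).1 ?_))
    rw [k.eq, QuotientGroup.mk_mul]
    refine eq_one_of_odd (k := 1) o'.2 ?_ e2
    rw [← e, ← QuotientGroup.mk_mul, ← QuotientGroup.mk_pow, pow_orderOf_eq_one, QuotientGroup.mk_one]
  · refine hn (top _ (RI.fo_mem hD hc' hx (RI.fo_of_not_od hD hd hx o hc' k hm o')) ((QuotientGroup.eq_one_iff _).1 ?_))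
    rw [mul_assoc (c * _), QuotientGroup.mk_mul, QuotientGroup.mk_mul, e, ← _root_.sq, e2]

theorem RI.perfect [Finite G] (hD : IsRootInvolutionSet D) (hcl : ∀ a ∈ D, ∀ b ∈ D, IsConj a b) (ha : a ∈ D)
    (hc' : c ∈ D) (k : Commute a c) (hm : a * c ∈ D) (hx : x ∈ D) (o : Od a x) : commutator G = ⊤ := by
  obtain ⟨m, hm'⟩ := o.exists_conj (RI.sq hD ha) (RI.sq hD hx)
  refine (RI.top_or_le hD hcl ha hc' k hm _).resolve_right fun e => RI.not_od_twoZ hD ha (pow_mem (e ?_) m) (hm'.symm ▸ o)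
  have := Subgroup.commutator_mem_commutator (Subgroup.mem_top a) (Subgroup.mem_top ((a * x) ^ m))
  rwa [commutatorElement_def, mul_assoc, mul_assoc, ← mul_assoc _ a⁻¹, RI.inv hD ha, hm'] at this

theorem center_eq_bot_of [Finite G] {H : Type*} [Group H] [Finite H] (σ : G →* H) (hσ : Function.Surjective σ)
    (hz : σ.ker ≤ Subgroup.center G) (hp : commutator G = ⊤)
    (hc : ∀ p : ℕ, p.Prime → p ≠ 2 → ∀ P : Subgroup H, IsPGroup p P → IsCyclic P) : IsPGroup 2 σ.ker := by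
  obtain ⟨n, hn⟩ : ∃ n, Nat.card σ.ker = 2 ^ n := ⟨_, Nat.eq_prime_pow_of_unique_prime_dvd Nat.card_pos.ne' fun {p} hp' hd => by
    by_contra h2
    haveI := Fact.mk hp'
    refine S0102.result ?_ (fun P => hc p hp' h2 P P.2) σ hσ hz hp hd
    rw [commutator_def, ← Subgroup.map_top_of_surjective σ hσ, ← Subgroup.map_commutator, ← commutator_def, hp]⟩
  exact IsPGroup.of_card hn

theorem cyc_of_equiv {H K : Type*} [Group H] [Group K] (e : H ≃* K) {p : ℕ}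
    (hc : ∀ P : Subgroup K, IsPGroup p P → IsCyclic P) (P : Subgroup H) (hP : IsPGroup p P) : IsCyclic P :=
  have := hc _ (hP.map e.toMonoidHom)
  isCyclic_of_surjective _ (P.equivMapOfInjective e.toMonoidHom e.injective).symm.surjective

theorem cyc_psl {F : Type} [Field F] [Fintype F] [CharP F 2] {p : ℕ} (hp : p.Prime) (h2 : p ≠ 2)
    (P : Subgroup (Matrix.ProjectiveSpecialLinearGroup (Fin 2) F)) (hP : IsPGroup p P) : IsCyclic P :=
  have := Fact.mk hp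
  cyc_of_equiv (Classical.slEquivPSL CharTwo.two_eq_zero).symm (fun _ => Classical.sl_isCyclic_of_isPGroup 2 h2 h2) P hP

theorem cyc_sz {H : Type*} [Group H] (h : Lie.IsoSuzuki H) {p : ℕ} (hp : p.Prime) (h2 : p ≠ 2)
    (P : Subgroup H) (hP : IsPGroup p P) : IsCyclic P := by
  obtain ⟨F, _, _, m, hm, hF, ⟨e⟩⟩ := h
  let := Sz.titsOfCard hm hF
  let := Sz.lieRep (Sz.titsOfCard_θ hm hF)
  exact cyc_of_equiv e (fun _ => Sz.isCyclic_of_isPGroup F hp h2) P hP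

namespace OC
variable (h : OC D)
include h

theorem map {H : Type u} [Group H] (φ : G →* H) (hφ : Function.Surjective φ) (h1 : ∀ d ∈ D, φ d ≠ 1) :
    OC (φ '' D) := by
  have k : ∀ a ∈ D, ∀ b ∈ D, Commute (φ a) (φ b) ∨ Odd (orderOf (φ a * φ b)) := fun a ha b hb => by
    by_cases c : Commute a b
    · exact Or.inl (c.map φ)
    · rw [← map_mul]; exact Or.inr ((h.od ha hb c).2.of_dvd_nat (orderOf_map_dvd φ _))
  have sq : ∀ a ∈ D, φ a * φ a = 1 := fun a ha => by rw [← map_mul, h.sq ha, map_one]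
  refine ⟨⟨?_, ?_, ?_, ?_⟩, ?_, ?_⟩
  · rintro _ ⟨d, hd, rfl⟩; exact Invol.orderOf_two_iff.2 ⟨sq d hd, h1 d hd⟩
  · rw [← MonoidHom.map_closure, h.ri.generates]; exact Subgroup.map_top_of_surjective _ hφ
  · rintro _ ⟨d, hd, rfl⟩ g
    obtain ⟨g, rfl⟩ := hφ g
    exact ⟨_, h.ri.conj_mem d hd g, by simp only [map_mul, map_inv]⟩
  · rintro _ ⟨a, ha, rfl⟩ _ ⟨b, hb, rfl⟩; exact (k a ha b hb).imp_right Or.inl
  · rintro _ ⟨a, ha, rfl⟩ _ ⟨b, hb, rfl⟩ f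
    exact Od.not_fo ⟨fun e => f.1 (by rw [e]), (k a ha b hb).resolve_left f.1⟩ (sq b hb) f
  · rintro _ ⟨a, ha, rfl⟩ _ ⟨b, hb, rfl⟩; exact φ.map_isConj (h.cl a ha b hb)

theorem comm_of_map {H : Type u} [Group H] (φ : G →* H) (hk : IsPGroup 2 φ.ker) (ha : a ∈ D) (hb : b ∈ D)
    (k : Commute (φ a) (φ b)) : Commute a b := by
  by_contra n
  have : (a * b) ^ 2 ∈ φ.ker := by
    rw [MonoidHom.mem_ker, map_pow, map_mul, _root_.sq]
    exact mul_sq' (by rw [← map_mul, h.sq ha, map_one]) (by rw [← map_mul, h.sq hb, map_one]) k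
  obtain ⟨m, hm⟩ := hk ⟨_, this⟩
  exact (h.od ha hb n).not_pow (h.sq hb) (k := m + 1) (by rw [pow_succ', pow_mul]; exact congrArg Subtype.val hm)

variable [Finite G]

theorem star (hd : d ∈ D) (he : e ∈ D) (k : Sm D e d) (hm : e * d ∈ D) (hx : x ∈ D) (n1 : ¬ Commute x d)
    (hX : Subgroup.closure ({f | f ∈ D ∧ Sm D f d} ∪ {x}) = ⊤) :
    ∃ (H : Subgroup G) (β : G → G ⧸ H) (t : Im G (G ⧸ H)) (Q : Subgroup (Im G (G ⧸ H))), Blk D β ∧
      (∀ a ∈ D, ∀ b ∈ D, β a = β b ↔ Sm D a b) ∧ Suz.Hyp _ _ (β d) t Q ∧ (im (G ⧸ H)).ker = twoZCore G ∧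
      commutator G = ⊤ ∧
      ((∃ (F : Type) (_ : Field F) (_ : Fintype F), CharP F 2 ∧ Fintype.card F = Nat.card (Suz.Q0 Q) ∧
        (∀ x ∈ Q, x * x = 1) ∧ Nonempty (Im G (G ⧸ H) ≃* Matrix.ProjectiveSpecialLinearGroup (Fin 2) F)) ∨
       ((∃ x ∈ Q, x * x ≠ 1) ∧ Lie.IsoSuzuki (Im G (G ⧸ H)))) := by
  have A : ∀ a ∈ D, ∀ b ∈ D, ¬ Sm D a b → Od a b := fun a ha b hb n => h.od ha hb fun c => n (by
    obtain ⟨g, rfl⟩ := isConj_iff.1 (h.cl d hd b hb)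
    have := RI.sm_conj h.ri (h.sm_of_comm hd he k hm hx n1 (h.ri.conj_mem a ha _) (hX.ge (Subgroup.mem_top _))
      (cmj_iff.1 c)) g
    simpa [mul_assoc] using this)
  obtain ⟨H, β, hb, hβ⟩ := exists_blk h.ri Sm.refl (fun _ _ => Sm.symm) (fun _ _ _ => Sm.trans)
    (fun a b g k => RI.sm_conj h.ri k g) A ⟨x, hx, d, hd, fun s => n1 (s.comm hx)⟩
  have hDD : (D ∩ commutingProducts D).Nonempty := ⟨_, hm, e, he, d, hd, k.comm he, RI.ne_one h.ri hm, rfl⟩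
  obtain ⟨_, t, Q, k1⟩ := hb.hyp (hb.rank2 hDD) (β d)
  have e0 : Im G (G ⧸ H) ≃* Suz.Lg t Q := (Subgroup.topEquiv.symm).trans (MulEquiv.subgroupCongr k1.Lg_eq_top.symm)
  refine ⟨H, β, t, Q, hb, hβ, k1, by rw [MonoidHom.ker_rangeRestrict, hb.ker_eq hDD],
    RI.perfect h.ri h.cl hd he (k.comm he).symm (k.comm he ▸ hm) hx (h.od hx hd n1).symm, ?_⟩
  obtain ⟨n, hn, hq⟩ := k1.card_Q0
  obtain ⟨h2, ⟨-, k2⟩ | ⟨h3, hc, hQ⟩ | ⟨-, -, w, hw, y, hy, hwy⟩⟩ := k1.tri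
  · obtain ⟨F, i1, i2, hF, ⟨e⟩⟩ := k1.idA k2
    exact Or.inl ⟨F, i1, i2, charP_of_card_eq_prime_pow (hF.trans hq), hF, k2, ⟨e0.trans e⟩⟩
  · obtain ⟨F, i1, i2, m, hm, hF, -, ⟨e⟩⟩ := k1.idB h2 h3 hc hQ
    refine Or.inr ⟨?_, F, i1, i2, m, hm, hF, ⟨e0.trans e⟩⟩
    by_contra! H
    exact hc fun u hu v hv => k1.invol_comm hu (H u hu) hv
  exfalso
  have hS := k1.setup
  have k3 : ∀ u : Im G (G ⧸ H), u * u = 1 → u • β d = β d → Commute w u := fun u h1 h2 =>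
    (hw.2 u (k1.mem_Q0.2 ⟨Rank1.Setup.mem_Q_of_mul_self hS h2 h1, h1⟩)).symm
  have k4 : Commute w t := (k1.mem_W_iff.1 hw).2.1
  obtain ⟨q, hq', e1⟩ := Rank1.Setup.exists_Q_ta hS fun e => n1 (((hβ x hx d hd).1 e).comm hx)
  have sq : ∀ a ∈ D, im (G ⧸ H) a * im (G ⧸ H) a = 1 := fun a ha => by rw [← map_mul, h.sq ha, map_one]
  have k5 : ∀ g, Commute g (q * w * q⁻¹) := fun g => by
    obtain ⟨g, rfl⟩ := (toPermHom G (G ⧸ H)).rangeRestrict_surjective g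
    refine Subgroup.mem_centralizer_singleton_iff.1 ((Subgroup.closure_le
      ((Subgroup.centralizer {q * w * q⁻¹}).comap (im (G ⧸ H)))).2 ?_ (hX.ge (Subgroup.mem_top g)))
    rintro f (hf | rfl)
    · have e2 : im (G ⧸ H) f • β d = β d := hb.fix hd (hf.2.comm hf.1)
      have c := k1.invol_comm (Rank1.Setup.mem_Q_of_mul_self hS e2 (sq f hf.1)) (sq f hf.1) hq'
      exact Subgroup.mem_centralizer_singleton_iff.2 ((c.mul_right (k3 _ (sq f hf.1) e2).symm).mul_right c.inv_right)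
    · refine Subgroup.mem_centralizer_singleton_iff.2 (cmj_iff.2 ?_)
      have := (k3 ((q * t)⁻¹ * im (G ⧸ H) f * (q * t)⁻¹⁻¹) (by rw [conj_mul, sq f hx]; simp) (by
        rw [inv_inv, mul_smul, mul_smul, mul_smul q, e1, inv_smul_eq_iff, mul_smul, e1]
        exact hb.fix hx (Commute.refl f))).conj t
      rw [← k4.eq, mul_inv_cancel_right] at this
      simpa [mul_assoc] using this.symm
  have := (k5 (q * y * q⁻¹)).conj q⁻¹
  exact hwy (by simpa [mul_assoc] using this.symm)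

end OC

theorem OC.sub (h : IsRootInvolutionSet D) (nf : ∀ a ∈ D, ∀ b ∈ D, ¬ Fo a b) (hd : d ∈ D) {X : Subgroup G}
    (hdX : d ∈ X) {S : Set G} (hS : Subgroup.closure S = X) (k : ∀ s ∈ S, ∃ g ∈ X, s = g * d * g⁻¹) :
    OC (Subtype.val ⁻¹' {y | ∃ g ∈ X, y = g * d * g⁻¹} : Set X) := by
  have hE : {y | ∃ g ∈ X, y = g * d * g⁻¹} ⊆ D := by rintro _ ⟨g, -, rfl⟩; exact h.conj_mem d hd g
  refine ⟨RI.sub h hE (le_antisymm ((Subgroup.closure_le _).2 ?_) (hS.ge.trans (Subgroup.closure_mono k))) ?_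
    fun a ha b hb f => absurd f (nf a (hE ha) b (hE hb)), fun a ha b hb f => nf a (hE ha) b (hE hb) (fo_coe.1 f), ?_⟩
  · rintro _ ⟨g, hg, rfl⟩; exact mul_mem (mul_mem hg hdX) (inv_mem hg)
  · rintro _ ⟨g, hg, rfl⟩ g' hg'; exact ⟨g' * g, mul_mem hg' hg, by group⟩
  · rintro ⟨_, k1⟩ ⟨g, hg, rfl⟩ ⟨_, k2⟩ ⟨g', hg', rfl⟩
    exact isConj_iff.2 ⟨⟨g' * g⁻¹, mul_mem hg' (inv_mem hg)⟩, Subtype.ext (by simp [mul_assoc])⟩

theorem nf_of (hD : IsOddTranspositionSet D) : ∀ a ∈ D, ∀ b ∈ D, ¬ Fo a b :=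
  fun a ha b hb f => hD.2 a ha b hb ((RI.fo_iff hD.1 ha hb).2 f)

theorem mem_E_iff : e ∈ sameCommutingClass D d ↔ e ∈ D ∧ Sm D e d :=
  and_congr_right fun _ => ⟨fun k c hc => ⟨fun k' => (k.ge ⟨hc, k'⟩).2, fun k' => (k.le ⟨hc, k'⟩).2⟩,
    fun k => Set.ext fun c => and_congr_right fun hc => (k c hc).symm⟩

theorem OC.list [Finite G] (h : OC D) (hO : pCore 2 G = ⊥) (hd : d ∈ D) (hx : x ∈ D) (n1 : ¬ Commute x d)
    (hX : Subgroup.closure ({f | f ∈ D ∧ Sm D f d} ∪ {x}) = ⊤) :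
    (∃ (F : Type) (_ : Field F) (_ : Fintype F), CharP F 2 ∧ 4 ≤ Fintype.card F ∧
      Nonempty (G ≃* Matrix.ProjectiveSpecialLinearGroup (Fin 2) F)) ∨ Lie.IsoSuzuki G ∨
    ∃ n : ℕ, Nonempty (G ≃* DihedralGroup n) := by
  by_cases H : ∀ e ∈ D, Sm D e d → e = d
  · have o := (h.od hx hd n1).symm
    obtain ⟨e⟩ := Invol.closure_equiv_dihedral (t := d) (r := d * x) (h.sq hd) (by
      rw [mul_inv_rev, RI.inv h.ri hd, RI.inv h.ri hx, ← mul_assoc, h.sq hd, one_mul]) fun k => by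
        have := o.2.of_dvd_nat (orderOf_dvd_of_mem_zpowers k)
        rw [h.ri.orderOf_eq d hd] at this
        exact absurd this (by decide)
    refine Or.inr (Or.inr ⟨_, ⟨(Subgroup.topEquiv.symm.trans (MulEquiv.subgroupCongr ?_)).trans e⟩⟩)
    rw [eq_comm, eq_top_iff, ← hX, Subgroup.closure_le]
    have m1 : d ∈ Subgroup.closure {d, d * x} := Subgroup.subset_closure (by simp)
    rintro f (hf | rfl)
    · exact H f hf.1 hf.2 ▸ m1
    · simpa using mul_mem (inv_mem m1) (Subgroup.subset_closure (k := {d, d * f}) (by simp : d * f ∈ _))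
  push Not at H
  obtain ⟨e, he, k, ne⟩ := H
  obtain ⟨H, β, t, Q, hb, -, k1, k2, k3, k4⟩ := h.star hd he k (h.closed hO hd he k ne) hx n1 hX
  have hs := (toPermHom G (G ⧸ H)).rangeRestrict_surjective
  have hz : (im (G ⧸ H)).ker ≤ Subgroup.center G := fun z hz => Subgroup.mem_center_iff.2 fun g => by
    have := Subgroup.mem_center_iff.1 (k2.le hz) (QuotientGroup.mk' _ g)
    rw [← map_mul, ← map_mul] at this
    exact (MonoidHom.ker_eq_bot_iff _).1 ((QuotientGroup.ker_mk' _).trans hO) this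
  have key : IsPGroup 2 (im (G ⧸ H)).ker → Nonempty (G ≃* Im G (G ⧸ H)) := fun p =>
    ⟨MulEquiv.ofBijective _ ⟨(MonoidHom.ker_eq_bot_iff _).1 (eq_bot_iff.2 (hO ▸ Solv.le_pCore p)), hs⟩⟩
  rcases k4 with ⟨F, i1, i2, i3, hF, -, ⟨e⟩⟩ | ⟨-, k4⟩
  · obtain ⟨e0⟩ := key (center_eq_bot_of _ hs hz k3 fun p hp h2 => cyc_of_equiv e (cyc_psl hp h2))
    exact Or.inl ⟨F, i1, i2, i3, hF ▸ k1.four_le, ⟨e0.trans e⟩⟩
  · obtain ⟨e0⟩ := key (center_eq_bot_of _ hs hz k3 fun p hp h2 => cyc_sz k4 hp h2)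
    obtain ⟨F, i1, i2, m, hm, hF, ⟨e⟩⟩ := k4
    exact Or.inr (Or.inl ⟨F, i1, i2, m, hm, hF, ⟨e0.trans e⟩⟩)

end Cfsg.Agent.Root
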