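import Cfsg.Agent.Root.Inv4

/-! The root structure theorem for root involutions: for a non-degenerate class with `E_d ∪ 1` a group (`RST`),
commutators of members of `X_d` and `W_d` lie in `E(d)` (`RST.main`) and `W_d = X_d ∪ d` (`RST.prod_of_ww`). -/

namespace Cfsg.Agent.Root
open Cfsg

universe u
variable {G : Type u} [Group G] {D : Set G} {a b c d e f g r t v w x y z : G}

theorem s3 (ha : a * a = 1) (hx : x * x = 1) (hv : v * v = 1) (h3 : orderOf (a * x) = 3) (c : Commute v a)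
    (f : Fo v x) : Commute (v * (v * x * v * x * a * (v * x * v * x) * a)) x := by
  have c1 := f.comm_left hv hx
  have c2 := f.comm_right hv hx
  have e0 : v * (v * x * v * x) = x * v * x := by simp only [← mul_assoc, hv, one_mul]
  have br : x * a * x = a * x * a := by
    have := pow_orderOf_eq_one (a * x)
    rw [h3] at this
    calc _ = a * x * a * (a * x) ^ 3 := by
          simp only [pow_succ, pow_zero, one_mul, mul_assoc, ← mul_assoc a a, ← mul_assoc x x, ha, hx]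
      _ = _ := by rw [this, mul_one]
  generalize v * x * v * x = r at *
  have e1 : v * (r * a * r * a) = r * (a * (x * v * x) * a) := by
    rw [← e0, ← mul_assoc a v, ← c.eq]
    calc _ = (v * r) * a * r * a := by group
      _ = _ := by rw [← c1.eq]; group
  rw [e1]
  refine c2.mul_left ?_
  change _ = _
  calc _ = a * x * v * (x * a * x) := by group
    _ = a * x * (v * a) * x * a := by rw [br]; group
    _ = (a * x * a) * v * x * a := by rw [c.eq]; group
    _ = _ := by rw [← br]; group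

theorem conj_of_pow {m : ℕ} (ha : a * a = 1) (hb : b * b = 1) (h : (a * b) ^ (2 * m + 1) = 1) :
    (a * b) ^ m * a * ((a * b) ^ m)⁻¹ = b := by
  have h1 : a * (a * b)⁻¹ * a⁻¹ = a * b := by
    rw [mul_inv_rev, inv_eq_of_mul_eq_one_left ha, inv_eq_of_mul_eq_one_left hb, mul_assoc, mul_assoc, ha,
      mul_one]
  have h2 : a * ((a * b) ^ m)⁻¹ = (a * b) ^ m * a := by
    rw [← inv_pow, ← mul_inv_eq_iff_eq_mul, ← conj_pow, h1]
  rw [mul_assoc, h2, ← mul_assoc, ← pow_add, ← mul_left_inj b, hb, mul_assoc, ← pow_succ, ← two_mul, h]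

theorem nil_empty [Finite G] {P : Subgroup G} (hp : IsPGroup 2 P) {S : Set G}
    (hS : ∀ e ∈ S, e ≠ 1 ∧ ∃ w ∈ P, e * w * e⁻¹ * w⁻¹ ∈ S) (he : e ∈ P) : e ∉ S := by
  haveI := hp.isNilpotent
  obtain ⟨n, hn⟩ := Group.IsNilpotent.nilpotent P
  have key : ∀ i, ∀ e : P, e ∈ Subgroup.upperCentralSeries P i → (e : G) ∉ S := by
    intro i
    induction i with
    | zero => exact fun e k k' => (hS e k').1 (congrArg Subtype.val (Subgroup.mem_bot.1 k))
    | succ i ih =>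
      intro e k k'
      obtain ⟨-, w, hw, k1⟩ := hS e k'
      exact ih _ (Subgroup.mem_upperCentralSeries_succ_iff.1 k ⟨w, hw⟩) k1
  exact key n ⟨e, he⟩ (hn ▸ Subgroup.mem_top _)

theorem prodAdj_symm (k : ProdAdj D a b) : ProdAdj D b a :=
  ⟨k.2.1, k.1, k.2.2.1.symm, k.2.2.2.1.symm, k.2.2.2.1 ▸ k.2.2.2.2⟩

/-- membership in `E(a) = E_a ∪ 1` -/
def EEl (D : Set G) (a g : G) : Prop := g = 1 ∨ (g ∈ D ∧ Sm D g a)

/-- membership in `W_a` -/
def WW (D : Set G) (a w : G) : Prop := w ∈ D ∧ Commute w a ∧ ∀ x ∈ D, Commute x a → ¬ Od w x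

/-- members of `W_a - E_a` central modulo `E(a)` -/
def ZZ (D : Set G) (a e : G) : Prop := WW D a e ∧ ¬ Sm D e a ∧ ∀ w, WW D a w → EEl D a (e * w * e * w)

theorem EEl.comm (k : EEl D a g) (hc : c ∈ D) (k' : Commute c a) : Commute g c := by
  rcases k with rfl | k
  · exact Commute.one_left c
  · exact ((k.2 c hc).2 k').symm

theorem EEl.eq_one (k : EEl D a g) (hc : c ∈ D) (k' : ¬ Commute c a) (k1 : Commute g c) : g = 1 :=
  k.elim id fun k => absurd ((k.2 c hc).1 k1.symm) k'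

theorem EEl.sm (k : EEl D a g) (s : Sm D a v) : EEl D v g := k.imp id fun k => ⟨k.1, k.2.trans s⟩

theorem WW.sm (k : WW D a w) (s : Sm D a v) : WW D v w :=
  ⟨k.1, (s w k.1).1 k.2.1, fun x hx c => k.2.2 x hx ((s x hx).2 c)⟩

theorem ZZ.sm (k : ZZ D a e) (s : Sm D a v) : ZZ D v e :=
  ⟨k.1.sm s, fun s' => k.2.1 (s'.trans s.symm), fun w hw => (k.2.2 w (hw.sm s.symm)).sm s⟩

namespace RI
variable (h : IsRootInvolutionSet D)
include h

theorem swap' (ha : a ∈ D) (hb : b ∈ D) (k : ¬ Od a b) : a * b * a * b = b * a * b * a := by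
  rcases pair h ha hb with k' | k' | k'
  · rw [k'.eq, mul_assoc, mul_assoc, k'.eq]; group
  · exact absurd k' k
  · exact k'.swap (sq h ha) (sq h hb)

theorem comm_sq (ha : a ∈ D) (hb : b ∈ D) (k : ¬ Od a b) : Commute (a * b * a * b) b := by
  rcases pair h ha hb with k' | k' | k'
  · exact ((k'.mul_left (Commute.refl b)).mul_left k').mul_left (Commute.refl b)
  · exact absurd k' k
  · exact k'.comm_right (sq h ha) (sq h hb)

theorem od_sm (ha : a ∈ D) (hv : v ∈ D) (s : Sm D a v) (hx : x ∈ D) (o : Od a x) : Od v x :=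
  od_of_comm h ha hv (fun c hc => (s c hc).2) hx o

theorem fo_sm (ha : a ∈ D) (hv : v ∈ D) (s : Sm D a v) (hx : x ∈ D) (o : Fo a x) : Fo v x :=
  ((pair h hv hx).resolve_left fun k => o.1 ((s x hx).2 k.symm).symm).resolve_left fun k =>
    (od_sm h hv ha s.symm hx k).not_fo (sq h hx) o

theorem ww_sm (k : WW D a w) (hv : v ∈ D) (s : Sm D v w) (ha : a ∈ D) : WW D a v :=
  ⟨hv, ((s a ha).2 k.2.1.symm).symm, fun x hx c o => k.2.2 x hx c (od_sm h hv k.1 s hx o)⟩

theorem ww_prod (k : ProdAdj D a b) : WW D a b :=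
  ⟨k.2.1, k.2.2.2.1.symm, fun x hx c o =>
    not_comm h k.2.1 hx o k.1 k.2.2.2.1.symm (k.2.2.2.1 ▸ k.2.2.2.2) c.symm⟩

theorem ww_self (ha : a ∈ D) : WW D a a :=
  ⟨ha, Commute.refl a, fun x hx c o => o.not_comm (sq h ha) (sq h hx) c.symm⟩

theorem ww_fo (k : WW D a w) (hc : c ∈ D) (k' : Commute c a) (n : ¬ Commute w c) : Fo w c :=
  ((pair h k.1 hc).resolve_left n).resolve_left (k.2.2 c hc k')

theorem ww_conj (k : WW D a w) (g : G) : WW D (g * a * g⁻¹) (g * w * g⁻¹) :=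
  ⟨h.conj_mem w k.1 g, k.2.1.conj g, fun x hx c o => k.2.2 _ (h.conj_mem x hx g⁻¹) (cmj_iff.1 c)
    (by simpa [mul_assoc] using o.conj g⁻¹)⟩

theorem ee_conj (k : EEl D a w) (g : G) : EEl D (g * a * g⁻¹) (g * w * g⁻¹) := by
  rcases k with rfl | k
  · exact Or.inl (by simp)
  · exact Or.inr ⟨h.conj_mem w k.1 g, sm_conj h k.2 g⟩

theorem zz_conj (k : ZZ D a e) (g : G) : ZZ D (g * a * g⁻¹) (g * e * g⁻¹) :=
  ⟨ww_conj h k.1 g, fun s => k.2.1 (by simpa [mul_assoc] using sm_conj h s g⁻¹), fun w hw => by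
    have := ee_conj h (k.2.2 (g⁻¹ * w * g⁻¹⁻¹) (by simpa [mul_assoc] using ww_conj h hw g⁻¹)) g
    simpa [mul_assoc] using this⟩

theorem inj' (ha : a ∈ D) (hx : x ∈ D) (o : Od a x) (k : ProdAdj D a b) (k' : ProdAdj D a c) (f : Fo b x)
    (e : b * x * b * x = c * x * c * x) : b = c := by
  obtain ⟨-, hb, -, c1, m1⟩ := id k
  obtain ⟨-, hc, -, c2, m2⟩ := k'
  have c1 : Commute a b := c1
  have c2 : Commute a c := c2
  have k1 := (od_or_od h ha hx o hb c1 m1).resolve_left fun o => o.not_fo (sq h hx) f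
  have c3 : Commute (b * c) x := by
    have e' : b * x * b = c * x * c := mul_right_cancel e
    change _ = _
    calc _ = b * (c * x * c) * c := by simp only [mul_assoc, sq h hc, mul_one]
      _ = _ := by rw [← e']; simp only [← mul_assoc, sq h hb, one_mul]
  by_cases cc : Commute b c
  · have := eq_one h m1 hx k1 (z := b * c) (mul_sq' (sq h hb) (sq h hc) cc)
      ((c1.symm.mul_left c2.symm).mul_right ((Commute.refl b).mul_left cc.symm)) c3
      (by rwa [mul_assoc, ← mul_assoc b, sq h hb, one_mul])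
    rw [eq_inv_of_mul_eq_one_left this, inv h hc]
  have f' := ww_fo h (ww_prod h k) hc c2.symm cc
  have hn := fo_mem h hb hc f'
  refine absurd (eq_one h m1 hx k1 (sq h hn) (Commute.mul_right ?_ (f'.comm_left (sq h hb) (sq h hc))) ?_ ?_)
    (ne_one h hn)
  · exact ((c1.symm.mul_left c2.symm).mul_left c1.symm).mul_left c2.symm
  · rw [mul_assoc]; exact c3.mul_left c3
  · rw [mul_assoc, mul_fo h hb, ← mul_assoc, ← mul_assoc, c2.eq, mul_assoc c]; exact conj h m1 hc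

theorem exists_fo' [Finite G] (ha : a ∈ D) (hx : x ∈ D) (o : Od a x) (k : ProdAdj D a b) (f : Fo b x) :
    ∃ t, ProdAdj D x t ∧ Fo t a ∧ t * a * t * a = b := by
  have M : ∀ {a x b}, a ∈ D → x ∈ D → Od a x → ProdAdj D a b → Fo b x →
      ProdAdj D x (b * x * b * x) ∧ Fo (b * x * b * x) a := fun ha hx o k f =>
    ⟨f.swap (sq h k.2.1) (sq h hx) ▸ prodAdj_fo h hx k.2.1 f.symm, triangle h ha hx o k.2.1 k.2.2.2.1.symm f⟩
  have := ((Set.toFinite {b | ProdAdj D a b ∧ Fo b x}).injOn_iff_bijOn_of_mapsTo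
    (f := fun b => b * x * b * x * a * (b * x * b * x) * a) fun b hb =>
      M hx ha o.symm (M ha hx o hb.1 hb.2).1 (M ha hx o hb.1 hb.2).2).1 fun b hb c hc e =>
        inj' h ha hx o hb.1 hc.1 hb.2 (inj' h hx ha o.symm (M ha hx o hb.1 hb.2).1 (M ha hx o hc.1 hc.2).1
          (M ha hx o hb.1 hb.2).2 e)
  obtain ⟨c, hc, e⟩ := this.surjOn (show b ∈ _ from ⟨k, f⟩)
  exact ⟨_, (M ha hx o hc.1 hc.2).1, (M ha hx o hc.1 hc.2).2, e⟩

theorem ww_two [Finite G] : IsPGroup 2 (Subgroup.closure {w | WW D a w}) :=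
  isPGroup_closure_of_four (fun x hx => sq h hx.1) (fun x hx y hy => by
    have := ww_conj h hx y
    rwa [hy.2.1.eq, mul_inv_cancel_right, inv h hy.1] at this) fun x hx y hy => pow_four h hx.1 hy.1
      (hx.2.2 y hy.1 hy.2.1)

theorem ww_of_mem [Finite G] (hw : w ∈ D) (k : w ∈ Subgroup.closure {w | WW D a w}) : WW D a w := by
  refine ⟨hw, Subgroup.mem_centralizer_singleton_iff.1 ((Subgroup.closure_le (Subgroup.centralizer {a})).2
    (fun y hy => Subgroup.mem_centralizer_singleton_iff.2 hy.2.1) k), fun x hx c o => ?_⟩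
  have k' : x * w * x⁻¹ ∈ Subgroup.closure {w | WW D a w} :=
    (Subgroup.closure_le ((Subgroup.closure _).comap (MulAut.conj x).toMonoidHom)).2 (fun y hy =>
      Subgroup.subset_closure (by
        have := ww_conj h hy x
        rwa [c.eq, mul_inv_cancel_right] at this)) k
  obtain ⟨n, hn⟩ := ww_two h ⟨_, mul_mem k k'⟩
  refine o.not_pow (sq h hx) (k := n + 1) ?_
  rw [pow_succ', pow_mul, _root_.sq]
  simpa [inv h hx, mul_assoc] using congrArg Subtype.val hn

end RI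

variable [Finite G]

theorem ND.cent (h : ND D) (ha : a ∈ D) (he : e ∈ D) (k : ∀ t, ProdAdj D a t → Commute e t) : Sm D e a := by
  have hD := h.ri
  have hX : ∀ {a t}, ProdAdj D a t → ProdAdj D a (a * t) := fun {a t} k =>
    ⟨k.1, k.2.2.2.2, fun e' => RI.ne_one hD k.2.1 (by simpa using e'), (Commute.refl a).mul_right k.2.2.2.1,
      by rw [← mul_assoc, RI.sq hD k.1, one_mul]; exact k.2.1⟩
  have c0 : Commute e a := by
    obtain ⟨c, hc, f⟩ := h.exists_fo ha
    have p := RI.prodAdj_fo hD ha hc f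
    have := (k _ (hX p)).mul_right (k _ p).inv_right
    rwa [mul_inv_cancel_right] at this
  have ho := RI.od_iff_of_le hD (h.cl e he a ha) fun x hx o => by
    rcases RI.pair hD ha hx with c | c | c
    · exfalso
      have c1 : ∀ t, ProdAdj D a t → Commute t x := fun t p => o.commute (RI.sq hD he) (k t p).symm (by
        have := (k (x * t * x) ⟨ha, RI.conj hD p.2.1 hx, fun e' => p.2.2.1 (by
          rw [← mul_right_inj x, ← mul_left_inj x, ← e', ← c.eq, mul_assoc, RI.sq hD hx, mul_one]),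
          (c.mul_right p.2.2.2.1).mul_right c, by
            rw [← mul_assoc, ← mul_assoc, c.eq, mul_assoc x]; exact RI.conj hD p.2.2.2.2 hx⟩).conj x
        simpa only [RI.inv hD hx, ← mul_assoc, RI.sq hD hx, one_mul, mul_assoc _ x x, mul_one] using this.symm)
      obtain ⟨v, hv, o'⟩ := h.exists_od ha
      refine o'.not_comm (RI.sq hD ha) (RI.sq hD hv) (Commute.symm (Subgroup.mem_centralizer_singleton_iff.1
        ((h.gen he hx o (H := Subgroup.centralizer {a}) (fun t p => ?_)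
          (Subgroup.mem_centralizer_singleton_iff.2 c.symm)).ge (Subgroup.mem_top v))))
      refine Subgroup.mem_centralizer_singleton_iff.2 (by_contra fun n => ?_)
      have key : ∀ t, ProdAdj D e t → ¬ Commute t a → ¬ Od t x := fun t p n o' => by
        have f := RI.ww_fo hD (RI.ww_prod hD p) ha c0.symm n
        have p' := RI.prodAdj_fo hD p.2.1 ha f
        exact RI.not_comm hD p.2.1 hx o' p'.2.1 p'.2.2.2.1 p'.2.2.2.2 (c1 _ (f.swap (RI.sq hD p.2.1) (RI.sq hD ha) ▸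
          RI.prodAdj_fo hD ha p.2.1 f.symm))
      refine (RI.od_or_od hD he hx o p.2.1 p.2.2.2.1 p.2.2.2.2).elim (key t p n) (key _ (hX p) fun c => n ?_)
      have := c0.mul_left c
      rwa [← mul_assoc, RI.sq hD he, one_mul] at this
    · exact c
    · exact absurd (k _ (RI.prodAdj_fo hD ha hx c)).symm (RI.triangle hD he hx o ha c0.symm c).1
  exact fun c hc => ⟨RI.comm_of_od hD h.cl he ha ho hc, RI.comm_of_od hD h.cl ha he (fun x hx => (ho x hx).symm) hc⟩

/-- non-degenerate class with `E_d ∪ 1` a group -/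
structure RST (D : Set G) : Prop extends ND D where
  cls : ∀ a ∈ D, ∀ b ∈ D, Sm D a b → EEl D b (a * b)

namespace RST
variable (h : RST D)
include h

omit [Finite G] in
theorem ee_mul (k : EEl D a b) (k' : EEl D a c) : EEl D a (b * c) := by
  rcases k with rfl | k
  · rwa [one_mul]
  rcases k' with rfl | k'
  · rw [mul_one]; exact Or.inr k
  exact (h.cls b k.1 c k'.1 (k.2.trans k'.2.symm)).sm k'.2

theorem z1 (ha : a ∈ D) (he : WW D a e) (hn : ¬ Sm D e a)
    (k : ∀ v t, Sm D v a → ProdAdj D v t → EEl D a (e * t * e * t)) :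
    ∃ y ∈ D, Od e y ∧ ∀ v ∈ D, Sm D v a → Fo v y ∧ Fo (v * y * v * y) e ∧
      v * y * v * y * e * (v * y * v * y) * e = v := by
  have hD := h.ri
  obtain ⟨r, p, n⟩ : ∃ r, ProdAdj D a r ∧ ¬ Commute e r := by
    by_contra hc
    push Not at hc
    exact hn (h.toND.cent ha he.1 hc)
  have f := RI.ww_fo hD he p.2.1 p.2.2.2.1.symm n
  have p' := RI.prodAdj_fo hD p.2.1 he.1 f.symm
  have s0 := ((k a r (Sm.refl a) p).resolve_left (RI.ne_one hD (RI.fo_mem hD he.1 p.2.1 f))).2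
  rw [f.swap (RI.sq hD he.1) (RI.sq hD p.2.1)] at s0
  obtain ⟨y, hy, f2, e3⟩ := RI.key hD h.cl p'.2.1 p.2.1 p'.2.2.2.1 (p'.2.2.2.1 ▸ p'.2.2.2.2) he.1 fun e' =>
    n (e'.1 (f.symm.comm_right (RI.sq hD p.2.1) (RI.sq hD he.1)).symm)
  have h3 := RI.three hD he.1 p.2.1 hy f.symm rfl f2 e3
  have o : Od e y := ⟨fun e' => by rw [← e', RI.sq hD he.1, orderOf_one] at h3; omega, by rw [h3]; decide⟩
  refine ⟨y, hy, o, fun v hv s => ?_⟩
  have f3 := RI.fo_sm hD p'.2.1 hv (s0.trans s.symm) hy f2.symm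
  have c : Commute v e := ((s e he.1).2 he.2.1).symm
  have f4 := RI.triangle hD he.1 hy o hv c f3
  have p3 := RI.prodAdj_fo hD hv hy f3
  refine ⟨f3, f4, ?_⟩
  have := (h.ee_mul (Or.inr ⟨hv, s⟩) (f4.swap (RI.sq hD p3.2.1) (RI.sq hD he.1) ▸ k v _ s p3)).eq_one hy
    (fun c => f3.1 ((s y hy).2 c).symm) (s3 (RI.sq hD he.1) (RI.sq hD hy) (RI.sq hD hv) h3 c f3)
  rw [eq_inv_of_mul_eq_one_right this, RI.inv hD hv]

theorem zprod (ha : a ∈ D) (he : WW D a e) (hn : ¬ Sm D e a)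
    (k : ∀ v t, Sm D v a → ProdAdj D v t → EEl D a (e * t * e * t)) : ProdAdj D a e := by
  obtain ⟨y, hy, -, k'⟩ := h.z1 ha he hn k
  obtain ⟨f, f', e'⟩ := k' a ha (Sm.refl a)
  have hr := RI.fo_mem h.ri ha hy f
  have := RI.prodAdj_fo h.ri he.1 hr f'.symm
  rw [← f'.swap (RI.sq h.ri hr) (RI.sq h.ri he.1), e'] at this
  exact prodAdj_symm this

omit [Finite G] in
theorem zz_k (he : ZZ D a e) : ∀ v t, Sm D v a → ProdAdj D v t → EEl D a (e * t * e * t) := fun _ _ s p =>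
  he.2.2 _ ((RI.ww_prod h.ri p).sm s)

theorem zsymm (ha : a ∈ D) (he : ZZ D a e) : ZZ D e a := by
  have hD := h.ri
  have p := h.zprod ha he.1 he.2.1 (h.zz_k he)
  have c : Commute a e := p.2.2.2.1
  obtain ⟨c', hc', n⟩ : ∃ c ∈ D, ¬ (Commute c e ↔ Commute c a) := by
    by_contra hc
    push Not at hc
    exact he.2.1 hc
  obtain ⟨u, hu, f1, e1⟩ := RI.key hD h.cl ha p.2.1 c.symm p.2.2.2.2 hc' fun e' => n e'.symm
  obtain ⟨r, hr, f2, e2⟩ := RI.key hD h.cl p.2.1 ha c (c.eq ▸ p.2.2.2.2) hc' n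
  have c1 : Commute e u := e1 ▸ f1.comm_left (RI.sq hD hu) (RI.sq hD ha)
  have c2 : Commute a r := e2 ▸ f2.comm_left (RI.sq hD hr) (RI.sq hD p.2.1)
  have e3 : u * a * u = e * a := by rw [← e1, mul_assoc _ a a, RI.sq hD ha, mul_one]
  have e4 : r * e * r = a * e := by rw [← e2, mul_assoc _ e e, RI.sq hD p.2.1, mul_one]
  have := RI.zz_conj hD he (r * u)
  rw [mul_inv_rev, RI.inv hD hu, RI.inv hD hr, show r * u * a * (u * r) = r * (u * a * u) * r by group,
    show r * u * e * (u * r) = r * (u * e * u) * r by group, e3, ← c1.eq, mul_assoc e u u, RI.sq hD hu, mul_one, e4,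
    mul_assoc r, mul_assoc e, c2.eq, ← mul_assoc, ← mul_assoc, e4, c.eq, mul_assoc, RI.sq hD ha, mul_one] at this
  refine ⟨RI.ww_prod hD (prodAdj_symm p), fun s => he.2.1 s.symm, fun w hw => ?_⟩
  have k := this.2.2 w hw
  rwa [show e * a * w * (e * a) * w = e * a * (w * e) * a * w by group, hw.2.1.eq, ← c.eq,
    show a * e * (e * w) * a * w = a * (e * e) * w * a * w by group, RI.sq hD p.2.1, mul_one] at k

theorem main1 (ha : a ∈ D) (hz : WW D a z) (he : ZZ D a e) (hy : y ∈ D) (o : Od e y)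
    (k : ∀ v ∈ D, Sm D v a → Fo v y ∧ Fo (v * y * v * y) e ∧ v * y * v * y * e * (v * y * v * y) * e = v)
    (p : ProdAdj D a d) (e0 : d * z * d * z = e) (o' : Od d y) : False := by
  have hD := h.ri
  have hd := p.2.1
  have hE := he.1.1
  have cd : Commute a d := p.2.2.2.1
  have wd := RI.ww_prod hD p
  have f0 : Fo d z := RI.ww_fo hD wd hz.1 hz.2.1 fun c => RI.ne_one hD hE (by
    rw [← e0, mul_assoc, mul_sq' (RI.sq hD hd) (RI.sq hD hz.1) c])
  have c0 : Commute e d := e0 ▸ f0.comm_left (RI.sq hD hd) (RI.sq hD hz.1)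
  obtain ⟨r, p1, f1, e1⟩ := RI.exists_fo' hD hd hy o' (prodAdj_symm p) (k a ha (Sm.refl a)).1
  have hr := p1.2.1
  have wr : WW D a r := RI.ww_prod hD (prodAdj_symm (e1 ▸ RI.prodAdj_fo hD hr hd f1))
  have f2 : Fo r e := RI.ww_fo hD wr hE he.1.2.1 (RI.not_comm hD hy hE o.symm hr p1.2.2.2.1 p1.2.2.2.2)
  obtain ⟨hv, s1⟩ := (he.2.2 r wr).resolve_left (RI.ne_one hD (RI.fo_mem hD hE hr f2.symm))
  have e2 := f2.swap (RI.sq hD hr) (RI.sq hD hE)
  have p2 := RI.prodAdj_fo hD hE hr f2.symm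
  have c1 := f2.symm.comm_right (RI.sq hD hE) (RI.sq hD hr)
  generalize hv1 : e * r * e * r = v at *
  have e3 : r = v * y * v * y := RI.inj' hD hy hE o.symm p1 ((k v hv s1).1.swap (RI.sq hD hv) (RI.sq hD hy) ▸
    RI.prodAdj_fo hD hy hv (k v hv s1).1.symm) f2 (e2.trans (k v hv s1).2.2.symm)
  obtain ⟨u, hu, f3, e4⟩ := RI.key hD h.cl hv hE p2.2.2.2.1 (p2.2.2.2.1 ▸ p2.2.2.2.2) hr fun e' =>
    f2.1 (e'.1 c1.symm)
  have h3 := RI.three hD hr hE hu f2.symm hv1 f3 e4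
  have f4 := RI.fo_sm hD hv ha s1 hu f3.symm
  have z1 := h.zsymm ha he
  obtain ⟨hf, s2⟩ := (z1.2.2 u (RI.ww_prod hD (prodAdj_symm (e4 ▸ RI.prodAdj_fo hD hu hv f3)))).resolve_left
    (RI.ne_one hD (RI.fo_mem hD ha hu f4))
  have z2 := h.zsymm hf (z1.sm s2.symm)
  have e5 := (h.ee_mul (Or.inr ⟨ha, Sm.refl a⟩) (z2.2.2 r wr)).eq_one hu f4.symm.1
    (s3 (RI.sq hD hr) (RI.sq hD hu) (RI.sq hD ha) h3 wr.2.1.symm f4)
  generalize a * u * a * u = f at *
  have e6 : f * r * f = a * r := by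
    rw [← mul_left_inj r, mul_assoc a, RI.sq hD hr, mul_one, eq_inv_of_mul_eq_one_right e5, RI.inv hD ha]
  have e7 : d * r * d = r * a := by rw [← e1, RI.mul_fo hD hr]
  have c2 : Commute d f := (s2 d hd).2 c0.symm
  have sq2 : (d * f)⁻¹ = f * d := by rw [mul_inv_rev, RI.inv hD hd, RI.inv hD hf]
  have e8 : d * f * r * (d * f)⁻¹ = r := by
    rw [sq2, show d * f * r * (f * d) = d * (f * r * f) * d by group, e6, ← mul_assoc, ← cd.eq, mul_assoc a,
      mul_assoc a, e7, wr.2.1.eq, ← mul_assoc, RI.sq hD ha, one_mul]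
  let Q := Subgroup.closure {q | q ∈ D ∧ (Sm D q a ∨ Sm D q r)}
  have m1 : ∀ {q}, EEl D a q → q ∈ Q := fun k => k.elim (fun e => e ▸ one_mem _)
    fun k => Subgroup.subset_closure ⟨k.1, Or.inl k.2⟩
  have hQ : ∀ q ∈ Q, d * f * q * (d * f)⁻¹ = q := fun q hq => by
    rw [mul_inv_eq_iff_eq_mul]
    refine (Subgroup.mem_centralizer_singleton_iff.1 ((Subgroup.closure_le (Subgroup.centralizer {d * f})).2 ?_
      hq)).symm
    rintro q ⟨hq, s | s⟩ <;> refine Subgroup.mem_centralizer_singleton_iff.2 ?_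
    · exact (((s d hd).2 cd.symm).mul_left ((s f hf).2 z2.1.2.1)).symm
    have s3 := RI.sm_conj hD s (d * f)
    have hq' := hD.conj_mem q hq (d * f)
    rw [e8] at s3
    have w3 := RI.ww_sm hD wr hq' s3 ha
    have e9 : q * d * q * d = q * (d * f * q * (d * f)⁻¹) *
        (f * (d * f * q * (d * f)⁻¹) * f * (d * f * q * (d * f)⁻¹))⁻¹ := by
      rw [mul_inv_rev (_ * f), RI.inv hD hq', mul_inv_rev (f * _), mul_inv_rev f, RI.inv hD hq', RI.inv hD hf,
        mul_assoc q (d * f * q * _), ← mul_assoc (d * f * q * _), RI.sq hD hq', one_mul, sq2, c2.eq,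
        show f * (f * d * q * (f * d) * f) = f * f * d * q * (f * d * f) by group, ← c2.eq, mul_assoc d f f,
        RI.sq hD hf]
      group
    have c3 := RI.comm_sq hD hq hd ((RI.ww_sm hD wr hq s ha).2.2 d hd cd.symm)
    have c4 := c3.mul_left ((z2.2.2 _ w3).comm hd cd.symm)
    rw [e9, inv_mul_cancel_right] at c4
    have := ((h.cls q hq _ hq' (s.trans s3.symm)).sm s3).eq_one hd f1.symm.1 c4
    rw [← RI.inv hD hq, inv_mul_eq_one, RI.inv hD hq, eq_mul_inv_iff_mul_eq] at this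
    exact this
  have e10 : ∀ v ∈ D, Sm D v a → v * y * v * y = e * y * v * (e * y)⁻¹ := fun v hv s => by
    obtain ⟨k1, k2, k3⟩ := k v hv s
    have c : Commute e v := (s e hE).2 he.1.2.1
    have c' := k1.comm_left (RI.sq hD hv) (RI.sq hD hy)
    have e' := RI.mul_fo hD hv y
    have sq' := RI.sq hD (RI.fo_mem hD hv hy k1)
    rw [mul_inv_rev, RI.inv hD hy, RI.inv hD hE, show e * y * v * (y * e) = e * (y * v * y) * e by group, ← e']
    generalize v * y * v * y = t at *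
    calc t = v * (t * v) := by rw [c'.eq, ← mul_assoc, RI.sq hD hv, one_mul]
      _ = v * (t * t) * e * t * e := by rw [← k3]; group
      _ = _ := by rw [sq', mul_one, ← c.eq]; group
  have nY : ∀ q ∈ Q, y * q * y⁻¹ ∈ Q := fun q hq => by
    refine (Subgroup.closure_le (Q.comap (MulAut.conj y).toMonoidHom)).2 ?_ hq
    rintro q ⟨hq, s | s⟩ <;> change y * q * y⁻¹ ∈ Q
    · rw [RI.inv hD hy, ← RI.mul_fo hD hq]
      refine mul_mem (m1 (Or.inr ⟨hq, s⟩)) (Subgroup.subset_closure ⟨RI.fo_mem hD hq hy (k q hq s).1, Or.inr ?_⟩)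
      rw [e3, e10 q hq s, e10 v hv s1]
      exact RI.sm_conj hD (s.trans s1.symm) _
    · rw [((s y hy).2 p1.2.2.2.1).eq, mul_inv_cancel_right]; exact Subgroup.subset_closure ⟨hq, Or.inr s⟩
  have nF : ∀ q ∈ Q, f * q * f⁻¹ ∈ Q := fun q hq => by
    refine (Subgroup.closure_le (Q.comap (MulAut.conj f).toMonoidHom)).2 ?_ hq
    rintro q ⟨hq, s | s⟩ <;> change f * q * f⁻¹ ∈ Q
    · rw [((s f hf).2 z2.1.2.1).eq, mul_inv_cancel_right]; exact Subgroup.subset_closure ⟨hq, Or.inl s⟩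
    · have := mul_mem (m1 (z2.2.2 q (RI.ww_sm hD wr hq s ha))) (Subgroup.subset_closure (show q ∈ _ from ⟨hq, Or.inr s⟩))
      rw [mul_assoc, RI.sq hD hq, mul_one] at this
      rwa [RI.inv hD hf]
  have hP : ∀ n : ℕ, (d * y) ^ n * a * ((d * y) ^ n)⁻¹ = (f * y) ^ n * a * ((f * y) ^ n)⁻¹ ∧
      (f * y) ^ n * a * ((f * y) ^ n)⁻¹ ∈ Q := fun n => by
    induction n with
    | zero => simpa using m1 (Or.inr ⟨ha, Sm.refl a⟩)
    | succ n ih =>
      have k1 := nF _ (nY _ ih.2)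
      have k2 := hQ _ k1
      rw [pow_succ', pow_succ']
      refine ⟨?_, by simpa only [mul_inv_rev, mul_assoc] using k1⟩
      calc _ = d * (y * ((d * y) ^ n * a * ((d * y) ^ n)⁻¹) * y⁻¹) * d⁻¹ := by simp only [mul_inv_rev, mul_assoc]
        _ = d * (f * f) * (y * ((f * y) ^ n * a * ((f * y) ^ n)⁻¹) * y⁻¹) * (d * (f * f))⁻¹ := by
          rw [ih.1, RI.sq hD hf, mul_one]
        _ = d * f * (f * (y * ((f * y) ^ n * a * ((f * y) ^ n)⁻¹) * y⁻¹) * f⁻¹) * (d * f)⁻¹ := by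
          simp only [mul_inv_rev, mul_assoc]
        _ = _ := by rw [k2]; simp only [mul_inv_rev, mul_assoc]
  obtain ⟨m, hm⟩ := o'.2.mul (RI.od_sm hD hE hf s2.symm hy o).2
  have g1 := conj_of_pow (m := m) (RI.sq hD hd) (RI.sq hD hy) (by rw [← hm, pow_mul, pow_orderOf_eq_one, one_pow])
  have g2 := conj_of_pow (m := m) (RI.sq hD hf) (RI.sq hD hy)
    (by rw [← hm, mul_comm (orderOf _), pow_mul, pow_orderOf_eq_one, one_pow])
  have z3 := RI.zz_conj hD (RI.zz_conj hD z2 ((f * y) ^ m)) ((d * y) ^ m)⁻¹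
  rw [g2.trans g1.symm, ← (hP m).1] at z3
  simp only [mul_assoc, inv_mul_cancel_left, inv_inv, inv_mul_cancel, mul_one] at z3
  rcases e0 ▸ z3.2.2 z hz with k | k
  · exact RI.ne_one hD hE k
  · exact he.2.1 k.2

theorem main0 (p : ProdAdj D a d) (hz : WW D a z) : ¬ ZZ D a (d * z * d * z) := fun he => by
  have hD := h.ri
  obtain ⟨y, hy, o, k⟩ := h.z1 p.1 he.1 he.2.1 (h.zz_k he)
  have hd := p.2.1
  have f0 : Fo d z := RI.ww_fo hD (RI.ww_prod hD p) hz.1 hz.2.1 fun c => RI.ne_one hD he.1.1 (by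
    rw [mul_assoc, mul_sq' (RI.sq hD hd) (RI.sq hD hz.1) c])
  have p1 := prodAdj_symm (RI.prodAdj_fo hD hd hz.1 f0)
  rcases RI.od_or_od hD he.1.1 hy o hd p1.2.2.2.1 p1.2.2.2.2 with o' | o'
  · exact h.main1 p.1 hz he hy o k p rfl o'
  rw [p1.2.2.2.1, RI.mul_fo hD hd] at o'
  have c : Commute z a := hz.2.1
  refine h.main1 p.1 hz he hy o k ⟨p.1, RI.conj hD hd hz.1, fun e => p.2.2.1 ?_,
    (c.symm.mul_right p.2.2.2.1).mul_right c.symm, ?_⟩ ?_ o'
  · rw [← mul_right_inj z, ← mul_left_inj z, ← e, c.eq, mul_assoc, RI.sq hD hz.1, mul_one]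
  · rw [← mul_assoc, ← mul_assoc, ← c.eq, mul_assoc z]; exact RI.conj hD p.2.2.2.2 hz.1
  · rw [mul_assoc _ z z, RI.sq hD hz.1, mul_one, ← mul_assoc, ← mul_assoc, mul_assoc _ z z, RI.sq hD hz.1, mul_one,
      f0.swap (RI.sq hD hd) (RI.sq hD hz.1)]

theorem main (ha : a ∈ D) (s : Sm D v a) (p : ProdAdj D v d) (hz : WW D a z) : EEl D a (d * z * d * z) := by
  have hD := h.ri
  have M : ∀ {d z}, WW D a d → WW D a z → d * z * d * z ∈ Subgroup.closure {w | WW D a w} := fun k k' =>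
    mul_mem (mul_mem (mul_mem (Subgroup.subset_closure k) (Subgroup.subset_closure k')) (Subgroup.subset_closure k))
      (Subgroup.subset_closure k')
  by_contra hn
  refine nil_empty (RI.ww_two hD) (S := {e | ¬ EEl D a e ∧ ∃ v d z, Sm D v a ∧ ProdAdj D v d ∧ WW D a z ∧
    e = d * z * d * z}) ?_ (M ((RI.ww_prod hD p).sm s) hz) ⟨hn, v, d, z, s, p, hz, rfl⟩
  rintro _ ⟨hn, v, d, z, s, p, hz, rfl⟩
  have wd := (RI.ww_prod hD p).sm s
  have we := RI.ww_of_mem hD (RI.fo_mem hD wd.1 hz.1 (RI.ww_fo hD wd hz.1 hz.2.1 fun c => hn (Or.inl (by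
    rw [mul_assoc, mul_sq' (RI.sq hD wd.1) (RI.sq hD hz.1) c])))) (M wd hz)
  have hZ := h.main0 p (hz.sm s.symm)
  generalize d * z * d * z = e at *
  refine ⟨RI.ne_one hD we.1, ?_⟩
  by_cases k : ∀ v t, Sm D v a → ProdAdj D v t → EEl D a (e * t * e * t)
  · have n : ¬ Sm D e a := fun s => hn (Or.inr ⟨we.1, s⟩)
    obtain ⟨w, hw, n'⟩ : ∃ w, WW D a w ∧ ¬ EEl D a (e * w * e * w) := by
      by_contra hc
      push Not at hc
      exact hZ (ZZ.sm ⟨we, n, hc⟩ s.symm)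
    refine ⟨w, Subgroup.subset_closure hw, ?_⟩
    rw [RI.inv hD we.1, RI.inv hD hw.1]
    exact ⟨n', a, e, w, Sm.refl a, h.zprod ha we n k, hw, rfl⟩
  push Not at k
  obtain ⟨v, t, s, p, n⟩ := k
  have wt := (RI.ww_prod hD p).sm s
  refine ⟨t, Subgroup.subset_closure wt, ?_⟩
  rw [RI.inv hD we.1, RI.inv hD wt.1]
  exact ⟨n, v, t, e, s, p, we, RI.swap' hD we.1 wt.1 (we.2.2 t wt.1 wt.2.1)⟩

theorem prod_of_ww (ha : a ∈ D) (hw : WW D a w) (hne : a ≠ w) : ProdAdj D a w := by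
  by_cases s : Sm D w a
  · refine ⟨ha, hw.1, hne, hw.2.1.symm, ((h.cls a ha w hw.1 s.symm).resolve_left fun e => hne ?_).1⟩
    rw [eq_inv_of_mul_eq_one_left e, RI.inv h.ri hw.1]
  refine h.zprod ha hw s fun v t s' p => ?_
  have wt := (RI.ww_prod h.ri p).sm s'
  rw [RI.swap' h.ri hw.1 wt.1 (hw.2.2 t wt.1 wt.2.1)]
  exact h.main ha s' p hw

end RST

end Cfsg.Agent.Root
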