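import Cfsg.Agent.Root.Inv5
import Cfsg.Agent.Root.Inv6

/-! Odd transpositions with `E_d ∪ 1` a group of order at least four (`OE`): subgroups in which commuting is
transitive (`TCl`), the swapping involution `OE.swap`, the line lemma `OE.line`, `OE.fixl` and `OE.good`. -/

namespace Cfsg.Agent.Root
open Cfsg MulAction

universe u
variable {G : Type u} [Group G] {D C S : Set G} {Y : Subgroup G} {a b b' c d e f g g' n s t w x y z : G}

theorem exists_two_lift [Finite G] {H : Type*} [Group H] (φ : G →* H) {k : ℕ} (h : φ g ^ 2 ^ k = 1) :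
    ∃ g', (∃ j, g' ^ 2 ^ j = 1) ∧ φ g' = φ g := by
  obtain ⟨j, m, hm, e⟩ := Nat.exists_eq_two_pow_mul_odd (orderOf_pos g).ne'
  obtain ⟨i, hi⟩ := exists_pow_eq_self_of_coprime (x := φ g) (n := m)
    ((hm.coprime_two_right.pow_right k).coprime_dvd_right (orderOf_dvd_of_pow_eq_one h))
  refine ⟨(g ^ m) ^ i, ⟨j, ?_⟩, by rw [map_pow, map_pow, hi]⟩
  rw [← pow_mul, mul_comm, pow_mul, ← pow_mul g, mul_comm, ← e, pow_orderOf_eq_one, one_pow]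

theorem comm_closure (k : ∀ a ∈ S, Commute a z) (hg : g ∈ Subgroup.closure S) : Commute g z :=
  Subgroup.mem_centralizer_singleton_iff.1 ((Subgroup.closure_le (Subgroup.centralizer {z})).2
    (fun a ha => Subgroup.mem_centralizer_singleton_iff.2 (k a ha)) hg)

/-- the class of `d` under `Y` -/
def Cls (Y : Subgroup G) (d : G) : Set G := {y | ∃ g ∈ Y, y = g * d * g⁻¹}

theorem Cls.self : d ∈ Cls Y d := ⟨1, one_mem _, by simp⟩

theorem Cls.conj (ha : a ∈ Cls Y d) (hg : g ∈ Y) : g * a * g⁻¹ ∈ Cls Y d := by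
  obtain ⟨k, hk, rfl⟩ := ha; exact ⟨g * k, mul_mem hg hk, by group⟩

theorem Cls.mem (ha : a ∈ Cls Y d) (hd : d ∈ Y) : a ∈ Y := by
  obtain ⟨k, hk, rfl⟩ := ha; exact mul_mem (mul_mem hk hd) (inv_mem hk)

theorem OC.cls_of (h : OC D) (ha : a ∈ D) (hb : b ∈ D) (k : ¬ Commute a b) (haY : a ∈ Y) (hbY : b ∈ Y)
    (hC : a ∈ Cls Y d) : b ∈ Cls Y d := by
  obtain ⟨m, hm⟩ := (h.od ha hb k).exists_conj (h.sq ha) (h.sq hb)
  exact hm ▸ Cls.conj hC (pow_mem (mul_mem haY hbY) m)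

/-- a subclass on which commuting is transitive -/
structure TCl (D : Set G) (Y : Subgroup G) (C : Set G) : Prop where
  sub : C ⊆ D
  gen : Subgroup.closure C = Y
  conj : ∀ a ∈ C, ∀ g ∈ Y, g * a * g⁻¹ ∈ C
  tr : ∀ a ∈ C, ∀ b ∈ C, ∀ c ∈ C, Commute a b → Commute b c → Commute a c
  two : ∃ a ∈ C, ∃ b ∈ C, ¬ Commute a b
  dd : ∃ a ∈ C, ∃ b ∈ C, Commute a b ∧ a * b ∈ C

theorem tcl_of (h : OC D) (hd : d ∈ D) (hS : Subgroup.closure S = Y) (hdY : d ∈ Y) (k : S ⊆ Cls Y d)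
    (tr : ∀ a ∈ Cls Y d, ∀ b ∈ Cls Y d, Commute a d → Commute b d → Commute a b) (hx : x ∈ Cls Y d)
    (n1 : ¬ Commute x d) (he : e ∈ Cls Y d) (ce : Commute e d) (hm : e * d ∈ Cls Y d) : TCl D Y (Cls Y d) := by
  refine ⟨by rintro _ ⟨g, -, rfl⟩; exact h.ri.conj_mem d hd g, le_antisymm ((Subgroup.closure_le _).2
    fun a ha => Cls.mem ha hdY) (hS.ge.trans (Subgroup.closure_mono k)), fun a ha g hg => Cls.conj ha hg, ?_,
    ⟨x, hx, d, Cls.self, n1⟩, ⟨e, he, d, Cls.self, ce, hm⟩⟩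
  rintro a ha _ ⟨g, hg, rfl⟩ c hc k1 k2
  have := (tr _ (Cls.conj ha (inv_mem hg)) _ (Cls.conj hc (inv_mem hg)) (cmj_iff.1 k1) (cmj_iff.1 k2.symm)).conj g
  simpa [mul_assoc] using this

namespace TCl
variable (k : TCl D Y C)
include k

theorem mem (ha : a ∈ C) : a ∈ Y := k.gen ▸ Subgroup.subset_closure ha

/-- the kernel of the action on the blocks -/
def ker : Subgroup G where
  carrier := {n | n ∈ Y ∧ ∀ a ∈ C, Commute (n * a * n⁻¹) a}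
  one_mem' := ⟨one_mem _, fun a _ => by simp⟩
  mul_mem' := fun {n m} hn hm => ⟨mul_mem hn.1 hm.1, fun a ha => k.tr _ (k.conj a ha _ (mul_mem hn.1 hm.1)) _
    (k.conj a ha n hn.1) a ha (by simpa [mul_assoc] using (hm.2 a ha).conj n) (hn.2 a ha)⟩
  inv_mem' := fun {n} hn => ⟨inv_mem hn.1, fun a ha => by
    simpa [mul_assoc] using (hn.2 _ (k.conj a ha _ (inv_mem hn.1))).symm⟩

theorem ker_conj (hn : n ∈ k.ker) (hg : g ∈ Y) : g * n * g⁻¹ ∈ k.ker :=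
  ⟨mul_mem (mul_mem hg hn.1) (inv_mem hg), fun a ha => by
    simpa [mul_assoc] using (hn.2 _ (k.conj a ha _ (inv_mem hg))).conj g⟩

theorem not_ker (h : OC D) (ha : a ∈ C) : a ∉ k.ker := fun hn => by
  have key : ∀ b ∈ C, Commute a b := fun b hb => by_contra fun n =>
    h.nc (k.sub (k.conj b hb a hn.1)) (k.sub hb) (by
      have o := (h.od (k.sub ha) (k.sub hb) n)
      refine ⟨fun e => n (mul_inv_eq_iff_eq_mul.1 e), ?_⟩
      rw [RI.inv h.ri (k.sub ha), mul_assoc, ← sq]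
      exact o.2.of_dvd_nat (orderOf_pow_dvd 2)) (hn.2 b hb)
  obtain ⟨b, hb, c, hc, n⟩ := k.two
  exact n (k.tr b hb a ha c hc (key b hb).symm (key c hc))

theorem loc [Finite G] (h : OC D) (hd : d ∈ C) :
    (∀ b ∈ C, ¬ Commute b d → ∀ b' ∈ C, ¬ Commute b' d → ∃ g ∈ Y, (∃ j, g ^ 2 ^ j = 1) ∧ Commute (g * d * g⁻¹) d ∧
      Commute (g * b * g⁻¹) b') ∧
    ∀ b ∈ C, ¬ Commute b d → ∀ g ∈ Y, ∀ g' ∈ Y, (∃ j, g ^ 2 ^ j = 1) → (∃ j, g' ^ 2 ^ j = 1) →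
      Commute (g * d * g⁻¹) d → Commute (g' * d * g'⁻¹) d → Commute (g * b * g⁻¹) (g' * b * g'⁻¹) →
      g' * g⁻¹ ∈ k.ker := by
  have hD := RI.sub h.ri k.sub k.gen k.conj fun a ha b hb f => absurd f (h.nf a (k.sub ha) b (k.sub hb))
  set D' : Set Y := Subtype.val ⁻¹' C
  have cm : ∀ {a b : Y}, Commute a b ↔ Commute (a : G) b := ⟨congrArg Subtype.val, fun e => Subtype.ext e⟩
  obtain ⟨H, β, hb, hβ⟩ := exists_blk hD (R := fun a b => a = b ∨ (a ∈ D' ∧ b ∈ D' ∧ Commute a b))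
    (fun a => Or.inl rfl) (fun a b k => k.imp Eq.symm fun k => ⟨k.2.1, k.1, k.2.2.symm⟩)
    (by
      rintro a b c (rfl | k1) (rfl | k2)
      exacts [Or.inl rfl, Or.inr k2, Or.inr k1, Or.inr ⟨k1.1, k2.2.1, cm.2 (k.tr _ k1.1 _ k1.2.1 _ k2.2.1
        (cm.1 k1.2.2) (cm.1 k2.2.2))⟩])
    (fun a b g k => k.imp (fun e => by rw [e]) fun k => ⟨hD.conj_mem a k.1 g, hD.conj_mem b k.2.1 g, k.2.2.conj g⟩)
    (fun a ha b hb n => od_coe.2 (h.od (k.sub ha) (k.sub hb) fun c => n (Or.inr ⟨ha, hb, cm.2 c⟩)))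
    (by
      obtain ⟨a, ha, b, hb, n⟩ := k.two
      exact ⟨⟨a, k.mem ha⟩, ha, ⟨b, k.mem hb⟩, hb, fun e => n (e.elim (fun e => by
        rw [show a = b from congrArg Subtype.val e]) fun e => cm.1 e.2.2)⟩)
  have hβ' : ∀ a ∈ D', ∀ b ∈ D', β a = β b ↔ Commute (a : G) b := fun a ha b hb => (hβ a ha b hb).trans
    ⟨fun e => e.elim (fun e => by rw [e]) fun e => cm.1 e.2.2, fun e => Or.inr ⟨ha, hb, cm.2 e⟩⟩
  obtain ⟨-, t, Q, k1⟩ := hb.hyp (hb.rank2 (by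
    obtain ⟨a, ha, b, hb, c, m⟩ := k.dd
    exact ⟨⟨a, k.mem ha⟩ * ⟨b, k.mem hb⟩, m, ⟨a, k.mem ha⟩, ha, ⟨b, k.mem hb⟩, hb, Subtype.ext c.eq,
      fun e => RI.ne_one h.ri (k.sub m) (congrArg Subtype.val e), rfl⟩)) (β ⟨d, k.mem hd⟩)
  have hS := k1.setup
  have eq : ∀ (g : Y), ∀ a ∈ D', ∀ b ∈ D', im (Y ⧸ H) g • β a = β b ↔ Commute ((g : G) * a * (g : G)⁻¹) b :=
    fun g a ha b hb' => by rw [im_smul, ← hb.equi a ha, hβ' _ (hD.conj_mem a ha g) b hb']; rfl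
  refine ⟨fun b hb' n b' hb'' n' => ?_, fun b hb' n g hg g' hg' ⟨j, hj⟩ ⟨j', hj'⟩ c1 c2 c3 => ?_⟩
  · obtain ⟨q, hq, e⟩ := Rank1.Setup.exists_Q hS (mt (hβ' ⟨b, k.mem hb'⟩ hb' _ hd).1 n)
      (mt (hβ' ⟨b', k.mem hb''⟩ hb'' _ hd).1 n')
    obtain ⟨g, rfl⟩ := (toPermHom Y (Y ⧸ H)).rangeRestrict_surjective q
    obtain ⟨j, hj⟩ := k1.tri.1 ⟨_, hq⟩
    obtain ⟨g', ⟨i, hi⟩, e'⟩ := exists_two_lift (im (Y ⧸ H)) (g := g) (k := j) (congrArg Subtype.val hj)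
    refine ⟨g', g'.2, ⟨i, congrArg Subtype.val hi⟩, (eq g' ⟨d, k.mem hd⟩ hd ⟨d, k.mem hd⟩ hd).1 ?_,
      (eq g' ⟨b, k.mem hb'⟩ hb' ⟨b', k.mem hb''⟩ hb'').1 ?_⟩ <;> rw [e']
    exacts [Rank1.Setup.smul_a hS hq, e]
  have m : ∀ g (hg : g ∈ Y) j, g ^ 2 ^ j = 1 → Commute (g * d * g⁻¹) d → im (Y ⧸ H) ⟨g, hg⟩ ∈ Q := fun g hg j hj c =>
    Rank1.Setup.mem_Q_of_pow hS ((eq ⟨g, hg⟩ ⟨d, k.mem hd⟩ hd ⟨d, k.mem hd⟩ hd).2 c) (n := j) (by
      rw [← map_pow, show (⟨g, hg⟩ : Y) ^ 2 ^ j = 1 from Subtype.ext hj, map_one])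
  have e := Rank1.Setup.eq_of_smul hS (m g hg j hj c1) (m g' hg' j' hj' c2) (mt (hβ' ⟨b, k.mem hb'⟩ hb' _ hd).1 n) (by
    rw [im_smul (⟨g', hg'⟩ : Y), ← hb.equi ⟨b, k.mem hb'⟩ hb']
    exact (eq ⟨g, hg⟩ ⟨b, k.mem hb'⟩ hb' _ (hD.conj_mem ⟨b, k.mem hb'⟩ hb' _)).2 c3)
  refine ⟨mul_mem hg' (inv_mem hg), fun a ha => (eq (⟨g', hg'⟩ * (⟨g, hg⟩ : Y)⁻¹) ⟨a, k.mem ha⟩ ha ⟨a, k.mem ha⟩ ha).1 ?_⟩
  rw [map_mul, map_inv, e, mul_inv_cancel, one_smul]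

end TCl

/-- `⟨E_d, S⟩` -/
abbrev XS (D : Set G) (d : G) (S : Set G) : Subgroup G := Subgroup.closure ({f | f ∈ D ∧ Sm D f d} ∪ S)

theorem XS.memE (hf : f ∈ D) (k : Sm D f d) : f ∈ XS D d S := Subgroup.subset_closure (Or.inl ⟨hf, k⟩)

theorem XS.memS (hx : x ∈ S) : x ∈ XS D d S := Subgroup.subset_closure (Or.inr hx)

theorem XS.comm (k1 : ∀ f ∈ D, Sm D f d → Commute f z) (k2 : ∀ a ∈ S, Commute a z) (hg : g ∈ XS D d S) :
    Commute g z := comm_closure (fun a ha => ha.elim (fun ha => k1 a ha.1 ha.2) (k2 a)) hg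

theorem XS.mono {S' : Set G} (k : S ⊆ S') : XS D d S ≤ XS D d S' := Subgroup.closure_mono (Set.union_subset_union_right _ k)

/-- classes of odd transpositions with `E_d ∪ 1` a group of order at least four -/
structure OE (D : Set G) : Prop extends OC D where
  cls : ∀ a ∈ D, ∀ b ∈ D, Sm D a b → EEl D b (a * b)
  dd : ∀ d ∈ D, ∃ e ∈ D, Sm D e d ∧ e * d ∈ D

namespace OE
variable (h : OE D)
include h

theorem ee_mul (k : EEl D a b) (k' : EEl D a c) : EEl D a (b * c) := by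
  rcases k with rfl | k
  · rwa [one_mul]
  rcases k' with rfl | k'
  · rw [mul_one]; exact Or.inr k
  exact (h.cls b k.1 c k'.1 (k.2.trans k'.2.symm)).sm k'.2

theorem e_cls (hd : d ∈ D) (hx : x ∈ D) (n1 : ¬ Commute x d) (hS : x ∈ S) (hf : f ∈ D) (k : Sm D f d) :
    x ∈ Cls (XS D d S) d ∧ f ∈ Cls (XS D d S) d :=
  have k1 := h.toOC.cls_of hd hx (fun c => n1 c.symm) (XS.memE hd (Sm.refl d)) (XS.memS hS) Cls.self
  ⟨k1, h.toOC.cls_of hx hf (fun c => n1 ((k x hx).1 c)) (XS.memS hS) (XS.memE hf k) k1⟩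

theorem sm_dd (he : e ∈ D) (hd : d ∈ D) (k : Sm D e d) (hm : e * d ∈ D) : Sm D (e * d) d :=
  ((h.cls e he d hd k).resolve_left (RI.ne_one h.ri hm)).2

variable [Finite G]

theorem smX (hd : d ∈ D) (hx : x ∈ D) (n1 : ¬ Commute x d) (hb : b ∈ D) (hX : b ∈ XS D d {x}) (k : Commute b d) :
    Sm D b d :=
  let ⟨_, he, k1, hm⟩ := h.dd d hd
  h.toOC.sm_of_comm hd he k1 hm hx n1 hb hX k

theorem tclX (hd : d ∈ D) (hx : x ∈ D) (n1 : ¬ Commute x d) : TCl D (XS D d {x}) (Cls (XS D d {x}) d) := by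
  obtain ⟨e, he, k, hm⟩ := h.dd d hd
  have m := fun f => h.e_cls (S := {x}) (f := f) hd hx n1 rfl
  have hD : ∀ a ∈ Cls (XS D d {x}) d, a ∈ D := by rintro _ ⟨g, -, rfl⟩; exact h.ri.conj_mem d hd g
  refine tcl_of h.toOC hd rfl (XS.memE hd (Sm.refl d)) ?_ (fun a ha b hb c1 c2 => ?_) (m d hd (Sm.refl d)).1 n1
    (m e he k).2 (k.comm he) (m _ hm (h.sm_dd he hd k hm)).2
  · rintro f (hf | rfl)
    exacts [(m f hf.1 hf.2).2, (m d hd (Sm.refl d)).1]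
  · exact (((h.smX hd hx n1 (hD a ha) (Cls.mem ha (XS.memE hd (Sm.refl d))) c1) b (hD b hb)).2 c2).symm

theorem weyl (hd : d ∈ D) (hx : x ∈ D) (n1 : ¬ Commute x d) : ∃ g ∈ XS D d {x}, (∃ j, g ^ 2 ^ j = 1) ∧
    Sm D (g * d * g⁻¹) d ∧ Commute (g * (x * d * x⁻¹) * g⁻¹) x ∧ Sm D (g * x * g⁻¹ * x * (g * x * g⁻¹)⁻¹) d := by
  have k := h.tclX hd hx n1
  have mx := (h.e_cls (S := {x}) hd hx n1 rfl hd (Sm.refl d)).1
  have hxX := k.mem mx
  obtain ⟨g, hg, h2, c1, c2⟩ := (k.loc h.toOC Cls.self).1 _ (Cls.conj Cls.self hxX) (fun c => n1 (by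
    rw [RI.inv h.ri hx] at c
    exact ((h.toOC.od hd hx fun c => n1 c.symm).commute (h.sq hd) (Commute.refl d) c.symm).symm)) x mx n1
  have m1 := Cls.conj Cls.self hg (d := d)
  have m2 := Cls.conj mx (k.mem (Cls.conj mx hg))
  refine ⟨g, hg, h2, h.smX hd hx n1 (k.sub m1) (k.mem m1) c1, c2, h.smX hd hx n1 (k.sub m2) (k.mem m2)
    (k.tr _ m2 _ m1 d Cls.self ?_ c1)⟩
  have := c2.symm.conj (g * x * g⁻¹)
  rwa [show g * x * g⁻¹ * (g * (x * d * x⁻¹) * g⁻¹) * (g * x * g⁻¹)⁻¹ = g * (x * x) * d * (x * x)⁻¹ * g⁻¹ by group,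
    h.sq hx, inv_one, mul_one, mul_one] at this

/-- the configuration `c f a` centralising `x` -/
structure Tri (D : Set G) (d f c a x : G) : Prop where
  hd : d ∈ D
  hf : f ∈ D
  hc : c ∈ D
  ha : a ∈ D
  hx : x ∈ D
  fd : Sm D f d
  cd : Commute c d
  ad : Commute a d
  ac : Commute a c
  ns : ¬ Sm D c d
  xd : ¬ Commute x d
  xc : ¬ Commute x c
  sx : Commute (c * f * a) x

theorem exists_tri (hd : d ∈ D) (hc : c ∈ D) (hx : x ∈ D) (cd : Commute c d) (ns : ¬ Sm D c d) (xd : ¬ Commute x d)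
    (xc : ¬ Commute x c) : ∃ f a, Tri D d f c a x :=
  let ⟨_, he, k1, hm⟩ := h.dd d hd
  let ⟨f, hf, k2, a, ha, _, c1, c2, c3, _⟩ := h.toOC.strick hd he k1 hm hc cd ns hx xd
  ⟨f, a, hd, hf, hc, ha, hx, k2, cd, c2, c1, ns, xd, xc, c3⟩

omit [Finite G] in
theorem tri_xa (T : Tri D d f c a x) : ¬ Commute x a := fun k => by
  have := T.sx.symm.mul_right k
  rw [mul_assoc, h.sq T.ha, mul_one] at this
  exact T.xc (h.toOC.cc T.hc T.hf ((T.fd c T.hc).2 T.cd) (fun e => T.ns (e ▸ T.fd)) T.hx this)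

omit [Finite G] in
theorem tri_s (T : Tri D d f c a x) : c * f * a * (c * f * a) = 1 ∧ c * f * a ∈ XS D d {c, x} ∧
    ∀ g ∈ XS D d {c, x}, Commute g (c * f * a) := by
  have cf := (T.fd c T.hc).2 T.cd
  have af := (T.fd a T.ha).2 T.ad
  have s2 := mul_sq' (mul_sq' (h.sq T.hc) (h.sq T.hf) cf) (h.sq T.ha) (T.ac.mul_right af).symm
  have sa : Commute (c * f * a) a := (T.ac.mul_right af).symm.mul_left (Commute.refl a)
  refine ⟨s2, ?_, fun g => XS.comm (fun f' hf' s => (((s c T.hc).2 T.cd).symm.mul_right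
    ((s.trans T.fd.symm).comm hf')).mul_right ((s a T.ha).2 T.ad).symm) ?_⟩
  · obtain ⟨m, hm⟩ := (h.toOC.od T.ha T.hx fun c => h.tri_xa T c.symm).2
    have m1 : c * f * x ∈ XS D d {c, x} := mul_mem (mul_mem (XS.memS (by simp)) (XS.memE T.hf T.fd)) (XS.memS (by simp))
    have := pow_mem m1 (orderOf (a * x))
    rwa [show c * f * x = c * f * a * (a * x) by rw [mul_assoc (c * f), ← mul_assoc a, h.sq T.ha, one_mul],
      (sa.mul_right T.sx).mul_pow, pow_orderOf_eq_one, mul_one, hm, pow_succ, pow_mul, _root_.sq, s2, one_pow,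
      one_mul] at this
  · rintro _ (rfl | rfl)
    exacts [((Commute.refl _).mul_right cf).mul_right T.ac.symm, T.sx.symm]

omit [Finite G] in
theorem tri_cls (T : Tri D d f c a x) : x ∈ Cls (XS D d {c, x}) d ∧ c ∈ Cls (XS D d {c, x}) d ∧
    a ∈ Cls (XS D d {c, x}) d := by
  have mx := (h.e_cls (S := {c, x}) T.hd T.hx T.xd (by simp) T.hd (Sm.refl d)).1
  refine ⟨mx, h.toOC.cls_of T.hx T.hc T.xc (XS.memS (by simp)) (XS.memS (by simp)) mx,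
    h.toOC.cls_of T.hx T.ha (h.tri_xa T) (XS.memS (by simp)) ?_ mx⟩
  have := mul_mem (inv_mem (mul_mem (XS.memS (show c ∈ ({c, x} : Set G) by simp)) (XS.memE T.hf T.fd))) (h.tri_s T).2.1
  rwa [inv_mul_cancel_left] at this

theorem tclY (T : Tri D d f c a x) : TCl D (XS D d {c, x}) (Cls (XS D d {c, x}) d) := by
  obtain ⟨e, he, k, hm⟩ := h.dd d T.hd
  have m := fun f => h.e_cls (S := {c, x}) (f := f) T.hd T.hx T.xd (by simp)
  obtain ⟨mx, mc, ma⟩ := h.tri_cls T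
  obtain ⟨s2, hs, cs⟩ := h.tri_s T
  have hS : {f | f ∈ D ∧ Sm D f d} ∪ {c, x} ⊆ Cls (XS D d {c, x}) d := by
    rintro f (hf | rfl | rfl)
    exacts [(m f hf.1 hf.2).2, mc, mx]
  have hdY := XS.memE (S := {c, x}) T.hd (Sm.refl d)
  refine tcl_of h.toOC T.hd rfl hdY hS (fun u hu v hv c1 c2 => ?_) mx T.xd (m e he k).2 (k.comm he)
    (m _ hm (h.sm_dd he T.hd k hm)).2
  have h1 := OC.sub h.ri h.nf T.hd hdY rfl hS
  have hD : ∀ a ∈ Cls (XS D d {c, x}) d, a ∈ D := by rintro _ ⟨g, -, rfl⟩; exact h.ri.conj_mem d T.hd g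
  have mY : ∀ {a}, a ∈ Cls (XS D d {c, x}) d → a ∈ XS D d {c, x} := fun k => Cls.mem k hdY
  have hgen : Subgroup.closure (Subtype.val ⁻¹' ({f | f ∈ D ∧ Sm D f d} ∪ {c, x}) : Set (XS D d {c, x})) = ⊤ :=
    Subgroup.closure_closure_coe_preimage
  have xs := cs x (mY mx)
  generalize XS D d {c, x} = Y at *
  have hz : ∀ g : Y, Commute g ⟨_, hs⟩ := fun g => Subtype.ext (cs g g.2)
  haveI : (Subgroup.zpowers (⟨_, hs⟩ : Y)).Normal := ⟨by
    rintro _ ⟨i, rfl⟩ g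
    rw [((hz g).zpow_right i).eq, mul_inv_cancel_right]; exact ⟨i, rfl⟩⟩
  let φ := QuotientGroup.mk' (Subgroup.zpowers (⟨_, hs⟩ : Y))
  have hk : IsPGroup 2 φ.ker := by
    rw [QuotientGroup.ker_mk']
    rintro ⟨_, i, rfl⟩
    refine ⟨1, Subtype.ext ?_⟩
    change ((⟨_, hs⟩ : Y) ^ i) ^ 2 = 1
    rw [← zpow_natCast, ← zpow_mul, mul_comm, zpow_mul, zpow_natCast, _root_.sq,
      show (⟨_, hs⟩ : Y) * ⟨_, hs⟩ = 1 from Subtype.ext s2, one_zpow]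
  have cm : ∀ {p q} (hp : p ∈ Cls Y d) (hq : q ∈ Cls Y d), Commute (φ ⟨p, mY hp⟩) (φ ⟨q, mY hq⟩) ↔ Commute p q :=
    fun hp hq => ⟨fun c => congrArg Subtype.val (h1.comm_of_map φ hk hp hq c),
      fun c => Commute.map (show Commute (⟨_, mY hp⟩ : Y) ⟨_, mY hq⟩ from Subtype.ext c.eq) φ⟩
  have n1 := mt (cm mx Cls.self).1 T.xd
  have h2 := h1.map φ (QuotientGroup.mk'_surjective _) fun y hy e => n1 (by
    have := φ.map_isConj (h1.cl y hy ⟨d, hdY⟩ Cls.self)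
    rw [e, isConj_one_right] at this
    rw [this]; exact Commute.one_right _)
  have sm : ∀ {p} (hp : p ∈ Cls Y d), Sm D p d → Sm (φ '' (Subtype.val ⁻¹' Cls Y d)) (φ ⟨p, mY hp⟩) (φ ⟨d, hdY⟩) := by
    rintro p hp s _ ⟨⟨q, _⟩, hq, rfl⟩
    exact (cm hq hp).trans ((s q (hD q hq)).trans (cm hq Cls.self).symm)
  have mf := (m f T.hf T.fd).2
  have := h2.sm_of_comm ⟨⟨d, hdY⟩, Cls.self, rfl⟩ ⟨⟨e, mY (m e he k).2⟩, (m e he k).2, rfl⟩ (sm (m e he k).2 k)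
    ⟨⟨e * d, mY (m _ hm (h.sm_dd he T.hd k hm)).2⟩, (m _ hm (h.sm_dd he T.hd k hm)).2,
      map_mul φ ⟨e, mY (m e he k).2⟩ ⟨d, hdY⟩⟩
    ⟨⟨x, mY mx⟩, mx, rfl⟩ n1 ⟨⟨u, mY hu⟩, hu, rfl⟩ ?_ ((cm hu Cls.self).2 c1)
  · exact ((cm hv hu).1 ((this _ ⟨⟨v, mY hv⟩, hv, rfl⟩).2 ((cm hv Cls.self).2 c2))).symm
  refine Subgroup.mem_comap.1 ((Subgroup.closure_le (Subgroup.comap φ _)).2 ?_
    (hgen.ge (Subgroup.mem_top (⟨u, mY hu⟩ : Y))))
  rintro ⟨p, hp⟩ (hp' | hp' | hp')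
  · exact Subgroup.subset_closure (Or.inl ⟨⟨_, hS (Or.inl hp'), rfl⟩, sm (hS (Or.inl hp')) hp'.2⟩)
  · obtain rfl : p = c := hp'
    refine Subgroup.subset_closure (Or.inl ⟨⟨_, mc, rfl⟩, (h2.sm_of_prod ⟨_, mc, rfl⟩ ⟨⟨f, mY mf⟩, mf, rfl⟩
      ((cm mc mf).2 ((T.fd p T.hc).2 T.cd)) ⟨⟨a, mY ma⟩, ma, ?_⟩).trans (sm mf T.fd)⟩)
    rw [← map_mul, eq_comm]
    refine QuotientGroup.eq.2 ⟨1, Subtype.ext ?_⟩
    change (p * f * a) ^ (1 : ℤ) = (p * f)⁻¹ * a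
    rw [zpow_one, inv_eq_of_mul_eq_one_left (mul_sq' (h.sq T.hc) (h.sq T.hf) ((T.fd p T.hc).2 T.cd))]
  · exact Subgroup.subset_closure (Or.inr (congrArg φ (Subtype.ext hp')))

omit [Finite G] in
theorem sm_cls (hd : d ∈ D) (hx : x ∈ D) (n1 : ¬ Commute x d) (hS : x ∈ S) (hc : c ∈ Cls (XS D d S) d) (he : e ∈ D)
    (k : Sm D e c) : e ∈ Cls (XS D d S) d := by
  obtain ⟨g, hg, rfl⟩ := hc
  have := Cls.conj (h.e_cls hd hx n1 hS (h.ri.conj_mem e he g⁻¹)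
    (by simpa [mul_assoc] using RI.sm_conj h.ri k g⁻¹)).2 hg
  simpa [mul_assoc] using this

omit [Finite G] in
theorem ker_ee (hd : d ∈ D) (hx : x ∈ D) (n1 : ¬ Commute x d) (hS : x ∈ S) (k : TCl D (XS D d S) (Cls (XS D d S) d))
    (hc : c ∈ Cls (XS D d S) d) (hz : z ∈ k.ker) (k1 : EEl D c z) : z = 1 :=
  k1.elim id fun k1 => absurd hz (k.not_ker h.toOC (h.sm_cls hd hx n1 hS hc k1.1 k1.2))

omit [Finite G] in
theorem ncx (hd : d ∈ D) (hx : x ∈ D) (n1 : ¬ Commute x d) : ¬ Commute (x * d * x⁻¹) d := fun c => n1 (by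
  rw [RI.inv h.ri hx] at c
  exact ((h.toOC.od hd hx fun c => n1 c.symm).commute (h.sq hd) (Commute.refl d) c.symm).symm)

/-- the involution swapping `E_d` and `E_c` -/
theorem swap (T : Tri D d f c a x) : ∃ g ∈ XS D d {x}, Sm D (g * d * g⁻¹) d ∧ ∃ t ∈ Cls (XS D d {c, x}) d,
    Commute t (g * x * g⁻¹) ∧ t ≠ g * x * g⁻¹ ∧ t * (g * x * g⁻¹) ∈ (h.tclY T).ker ∧
    Sm D (t * (g * x * g⁻¹) * d * (t * (g * x * g⁻¹))⁻¹) c := by
  have k := h.tclY T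
  obtain ⟨mx, mc, ma⟩ := h.tri_cls T
  obtain ⟨g, hg, p, s1, c1, s2⟩ := h.weyl T.hd T.hx T.xd
  obtain ⟨g', hg', p', s3, c2, s4⟩ := h.weyl T.hc T.hx T.xc
  have gY := XS.mono (S' := {c, x}) (by simp) hg
  have gY' : g' ∈ XS D d {c, x} := (Subgroup.closure_le _).2 (by
    rintro e (he | rfl)
    exacts [k.mem (h.sm_cls T.hd T.hx T.xd (by simp) mc he.1 he.2), k.mem mx]) hg'
  have md : d ∈ Cls (XS D d {c, x}) d := Cls.self
  have xY := k.mem mx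
  have hn := (k.loc h.toOC md).2 _ (Cls.conj md xY) (h.ncx T.hd T.hx T.xd) g gY g' gY' p p'
    (s1.comm (k.sub (Cls.conj md gY)))
    (k.tr _ (Cls.conj md gY') _ mc _ md (k.tr _ (Cls.conj md gY') _ (Cls.conj mc gY') _ mc (T.cd.symm.conj g')
      (s3.comm (k.sub (Cls.conj mc gY')))) T.cd)
    (k.tr _ (Cls.conj (Cls.conj md xY) gY) _ mx _ (Cls.conj (Cls.conj md xY) gY') c1
      (k.tr _ mx _ (Cls.conj (Cls.conj mc xY) gY') _ (Cls.conj (Cls.conj md xY) gY') c2.symm ((T.cd.conj x).conj g')))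
  have mt := Cls.conj mx gY
  have e1 : g' * x * g'⁻¹ = g' * g⁻¹ * (g * x * g⁻¹) * (g' * g⁻¹)⁻¹ := by group
  have t2 := h.sq (k.sub mt)
  refine ⟨g, hg, s1, _, Cls.conj mx gY', e1 ▸ hn.2 _ mt, fun e => T.ns (s4.symm.trans (e ▸ s2)), ?_, ?_⟩
  · have := mul_mem hn (k.ker_conj (inv_mem hn) (k.mem mt))
    rwa [RI.inv h.ri (k.sub mt), ← mul_assoc (g' * g⁻¹), ← mul_assoc (g' * g⁻¹), ← e1] at this
  · have := RI.sm_conj h.ri s2.symm (g' * x * g'⁻¹ * (g * x * g⁻¹))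
    generalize g * x * g⁻¹ = t at *
    generalize g' * x * g'⁻¹ = t' at *
    rw [show t' * t * (t * x * t⁻¹) * (t' * t)⁻¹ = t' * (t * t) * x * (t * t)⁻¹ * t'⁻¹ by group, t2, inv_one, mul_one,
      mul_one] at this
    exact this.trans s4

theorem swap' (T : Tri D d f c a x) : ∃ r ∈ (h.tclY T).ker, r * r = 1 ∧ Sm D (r * d * r⁻¹) c ∧
    Sm D (r * c * r⁻¹) d := by
  obtain ⟨g, hg, -, t, ht, c1, -, hr, s1⟩ := h.swap T
  have r2 := mul_sq' (h.sq ((h.tclY T).sub ht)) (h.sq (h.ri.conj_mem x T.hx g)) c1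
  refine ⟨_, hr, r2, s1, ?_⟩
  have := RI.sm_conj h.ri s1.symm (t * (g * x * g⁻¹))
  generalize t * (g * x * g⁻¹) = r at *
  rwa [show r * (r * d * r⁻¹) * r⁻¹ = (r * r) * d * (r * r)⁻¹ by group, r2, inv_one, mul_one, one_mul] at this

/-- the line lemma -/
theorem line (T : Tri D d f c a x) (hy : y ∈ D) (yc : Commute y c) (yd : Commute y d) : Commute y a := by
  by_contra n
  have k := h.tclY T
  obtain ⟨mx, mc, ma⟩ := h.tri_cls T
  obtain ⟨s2, hs, cs⟩ := h.tri_s T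
  obtain ⟨r, hr, r2, s1, s3⟩ := h.swap' T
  have s4 := (RI.sm_conj h.ri T.fd r).trans s1
  have hc' := h.ri.conj_mem f T.hf r
  have hf' := h.ri.conj_mem c T.hc r
  have ha' := h.ri.conj_mem a T.ha r
  have e1 : r * c * r⁻¹ * (r * f * r⁻¹) * (r * a * r⁻¹) = c * f * a := by
    rw [conj_mul, conj_mul, (cs r hr.1).eq, mul_inv_cancel_right]
  have z1 := h.cls _ hc' c T.hc s4
  have z2 := h.cls _ hf' f T.hf (s3.trans T.fd.symm)
  have fc : ∀ y ∈ D, Commute y d → Commute y f := fun y hy k => (T.fd y hy).2 k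
  have c1 : Commute (r * c * r⁻¹) c := ((s3 c T.hc).2 T.cd).symm
  have c2 : Commute (r * c * r⁻¹) (r * f * r⁻¹) := (s4 _ hf').2 c1
  have cz : ∀ y ∈ D, Commute y c → Commute y d → Commute (r * f * r⁻¹ * c * (r * c * r⁻¹ * f)) y := fun y hy k1 k2 =>
    (z1.comm hy k1).mul_left (z2.comm hy (fc y hy k2))
  have sq : ∀ {b g}, EEl D b g → g * g = 1 := fun k => k.elim (fun e => by rw [e, one_mul]) fun k => h.sq k.1
  have e2 := RI.eq_one h.ri T.ha hy (h.toOC.od hy T.ha n).symm (mul_sq' (sq z1) (sq z2)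
    ((z1.comm hf' c1).mul_right (z1.comm T.hf (fc c T.hc T.cd).symm))) (cz a T.ha T.ac T.ad) (cz y hy yc yd) (by
      rw [← (cz a T.ha T.ac T.ad).eq]
      generalize r * f * r⁻¹ = c' at *
      generalize r * c * r⁻¹ = f' at *
      rwa [show c' * c * (f' * f) * a = c' * (c * f') * f * a by group, ← c1.eq,
        show c' * (f' * c) * f * a = c' * f' * (c * f * a) by group, ← e1, c2.eq, ← mul_assoc,
        mul_sq' (h.sq hc') (h.sq hf') c2.symm, one_mul])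
  have e3 : r * f * r⁻¹ * c = 1 := z1.elim id fun k1 => z2.elim (fun e => by rwa [e, mul_one] at e2) fun k2 => by
    rw [eq_inv_of_mul_eq_one_left e2, RI.inv h.ri k2.1] at k1
    exact absurd (k1.2.symm.trans (k2.2.trans T.fd)) T.ns
  have m1 : c * f ∈ k.ker := by
    have := mul_mem hr (k.ker_conj (inv_mem hr) (XS.memE T.hf T.fd))
    rwa [RI.inv h.ri T.hf, ← mul_assoc, ← mul_assoc, eq_inv_of_mul_eq_one_left e3, RI.inv h.ri T.hc] at this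
  have m2 : c * f * a ∈ k.ker := ⟨hs, fun b hb => by rw [← (cs b (k.mem hb)).eq, mul_inv_cancel_right]⟩
  exact k.not_ker h.toOC ma (inv_mul_cancel_left (c * f) a ▸ mul_mem (inv_mem m1) m2)

theorem fixl (hd : d ∈ D) (hx : x ∈ D) (n1 : ¬ Commute x d) (hw : w ∈ XS D d {x}) (s1 : Sm D (w * d * w⁻¹) d)
    (hb : b ∈ D) (hc : c ∈ D) (bd : Commute b d) (cd : Commute c d) (bc : Commute b c) : Commute c (w * b * w⁻¹) := by
  have ht := h.ri.conj_mem b hb w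
  have td : Commute (w * b * w⁻¹) d := (s1 _ ht).1 (bd.conj w)
  have key : ∀ z, (∀ f ∈ D, Sm D f d → Commute f z) → Commute x z → Commute b z → Commute z (w * b * w⁻¹) :=
    fun z k1 k2 k3 =>
      have := (XS.comm k1 (by rintro _ rfl; exact k2) hw).symm
      (this.mul_right k3.symm).mul_right this.inv_right
  by_cases xc : Commute x c
  · exact key c (fun f hf s => ((s c hc).2 cd).symm) xc bc
  by_cases ns : Sm D c d
  · exact ((ns _ ht).2 td).symm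
  obtain ⟨f, a, T⟩ := h.exists_tri hd hc hx cd ns n1 xc
  have cf := (T.fd c hc).2 cd
  have := (key _ (fun f' hf' s => (h.tri_s T).2.2 f' (XS.memE hf' s)) T.sx.symm
    ((bc.mul_right ((T.fd b hb).2 bd)).mul_right (h.line T hb bc bd))).symm
  rw [cf.eq, mul_assoc f] at this
  replace this := ((T.fd _ ht).2 td).mul_right this
  rw [← mul_assoc f, h.sq T.hf, one_mul] at this
  refine (h.toOC.cc hc T.ha T.ac.symm (fun e => n1 ((T.fd x hx).1 ?_)) ht this).symm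
  have := T.sx
  rw [← e, cf.eq, mul_assoc, h.sq hc, mul_one] at this
  exact this.symm

omit [Finite G] in
theorem tri_ns (T : Tri D d f c a x) : ¬ Sm D a d ∧ ¬ Sm D c a := by
  have cf := (T.fd c T.hc).2 T.cd
  have n1 : ¬ Sm D a d := fun s => by
    have sx := T.sx
    rw [mul_assoc] at sx
    rcases h.cls f T.hf a T.ha (T.fd.trans s.symm) with e | e
    · rw [e, mul_one] at sx; exact T.xc sx.symm
    · exact T.xc (h.toOC.cc T.hc e.1 (cf.mul_right T.ac.symm) (fun e' => T.ns (e' ▸ e.2.trans s)) T.hx sx.symm)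
  refine ⟨n1, fun s => ?_⟩
  have sx := T.sx
  rw [cf.eq, mul_assoc] at sx
  rcases h.cls c T.hc a T.ha s with e | e
  · rw [e, mul_one] at sx; exact T.xd ((T.fd x T.hx).1 sx.symm)
  · exact T.xd ((T.fd x T.hx).1 (h.toOC.cc T.hf e.1 (cf.symm.mul_right ((T.fd a T.ha).2 T.ad).symm)
      (fun e' => n1 ((e' ▸ e.2 : Sm D f a).symm.trans T.fd)) T.hx sx.symm))

omit [Finite G] in
theorem tri_rot (T : Tri D d f c a x) : Tri D a a c f x :=
  have af := (T.fd a T.ha).2 T.ad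
  ⟨T.ha, T.ha, T.hc, T.hf, T.hx, Sm.refl a, T.ac.symm, af.symm, ((T.fd c T.hc).2 T.cd).symm, (h.tri_ns T).2,
    h.tri_xa T, T.xc, by rw [mul_assoc, af.eq, ← mul_assoc]; exact T.sx⟩

theorem good (hc : IsConnectedSet (CommAdj D) D) (hd : d ∈ D) (hx : x ∈ D) (n1 : ¬ Commute x d) :
    ∃ c ∈ D, Commute c d ∧ ¬ Sm D c d ∧ ¬ Commute x c := by
  by_contra! H
  have H' : ∀ y ∈ D, ¬ Commute y d → ∀ c ∈ D, Commute c d → ¬ Sm D c d → Commute y c := fun y hy n c hc cd ns => by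
    by_contra yc
    obtain ⟨f, a, T⟩ := h.exists_tri hd hc hy cd ns n yc
    exact n1 ((T.fd x hx).1 (h.line (h.tri_rot T) hx (H c hc cd ns) (H a T.ha T.ad (h.tri_ns T).1)))
  obtain ⟨b, hb⟩ : ∃ b, b ∈ D ∧ Commute b d ∧ ¬ Sm D b d := by
    by_contra! H2
    have : ∀ y, Relation.ReflTransGen (CommAdj D) d y → Sm D y d := fun y k => by
      induction k with
      | refl => exact Sm.refl d
      | tail _ k ih => exact H2 _ k.2.1 ((ih _ k.2.1).1 (Commute.symm k.2.2.2))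
    exact n1 ((this x (hc d hd x hx)).comm hx)
  obtain ⟨g, e⟩ := isConj_iff.1 (h.cl b hb.1 d hd)
  have key : ∀ b, b ∈ D ∧ Commute b d ∧ ¬ Sm D b d → g * b * g⁻¹ ∈ D ∧ Commute (g * b * g⁻¹) d ∧
      ¬ Sm D (g * b * g⁻¹) d := by
    have hg : g ∈ Subgroup.closure D := h.ri.generates.ge (Subgroup.mem_top g)
    clear e
    induction hg using Subgroup.closure_induction with
    | mem e he =>
      intro b hb
      by_cases c : Commute e d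
      · refine ⟨h.ri.conj_mem b hb.1 e, by simpa [c.eq] using hb.2.1.conj e, fun s => hb.2.2 ?_⟩
        have := RI.sm_conj h.ri s e⁻¹
        rwa [c.inv_left.eq, mul_inv_cancel_right, show e⁻¹ * (e * b * e⁻¹) * e⁻¹⁻¹ = b by group] at this
      · rwa [(H' e he c b hb.1 hb.2.1 hb.2.2).eq, mul_inv_cancel_right]
    | one => simp
    | mul u v _ _ k1 k2 => exact fun b hb => by simpa only [mul_inv_rev, mul_assoc] using k1 _ (k2 b hb)
    | inv u _ k1 => exact fun b hb => conj_sub (S := {b | b ∈ D ∧ Commute b d ∧ ¬ Sm D b d}) k1 (by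
        rwa [show u * (u⁻¹ * b * u⁻¹⁻¹) * u⁻¹ = b by group])
  exact (key b hb).2.2 (e.symm ▸ Sm.refl d)

end OE

end Cfsg.Agent.Root
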