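import Cfsg.Agent.Root.Inv7

/-! Odd transpositions with connected commuting graph: the 2-group `A₀ B₀` in the kernel (`TCl.exists_M`), and
`⟨E_d, x⟩` is not a Suzuki group (`OE.no_four`). -/

namespace Cfsg.Agent.Root
open Cfsg MulAction

universe u
variable {G : Type u} [Group G] {D C S : Set G} {Y : Subgroup G} {a b c d e f g m n r s t u w x y z : G}

/-- the group generated by a block -/
abbrev Bk (C : Set G) (d : G) : Subgroup G := Subgroup.closure {a | a ∈ C ∧ Commute a d}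

namespace TCl
variable (k : TCl D Y C)
include k

theorem bk_conj (hc : c ∈ C) (hd : d ∈ C) (hg : g ∈ Y) (k1 : Commute (g * c * g⁻¹) d) (ha : a ∈ Bk C c) :
    g * a * g⁻¹ ∈ Bk C d :=
  (Subgroup.closure_le ((Bk C d).comap (MulAut.conj g).toMonoidHom)).2 (fun b hb => Subgroup.subset_closure
    (k := {a | a ∈ C ∧ Commute a d}) ⟨k.conj b hb.1 g hg, k.tr _ (k.conj b hb.1 g hg) _ (k.conj c hc g hg) d hd
      (hb.2.conj g) k1⟩) ha

theorem bk_comm (hd : d ∈ C) (hb : b ∈ C) (k1 : Commute b d) (ha : a ∈ Bk C d) : Commute a b :=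
  comm_closure (fun y hy => k.tr y hy.1 d hd b hb hy.2 k1.symm) ha

theorem bk_sq (h : OC D) (hd : d ∈ C) (ha : a ∈ Bk C d) : a * a = 1 := by
  induction ha using Subgroup.closure_induction with
  | mem y hy => exact h.sq (k.sub hy.1)
  | one => simp
  | mul y z hy hz k1 k2 => exact mul_sq' k1 k2 (comm_closure (fun b hb => (k.bk_comm hd hb.1 hb.2 hz).symm) hy)
  | inv y _ k1 => rw [← mul_inv_rev, k1, inv_one]

theorem exists_M [Finite G] (h : OC D) (hd : d ∈ C) (hx : x ∈ C) (n1 : ¬ Commute x d)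
    (hY : Y ≤ Subgroup.closure ({a | a ∈ C ∧ Commute a d} ∪ {x})) (hC : ∀ t ∈ C, ∃ g ∈ Y, t = g * d * g⁻¹) :
    ∃ M : Subgroup G, M ≤ k.ker ∧ IsPGroup 2 M ∧ (∀ g ∈ Y, ∀ m ∈ M, g * m * g⁻¹ ∈ M) ∧
      (∀ m ∈ M, ∀ e ∈ C, Commute e d → Commute m e → m * m = 1) ∧
      ∀ t ∈ C, ∀ s ∈ C, Commute s t → s * t ∈ k.ker → s * t ∈ M := by
  have kc : ∀ c ∈ C, ∀ n ∈ k.ker, ∀ a ∈ Bk C c ⊓ k.ker, n * a * n⁻¹ ∈ Bk C c ⊓ k.ker := fun c hc n hn a ha =>
    ⟨k.bk_conj hc hc hn.1 (hn.2 c hc) ha.1, k.ker_conj ha.2 hn.1⟩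
  let M : Subgroup G :=
    { carrier := {m | ∃ a ∈ Bk C d ⊓ k.ker, ∃ b ∈ Bk C x ⊓ k.ker, m = a * b}
      one_mem' := ⟨1, one_mem _, 1, one_mem _, by simp⟩
      mul_mem' := by
        rintro _ _ ⟨a, ha, b, hb, rfl⟩ ⟨a', ha', b', hb', rfl⟩
        exact ⟨_, mul_mem ha (kc d hd b hb.2 a' ha'), _, mul_mem hb hb', by group⟩
      inv_mem' := by
        rintro _ ⟨a, ha, b, hb, rfl⟩
        exact ⟨_, kc d hd _ (inv_mem hb.2) _ (inv_mem ha), _, inv_mem hb, by group⟩ }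
  have hM : ∀ g ∈ Y, ∀ m ∈ M, g * m * g⁻¹ ∈ M := fun g hg => by
    replace hg := hY hg
    induction hg using Subgroup.closure_induction with
    | mem t ht =>
      rintro _ ⟨a, ha', b, hb', rfl⟩
      have ha := Subgroup.mem_inf.1 ha'
      have hb := Subgroup.mem_inf.1 hb'
      rcases ht with ht | rfl
      · have m1 : t ∈ Bk C d := Subgroup.subset_closure ht
        exact ⟨t * a * t⁻¹ * (t * b * t⁻¹ * b⁻¹), Subgroup.mem_inf.2 ⟨mul_mem (mul_mem (mul_mem m1 ha.1) (inv_mem m1)) (by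
          simpa only [mul_assoc] using mul_mem m1 (k.bk_conj hd hd hb.2.1 (hb.2.2 d hd) (inv_mem m1))),
          mul_mem (k.ker_conj ha.2 (k.mem ht.1)) (mul_mem (k.ker_conj hb.2 (k.mem ht.1)) (inv_mem hb.2))⟩, b, hb',
          by group⟩
      · have m1 : t ∈ Bk C t := Subgroup.subset_closure ⟨hx, Commute.refl t⟩
        exact ⟨a, ha', a⁻¹ * (t * a * t⁻¹) * (t * b * t⁻¹), Subgroup.mem_inf.2 ⟨mul_mem (by
          simpa only [mul_assoc, inv_inv] using mul_mem (k.bk_conj hx hx (inv_mem ha.2.1) ((inv_mem ha.2).2 t hx) m1)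
            (inv_mem m1)) (mul_mem (mul_mem m1 hb.1) (inv_mem m1)),
          mul_mem (mul_mem (inv_mem ha.2) (k.ker_conj ha.2 (k.mem hx))) (k.ker_conj hb.2 (k.mem hx))⟩, by group⟩
    | one => simp
    | mul u v _ _ k1 k2 => exact fun b hb => by simpa only [mul_inv_rev, mul_assoc] using k1 _ (k2 b hb)
    | inv u _ k1 => exact fun b hb => conj_sub (S := M) k1 (by
        rwa [show u * (u⁻¹ * b * u⁻¹⁻¹) * u⁻¹ = b by group])
  refine ⟨M, ?_, ?_, hM, ?_, fun t ht s hs c hn => ?_⟩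
  · rintro _ ⟨a, ha, b, hb, rfl⟩; exact mul_mem ha.2 hb.2
  · rintro ⟨_, a, ha, b, hb, rfl⟩
    refine ⟨2, Subtype.ext ?_⟩
    have := k.bk_sq h hd (mul_mem ha.1 (kc d hd b hb.2 a ha).1)
    rw [inv_eq_of_mul_eq_one_left (k.bk_sq h hx hb.1)] at this
    change (a * b) ^ 2 ^ 2 = 1
    rw [← this]; simp only [pow_succ, pow_zero, one_mul, mul_assoc]
    norm_num [pow_succ, mul_assoc]
  · rintro _ ⟨a, ha, b, hb, rfl⟩ e he c1 c2
    have c3 : Commute b e := by simpa using (k.bk_comm hd he c1 ha.1).inv_left.mul_left c2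
    obtain ⟨j, hj⟩ := (h.od (k.sub hx) (k.sub he) fun c => n1 (k.tr x hx e he d hd c c1)).exists_conj
      (h.sq (k.sub hx)) (h.sq (k.sub he))
    have := k.bk_conj hx hd (pow_mem (mul_mem (k.mem hx) (k.mem he)) j) (hj.symm ▸ c1) hb.1
    rw [← (((k.bk_comm hx hx (Commute.refl x) hb.1).mul_right c3).pow_right j).eq, mul_inv_cancel_right] at this
    exact k.bk_sq h hd (mul_mem ha.1 this)
  · obtain ⟨g, hg, rfl⟩ := hC t ht
    have := hM g hg _ ⟨g⁻¹ * (s * (g * d * g⁻¹)) * g⁻¹⁻¹, ⟨k.bk_conj ht hd (inv_mem hg) (by simp [mul_assoc])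
      (mul_mem (Subgroup.subset_closure ⟨hs, c⟩) (Subgroup.subset_closure ⟨ht, Commute.refl _⟩)),
      k.ker_conj hn (inv_mem hg)⟩, 1, one_mem _, (mul_one _).symm⟩
    simpa [mul_assoc] using this

end TCl

namespace OE
variable (h : OE D) [Finite G]
include h

theorem tri_M (T : Tri D d f c a x) : ∃ M : Subgroup G, M ≤ (h.tclY T).ker ∧ IsPGroup 2 M ∧
    (∀ g ∈ XS D d {c, x}, ∀ m ∈ M, g * m * g⁻¹ ∈ M) ∧ (∀ m ∈ M, ∀ e ∈ D, Sm D e d → Commute m e → m * m = 1) ∧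
    ∃ r ∈ M, r * r = 1 ∧ Sm D (r * d * r⁻¹) c := by
  have k := h.tclY T
  obtain ⟨mx, mc, -⟩ := h.tri_cls T
  have me := fun e he s => (h.e_cls (S := {c, x}) (f := e) T.hd T.hx T.xd (by simp) he s).2
  obtain ⟨M, k1, k2, k3, k4, k5⟩ := k.exists_M h.toOC Cls.self mx T.xd (Subgroup.closure_mono (by
    rintro e (he | rfl | rfl)
    exacts [Or.inl ⟨me e he.1 he.2, he.2.comm he.1⟩, Or.inl ⟨mc, T.cd⟩, Or.inr rfl])) fun t ht => ht
  obtain ⟨g, hg, -, t, ht, c1, -, hr, s1⟩ := h.swap T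
  exact ⟨M, k1, k2, k3, fun m hm e he s => k4 m hm e (me e he s) (s.comm he), _,
    k5 _ (Cls.conj mx (XS.mono (by simp) hg)) t ht c1 hr,
    mul_sq' (h.sq (k.sub ht)) (h.sq (h.ri.conj_mem x T.hx g)) c1, s1⟩

theorem no_four (hc : IsConnectedSet (CommAdj D) D) (hd : d ∈ D) (hx : x ∈ D) (n1 : ¬ Commute x d)
    (hu : u ∈ XS D d {x}) {j : ℕ} (hj : u ^ 2 ^ j = 1) (he : e ∈ D) (se : Sm D e d) (ue : Commute u e)
    (hz : ∀ g ∈ XS D d {x}, Commute g (e * (u * u))) : False := by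
  obtain ⟨c, hc, cd, ns, xc, uc⟩ : ∃ c ∈ D, Commute c d ∧ ¬ Sm D c d ∧ ¬ Commute x c ∧ Commute u c := by
    obtain ⟨c, hc, cd, ns, xc⟩ := h.good hc hd hx n1
    obtain ⟨f, a, T⟩ := h.exists_tri hd hc hx cd ns n1 xc
    have k := h.tclY T
    obtain ⟨M, k1, k2, k3, -, r, hr, -, s1⟩ := h.tri_M T
    have uY := XS.mono (S' := {c, x}) (by simp) hu
    obtain ⟨mx, me⟩ := h.e_cls (S := {c, x}) hd hx n1 (by simp) he se
    have p : IsPGroup 2 (M ⊔ Subgroup.zpowers u : Subgroup G) := k2.to_sup_of_normal_left' (by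
      rintro ⟨_, i, rfl⟩
      exact ⟨j, Subtype.ext (by
        change (u ^ i) ^ 2 ^ j = 1
        rw [← zpow_natCast, ← zpow_mul, mul_comm, zpow_mul, zpow_natCast, hj, one_zpow])⟩) (by
      rw [Subgroup.zpowers_le]
      exact fun m => ⟨k3 u uY m, fun k => conj_sub (S := (M : Set G)) (g := u) (c := m) (fun c hc => k3 u uY c hc) k⟩)
    by_contra! H
    refine nil_empty p (S := {m | m ∈ M ∧ ¬ Commute m e}) (fun m hm => ⟨fun e => hm.2 (e ▸ Commute.one_left _), u,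
      Subgroup.mem_sup_right (Subgroup.mem_zpowers u), by
        simpa only [mul_assoc] using mul_mem hm.1 (k3 u uY _ (inv_mem hm.1)), fun c1 => ?_⟩) (Subgroup.mem_sup_left hr)
      ⟨hr, fun c1 => ns ?_⟩
    · have m1 := k.conj e me _ (inv_mem (k1 hm.1).1)
      have c2 := (inv_mem (k1 hm.1)).2 e me
      refine H _ (k.sub m1) ((se _ (k.sub m1)).1 c2) (fun s => hm.2 ?_)
        (fun c3 => n1 (k.tr x mx _ m1 d Cls.self c3 ((se _ (k.sub m1)).1 c2))) (cmj_iff.2 ?_)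
      · have := h.ker_ee hd hx n1 (by simp) k me (by
          simpa only [RI.inv h.ri he, mul_assoc, inv_inv] using mul_mem (inv_mem (k1 hm.1)) (k.ker_conj (k1 hm.1) (k.mem me)))
          (h.cls _ (k.sub m1) e he (s.trans se.symm))
        rw [mul_eq_one_iff_eq_inv, RI.inv h.ri he, inv_inv, mul_assoc, inv_mul_eq_iff_eq_mul] at this
        exact this.symm
      · simpa using c1.mul_left ue
    · have := RI.sm_conj h.ri se r
      rw [c1.eq, mul_inv_cancel_right] at this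
      exact s1.symm.trans (this.symm.trans se)
  obtain ⟨f, a, T⟩ := h.exists_tri hd hc hx cd ns n1 xc
  have k := h.tclY T
  obtain ⟨M, k1, -, k3, k4, r, hr, r2, s1⟩ := h.tri_M T
  have uY := XS.mono (S' := {c, x}) (by simp) hu
  obtain ⟨mx, mc, -⟩ := h.tri_cls T
  have me := (h.e_cls (S := {c, x}) hd hx n1 (by simp) he se).2
  have ec := (se c hc).2 cd
  have rz : Commute r (e * (u * u)) := XS.comm (fun f hf s => hz f (XS.memE hf s)) (by
    rintro _ (rfl | rfl)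
    exacts [ec.mul_right (uc.mul_left uc).symm, hz _ (XS.memS rfl)]) (k1 hr).1
  have ir := inv_eq_of_mul_eq_one_left r2
  have s2 := (RI.sm_conj h.ri se r).trans s1
  have hc' := h.ri.conj_mem e he r
  have m1 : r * e * r⁻¹ * e ∈ k.ker := by
    simpa only [RI.inv h.ri he, mul_assoc] using mul_mem (k1 hr) (k.ker_conj (inv_mem (k1 hr)) (k.mem me))
  have c1 : Commute u (r * e * r⁻¹) := by
    have s3 := RI.sm_conj h.ri s2 u
    rw [uc.eq, mul_inv_cancel_right] at s3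
    have m2 := k.ker_conj m1 uY
    rw [← conj_mul, ue.eq, mul_inv_cancel_right] at m2
    have := h.ker_ee hd hx n1 (by simp) k (h.sm_cls hd hx n1 (by simp) mc hc' s2) (by
      have := mul_mem m2 (inv_mem m1)
      rwa [mul_inv_rev, mul_assoc, mul_inv_cancel_left, RI.inv h.ri hc'] at this)
      (h.cls _ (h.ri.conj_mem _ hc' u) _ hc' (s3.trans s2.symm))
    rw [mul_eq_one_iff_eq_inv, RI.inv h.ri hc', mul_inv_eq_iff_eq_mul] at this
    exact this
  have c2 : Commute (r * u * r⁻¹ * u⁻¹) e := by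
    refine Commute.mul_left ?_ ue.inv_left
    have := c1.conj r
    rwa [show r * (r * e * r⁻¹) * r⁻¹ = r * r * e * (r * r)⁻¹ by group, r2, inv_one, mul_one, one_mul] at this
  have a2 := k4 _ (by simpa only [mul_assoc] using mul_mem hr (k3 u uY _ (inv_mem hr))) e he se c2
  have e1 : r * e * r⁻¹ = r * u * r⁻¹ * u⁻¹ * u * (r * u * r⁻¹ * u⁻¹)⁻¹ * (u⁻¹ * e) := by
    rw [inv_eq_of_mul_eq_one_left a2, show r * u * r⁻¹ * u⁻¹ * u * (r * u * r⁻¹ * u⁻¹) * (u⁻¹ * e) =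
      r * e⁻¹ * (e * (u * u)) * r⁻¹ * (u * u)⁻¹ * e by group, mul_assoc (r * e⁻¹), ← rz.inv_left.eq, RI.inv h.ri he,
      show r * e * (r⁻¹ * (e * (u * u))) * (u * u)⁻¹ * e = r * e * r⁻¹ * (e * e) by group, h.sq he, mul_one]
  generalize r * u * r⁻¹ * u⁻¹ = α at *
  have su : ∀ w, Commute w e → Sm D (w * d * w⁻¹) d := fun w c => by
    have := RI.sm_conj h.ri se w
    rw [c.eq, mul_inv_cancel_right] at this
    exact this.symm.trans se
  have ce := ue.inv_left.mul_left (Commute.refl e)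
  refine ns (s2.symm.trans (h.toOC.sm_of_le hd hc' fun b hb bd => by_contra fun n => n ?_).symm)
  refine (h.toOC.od hb hc' n).commute (h.sq hb) (Commute.refl b) ?_
  have hb1 := h.ri.conj_mem b hb (u⁻¹ * e)
  have c3 := h.fixl hd hx n1 (mul_mem (inv_mem hu) (XS.memE he se)) (su _ ce) hb hb bd bd (Commute.refl b)
  have c4 : ∀ y ∈ D, Commute y d → Commute (α⁻¹ * y * α⁻¹⁻¹) d := fun y hy c =>
    (su _ c2.inv_left _ (h.ri.conj_mem y hy _)).1 (c.conj _)
  have := (h.fixl hd hx n1 hu (su u ue) (h.ri.conj_mem _ hb1 α⁻¹) (h.ri.conj_mem b hb α⁻¹)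
    (c4 _ hb1 ((su _ ce _ hb1).1 (bd.conj _))) (c4 b hb bd) (c3.symm.conj _)).conj α
  nth_rw 2 [← RI.inv h.ri hc']
  rw [e1]
  simpa [mul_assoc] using this

omit [Finite G] in
theorem mem_clE : g ∈ Subgroup.closure {f | f ∈ D ∧ Sm D f d} ↔ EEl D d g := by
  refine ⟨fun hg => ?_, fun k => k.elim (fun e => e ▸ one_mem _) fun k => Subgroup.subset_closure k⟩
  induction hg using Subgroup.closure_induction with
  | mem y hy => exact Or.inr hy
  | one => exact Or.inl rfl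
  | mul _ _ _ _ k1 k2 => exact h.ee_mul k1 k2
  | inv y _ k1 => exact k1.elim (fun e => Or.inl (by rw [e, inv_one])) fun k => Or.inr (by rwa [RI.inv h.ri k.1])

theorem kerX (hd : d ∈ D) (hx : x ∈ D) (n1 : ¬ Commute x d) (k : TCl D (XS D d {x}) (Cls (XS D d {x}) d))
    (hn : n ∈ k.ker) (hg : g ∈ XS D d {x}) : Commute g n := by
  refine comm_closure (fun y hy => ?_) (k.gen.ge hg)
  have m1 := k.conj y hy n hn.1
  have s : Sm D (n * y * n⁻¹) y := by
    obtain ⟨v, hv, rfl⟩ := id hy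
    have m2 := k.conj _ m1 _ (inv_mem hv)
    simpa [mul_assoc] using RI.sm_conj h.ri (h.smX hd hx n1 (k.sub m2) (k.mem m2) (cmj_iff.1 (hn.2 _ hy))) v
  have := h.ker_ee (S := {x}) hd hx n1 rfl k hy (by
    simpa only [RI.inv h.ri (k.sub hy), mul_assoc] using mul_mem hn (k.ker_conj (inv_mem hn) (k.mem hy)))
    (h.cls _ (k.sub m1) y (k.sub hy) s)
  rw [mul_eq_one_iff_eq_inv, RI.inv h.ri (k.sub hy), mul_inv_eq_iff_eq_mul] at this
  exact this.symm

omit h in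
theorem pow_index_one (P : Subgroup G) (hP : ∀ a ∈ P, ∀ b ∈ P, Commute a b) (h1 : a ∈ Subgroup.center G)
    (h2 : a ∈ commutator G) : a ^ P.index = 1 := by
  have key : ∀ (k : ℕ) (g : G), g⁻¹ * a ^ k * g ∈ P → g⁻¹ * a ^ k * g = a ^ k := fun k g _ => by
    rw [mul_assoc, ← Subgroup.mem_center_iff.1 (pow_mem h1 k) g, inv_mul_cancel_left]
  have h3 := MonoidHom.transfer_eq_pow (Abelianization.of (G := P)) a key
  rw [show (Abelianization.of (G := P)).transfer a = 1 from Abelianization.commutator_subset_ker _ h2, eq_comm,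
    ← MonoidHom.mem_ker, Abelianization.ker_of] at h3
  have : commutator P ≤ ⊥ := Subgroup.commutator_le.2 fun a _ b _ =>
    commutatorElement_eq_one_iff_commute.2 (Subtype.ext (hP a a.2 b b.2))
  exact congrArg Subtype.val (Subgroup.mem_bot.1 (this h3))

theorem psl (hc : IsConnectedSet (CommAdj D) D) (hd : d ∈ D) (hx : x ∈ D) (n1 : ¬ Commute x d) :
    ∃ (F : Type) (_ : Field F) (_ : Fintype F), Fintype.card F = Nat.card (Subgroup.closure {f | f ∈ D ∧ Sm D f d}) ∧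
      Nonempty (XS D d {x} ≃* Matrix.ProjectiveSpecialLinearGroup (Fin 2) F) := by
  have k := h.tclX hd hx n1
  obtain ⟨e, he, se, hm⟩ := h.dd d hd
  have m := fun f => h.e_cls (S := {x}) (f := f) hd hx n1 rfl
  have mx := (m d hd (Sm.refl d)).1
  have hS : {f | f ∈ D ∧ Sm D f d} ∪ {x} ⊆ Cls (XS D d {x}) d := by
    rintro f (hf | rfl)
    exacts [(m f hf.1 hf.2).2, mx]
  have hdX := XS.memE (S := {x}) hd (Sm.refl d)
  have h1 := OC.sub h.ri h.nf hd hdX rfl hS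
  have hgen : Subgroup.closure (Subtype.val ⁻¹' ({f | f ∈ D ∧ Sm D f d} ∪ {x}) : Set (XS D d {x})) = ⊤ :=
    Subgroup.closure_closure_coe_preimage
  have sX := fun b => h.smX (b := b) hd hx n1
  have kX := fun n g => h.kerX (n := n) (g := g) hd hx n1 k
  have nf := fun u j e hu => h.no_four (u := u) (j := j) (e := e) hc hd hx n1 hu
  have hE : Subgroup.closure {f | f ∈ D ∧ Sm D f d} ≤ XS D d {x} := Subgroup.closure_mono Set.subset_union_left
  generalize XS D d {x} = X at *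
  have cm : ∀ {a b : X}, Commute a b ↔ Commute (a : G) b := ⟨congrArg Subtype.val, fun e => Subtype.ext e⟩
  have sm : ∀ f (hf : f ∈ X), Sm D f d →
      Sm (Subtype.val ⁻¹' {y | ∃ g ∈ X, y = g * d * g⁻¹} : Set X) ⟨f, hf⟩ ⟨d, hdX⟩ :=
    fun f hf s c hc => cm.trans ((s c (k.sub hc)).trans (cm (b := ⟨d, hdX⟩)).symm)
  obtain ⟨H, β, t, Q, hb, hβ, k1, -, k3, k4⟩ := h1.star (d := ⟨d, hdX⟩) (e := ⟨e, k.mem (m e he se).2⟩)
    (x := ⟨x, k.mem mx⟩) Cls.self (m e he se).2 (sm e (k.mem (m e he se).2) se) (m _ hm (h.sm_dd he hd se hm)).2 mx (mt cm.1 n1)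
    (eq_top_iff.2 (hgen.ge.trans (Subgroup.closure_mono (by
      rintro ⟨f, hf⟩ (k2 | k2)
      exacts [Or.inl ⟨hS (Or.inl k2), sm f hf k2.2⟩, Or.inr (Subtype.ext k2)]))))
  have hS := k1.setup
  have hs := (toPermHom X (X ⧸ H)).rangeRestrict_surjective
  have hz : (im (X ⧸ H)).ker ≤ Subgroup.center X := fun z hz => Subgroup.mem_center_iff.2 fun g =>
    Subtype.ext (kX z g ⟨z.2, fun a ha => cm.1 (((hβ _ (h1.ri.conj_mem ⟨a, k.mem ha⟩ ha z) ⟨a, k.mem ha⟩ ha).1 (by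
      rw [hb.equi ⟨a, k.mem ha⟩ ha z]; exact im_eq_one.1 hz _)).comm (h1.ri.conj_mem ⟨a, k.mem ha⟩ ha z))⟩ g.2).eq
  have iv : ∀ q ∈ Q, q * q = 1 → ∃ y : X, EEl D d y ∧ im (X ⧸ H) y = q := fun q hq q2 => by
    by_cases q1 : q = 1
    · exact ⟨1, Or.inl rfl, by rw [q1, map_one]⟩
    obtain ⟨y, hy, rfl⟩ := hb.loc (Invol.orderOf_two_iff.2 ⟨q2, q1⟩)
    exact ⟨y, Or.inr ⟨k.sub hy, sX y (k.sub hy) y.2 (cm (b := ⟨d, hdX⟩).1 (((hβ y hy _ Cls.self).1
      (hb.uniq hy (Rank1.Setup.smul_a hS hq)).symm).comm hy))⟩, rfl⟩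
  rcases k4 with ⟨F, i1, i2, i3, hF, k2, ⟨e1⟩⟩ | ⟨⟨v, hv, v2⟩, -⟩
  · have p := center_eq_bot_of _ hs hz k3 fun p hp h2 => cyc_of_equiv e1 (cyc_psl hp h2)
    have hi : Function.Injective (im (X ⧸ H)) := (MonoidHom.ker_eq_bot_iff _).1 (eq_bot_iff.2 fun z hz' => by
      obtain ⟨j, hj⟩ := p ⟨z, hz'⟩
      refine eq_one_of_odd (k := j) ?_ (pow_index_one (Q.comap (im (X ⧸ H))) (fun a ha b hb => ?_) (hz hz')
        (k3.ge (Subgroup.mem_top z))) (congrArg Subtype.val hj)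
      · rw [Subgroup.index_comap_of_surjective _ hs, Nat.eq_of_mul_eq_mul_left Nat.card_pos
          (Q.card_mul_index.trans ((Rank1.Setup.card_G hS).trans (mul_assoc _ _ _)))]
        exact hS.odd_card.mul hS.even_card.add_one
      obtain ⟨a', ka, ea⟩ := iv _ ha (k2 _ ha)
      obtain ⟨b', kb, eb⟩ := iv _ hb (k2 _ hb)
      have ca := Subgroup.mem_center_iff.1 (hz (show a'⁻¹ * a ∈ (im (X ⧸ H)).ker by
        rw [MonoidHom.mem_ker, map_mul, map_inv, ea, inv_mul_cancel]))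
      have cb := Subgroup.mem_center_iff.1 (hz (show b'⁻¹ * b ∈ (im (X ⧸ H)).ker by
        rw [MonoidHom.mem_ker, map_mul, map_inv, eb, inv_mul_cancel]))
      have c0 : Commute a' b' := cm.2 (kb.elim (fun e => e ▸ Commute.one_right _) fun kb => ka.comm kb.1 (kb.2.comm kb.1))
      simpa using (c0.mul_right (cb a')).mul_left (Commute.symm (ca (b' * (b'⁻¹ * b)))))
    refine ⟨F, i1, i2, hF.trans ?_, ⟨(MulEquiv.ofBijective _ ⟨hi, hs⟩).trans e1⟩⟩
    rw [← Nat.card_congr (Subgroup.subgroupOfEquivOfLe hE).toEquiv, ← Subgroup.card_map_of_injective hi]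
    congr 2
    ext q
    rw [k1.mem_Q0]
    refine ⟨fun hq => let ⟨y, ky, ey⟩ := iv q hq.1 hq.2; ⟨y, h.mem_clE.2 ky, ey⟩, ?_⟩
    rintro ⟨y, hy, rfl⟩
    have ky := h.mem_clE.1 hy
    have y2 : im (X ⧸ H) y * im (X ⧸ H) y = 1 := by
      rw [← map_mul, show y * y = 1 from Subtype.ext (ky.elim (fun e => by simp [show (y : G) = 1 from e])
        fun k => h.sq k.1), map_one]
    have := hb.fix (d := ⟨d, hdX⟩) (s := y) Cls.self (cm.2 (ky.comm hd (Commute.refl d)))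
    exact ⟨Rank1.Setup.mem_Q_of_mul_self hS this y2, y2⟩
  exfalso
  obtain ⟨v, hv, v2, v4⟩ : ∃ v ∈ Q, v * v ≠ 1 ∧ v * v * (v * v) = 1 := by
    obtain ⟨j, hj⟩ := k1.tri.1 ⟨v, hv⟩
    replace hj : v ^ 2 ^ j = 1 := congrArg Subtype.val hj
    induction j generalizing v with
    | zero => exact absurd (by simp_all) v2
    | succ j ih =>
      by_cases v4 : v * v * (v * v) = 1
      exacts [⟨v, hv, v2, v4⟩, ih _ (mul_mem hv hv) v4 (by rw [← _root_.sq, ← pow_mul, ← pow_succ', hj])]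
  obtain ⟨g, rfl⟩ := hs v
  obtain ⟨u, ⟨j, hj⟩, eu⟩ := exists_two_lift (im (X ⧸ H)) (g := g) (k := 2) (by
    rw [← v4]; simp only [pow_succ, pow_zero, one_mul, mul_assoc]; norm_num [pow_succ, mul_assoc])
  obtain ⟨y, ky, ey⟩ := iv _ (mul_mem hv hv) v4
  have cz := Subgroup.mem_center_iff.1 (hz (show y * (u * u) ∈ (im (X ⧸ H)).ker by
    rw [MonoidHom.mem_ker, map_mul, map_mul, ey, eu]; exact v4))
  rcases ky with ky | ky
  · exact v2 (by rw [← ey, show y = 1 from Subtype.ext ky, map_one])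
  refine nf u j y u.2 (congrArg Subtype.val hj) ky.1 ky.2 (cm.1 ?_) fun g hg => congrArg Subtype.val (cz ⟨g, hg⟩)
  exact mul_inv_cancel_right y (u * u) ▸ Commute.mul_right (cz u) ((Commute.refl u).mul_right (Commute.refl u)).inv_right

end OE

theorem OC.oe [Finite G] (h : OC D) (hO : pCore 2 G = ⊥) (hDD : (D ∩ commutingProducts D).Nonempty) : OE D := by
  refine ⟨h, fun a ha b hb s => ?_, fun d hd => ?_⟩
  · by_cases e : a = b
    · exact Or.inl (e ▸ h.sq ha)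
    have hm := h.closed hO hb ha s e
    exact Or.inr ⟨hm, h.sm_of_prod hm hb ((s.comm ha).mul_left (Commute.refl b)) (by rwa [mul_assoc, h.sq hb, mul_one])⟩
  · obtain ⟨_, hm, a, ha, b, hb, k, -, rfl⟩ := hDD
    obtain ⟨g, rfl⟩ := isConj_iff.1 (h.cl b hb d hd)
    exact ⟨_, h.ri.conj_mem a ha g, RI.sm_conj h.ri (h.sm_of_prod ha hb k hm) g, by
      rw [conj_mul]; exact h.ri.conj_mem _ hm g⟩

theorem oc_of (hD : IsOddTranspositionSet D) (hcl : IsRootInvolutionClass D) : OC D :=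
  ⟨hD.1, nf_of hD, fun a ha b hb => let ⟨g, e⟩ := hcl.2.2 a ha b hb; isConj_iff.2 ⟨g, e.symm⟩⟩

end Cfsg.Agent.Root
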