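import Cfsg.Agent.AutCl.Eich
import Cfsg.Agent.Geom.Classify
import Cfsg.Agent.Geom.Eichler

/-! Tools for maximality proofs in classical groups over finite fields ("room" lemmas): singular
vectors with prescribed inner products (`exists_sing_pf`, `room`, `sep`), invariant additive subgroups
(`le_of_inv`), the calculus of Eichler maps lying in a subgroup (`HasE`), the group `EG Φ` generated by
all Eichler maps and the criterion `EG_le_of_full`. -/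

set_option autoImplicit false

namespace Cfsg.Agent.Root.Mx

open Cfsg.Agent.Geom Cfsg.Agent.AutCl Module

variable {F : Type*} [Field F] {σ : F →+* F} {V : Type*} [AddCommGroup V] [Module F V]
  {Φ : Formed σ V}

/-- The vectors perpendicular to a finite family. -/
def pf (Φ : Formed σ V) {k : ℕ} (s : Fin k → V) : Submodule F V :=
  LinearMap.ker (LinearMap.pi fun i => Φ.B (s i))

theorem mem_pf {k : ℕ} {s : Fin k → V} {x : V} : x ∈ pf Φ s ↔ ∀ i, Φ.B (s i) x = 0 := by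
  simp [pf, funext_iff]

theorem finrank_inf_ge [FiniteDimensional F V] (U W : Submodule F V) :
    finrank F U + finrank F W ≤ finrank F ↥(U ⊓ W) + finrank F V := by
  have := Submodule.finrank_sup_add_finrank_inf_eq U W
  have := Submodule.finrank_le (U ⊔ W)
  omega

theorem finrank_ker_pi [FiniteDimensional F V] {k : ℕ} (φ : Fin k → Dual F V) (U : Submodule F V) :
    finrank F U ≤ finrank F ↥(U ⊓ LinearMap.ker (LinearMap.pi φ)) + k := by
  have h1 := LinearMap.finrank_range_add_finrank_ker (LinearMap.pi φ)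
  have h2 := Submodule.finrank_le (LinearMap.range (LinearMap.pi φ))
  rw [Module.finrank_fin_fun] at h2
  have := finrank_inf_ge U (LinearMap.ker (LinearMap.pi φ))
  omega

theorem finrank_pf [FiniteDimensional F V] {k : ℕ} (s : Fin k → V) (U : Submodule F V) :
    finrank F U ≤ finrank F ↥(U ⊓ pf Φ s) + k := finrank_ker_pi _ U

theorem exists_notMem_of_lt [FiniteDimensional F V] {U R : Submodule F V}
    (h : finrank F R < finrank F U) : ∃ x ∈ U, x ∉ R := by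
  by_contra! hc
  exact absurd (Submodule.finrank_mono (show U ≤ R from hc)) (by omega)

theorem finrank_span_fam {k : ℕ} (s : Fin k → V) :
    finrank F (Submodule.span F (Set.range s)) ≤ k := by
  simpa [Set.finrank] using finrank_range_le_card (R := F) s

theorem B_self_eq (x : V) : Φ.ε * σ (Φ.B x x) = Φ.B x x := (Φ.symm x x).symm

theorem exists_sing_top [Finite F] [FiniteDimensional F V] (Φ : Formed σ V) (h3 : 3 ≤ finrank F V) :
    ∃ x, x ≠ 0 ∧ Φ.Sing x := by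
  by_cases hσ : σ = RingHom.id F
  · subst hσ
    by_cases hτ : Φ.τ = 0
    · obtain ⟨p, hp0, hp⟩ := exists_sing_of_finite (LinearMap.BilinMap.toQuadraticMap Φ.B) h3
      obtain ⟨d, hd, -⟩ := Φ.trace p
      exact ⟨p, hp0, by rw [← hd, hτ, zero_mul], hp⟩
    · obtain ⟨p, hp0, hp⟩ := exists_sing_of_finite (QuadraticMap.mk Φ.Q
        (fun a x => by rw [Φ.Q_smul, smul_eq_mul]) ⟨Φ.τ • Φ.B, fun x y => by simp [Φ.Q_add]⟩) h3
      have hp : Φ.Q p = 0 := hp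
      obtain ⟨d, hd, hd'⟩ := Φ.trace p
      rw [hp, mul_eq_zero, or_iff_right hτ] at hd
      exact ⟨p, hp0, hp, by rw [← hd', hd]; simp⟩
  · obtain ⟨x, -, hx⟩ := exists_notMem_of_lt (U := (⊤ : Submodule F V)) (R := ⊥) (by simp; omega)
    obtain ⟨y, ⟨-, hxy⟩, hy⟩ := exists_notMem_of_lt (U := ⊤ ⊓ pf Φ ![x]) (R := ⊥) (by
      have := finrank_pf (Φ := Φ) ![x] ⊤
      simp only [finrank_top, finrank_bot] at this ⊢; omega)
    rw [Submodule.mem_bot] at hx hy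
    have hxy : Φ.B x y = 0 := mem_pf.1 hxy 0
    by_cases hxx : Φ.B x x = 0
    · exact ⟨x, hx, Φ.Q_eq_zero hσ _, hxx⟩
    obtain ⟨t, ht⟩ := exists_norm_eq hσ Φ.σσ (a := -Φ.B y y / Φ.B x x) (by
      rw [map_div₀, map_neg, div_eq_div_iff (by simpa) hxx]
      linear_combination (-Φ.ε * Φ.B x x) * B_self_eq (Φ := Φ) y +
        (Φ.ε * Φ.B y y) * B_self_eq (Φ := Φ) x +
        (σ (Φ.B y y) * Φ.B x x - Φ.B y y * σ (Φ.B x x)) * Φ.εε)
    refine ⟨t • x + y, fun h => ?_, Φ.Q_eq_zero hσ _, ?_⟩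
    · have := congrArg (Φ.B x) h
      simp only [map_add, map_smul, hxy, smul_eq_mul, add_zero, map_zero, mul_eq_zero, hxx,
        or_false] at this
      rw [this] at h; exact hy (by simpa using h)
    · rw [Φ.B_add_left, Φ.B_smul_left]
      simp only [map_add, map_smul, hxy, Φ.B_eq_zero_symm hxy, smul_eq_mul]
      field_simp at ht
      linear_combination ht

section Room
variable [Finite F] [FiniteDimensional F V]

theorem exists_sing_notMem (Φ : Formed σ V) {U R : Submodule F V} (h : finrank F R + 3 ≤ finrank F U) :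
    ∃ x ∈ U, x ∉ R ∧ Φ.Sing x := by
  obtain ⟨C, hC⟩ := R.exists_isCompl
  have h1 := Submodule.finrank_add_eq_of_isCompl hC
  have h2 := finrank_inf_ge U C
  obtain ⟨x, hx0, hx⟩ := exists_sing_top (Φ.restrict (U ⊓ C)) (by omega)
  exact ⟨x, x.2.1, fun hR => hx0 (Subtype.ext (Submodule.disjoint_def.1 hC.disjoint _ hR x.2.2)), hx⟩

/-- A singular vector of `U` outside `R`, perpendicular to `k` given vectors. -/
theorem exists_sing_pf (Φ : Formed σ V) {k : ℕ} (s : Fin k → V) {U R : Submodule F V}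
    (h : k + finrank F R + 3 ≤ finrank F U) :
    ∃ x ∈ U, x ∉ R ∧ Φ.Sing x ∧ ∀ i, Φ.B (s i) x = 0 := by
  have := finrank_pf (Φ := Φ) s U
  obtain ⟨x, hx, h1, h2⟩ := exists_sing_notMem Φ (U := U ⊓ pf Φ s) (R := R) (by omega)
  exact ⟨x, hx.1, h1, h2, mem_pf.1 hx.2⟩

omit [Finite F] in
theorem finrank_inf_perp (hn : Φ.Nondeg) {U W : Submodule F V} (hW : (Φ.restrict W).Nondeg)
    (hU : U ≤ W) : finrank F ↥(W ⊓ Φ.perp U) + finrank F U = finrank F W := by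
  have h1 := hn.finrank_add_finrank_perp (U ⊔ Φ.perp W)
  rw [Φ.perp_sup, hn.perp_perp, inf_comm] at h1
  have h2 := Submodule.finrank_sup_add_finrank_inf_eq U (Φ.perp W)
  rw [((Φ.restrict_nondeg_iff.1 hW).mono_left hU).eq_bot, finrank_bot] at h2
  have h3 := hn.finrank_add_finrank_perp W
  omega

omit [Finite F] [FiniteDimensional F V] in
theorem exists_adjust {e x : V} (he : Φ.Sing e) (h : Φ.B e x ≠ 0) : ∃ c : F, Φ.Sing (x + c • e) := by
  obtain ⟨c, h1, h2, -⟩ := Φ.exists_singular_partner (p := σ (Φ.B e x)⁻¹ • e) (w := x)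
    (he.smul _).1 (he.smul _).2 (by rw [Φ.B_smul_left, Φ.σσ, inv_mul_cancel₀ h])
  exact ⟨-(c * σ (Φ.B e x)⁻¹), by
    rw [neg_smul, ← sub_eq_add_neg, ← smul_smul]; exact ⟨h1, h2⟩⟩

/-- Any vector can be replaced by a singular one with the same products against `k` vectors. -/
theorem room (hn : Φ.Nondeg) {W : Submodule F V} (hW : (Φ.restrict W).Nondeg) {k : ℕ}
    (s : Fin k → V) (hk : 2 * k + 3 ≤ finrank F W) {x₀ : V} (hx : x₀ ∈ W) :
    ∃ x ∈ W, Φ.Sing x ∧ ∀ i, Φ.B (s i) x = Φ.B (s i) x₀ := by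
  have h1 := finrank_pf (Φ := Φ) s W
  have h2 := finrank_inf_perp hn hW (U := W ⊓ pf Φ s) inf_le_left
  obtain ⟨e, he, heR, hes⟩ := exists_sing_notMem Φ (U := W ⊓ pf Φ s)
    (R := W ⊓ Φ.perp (W ⊓ pf Φ s)) (by omega)
  obtain ⟨f, hf, hfe⟩ : ∃ f ∈ W ⊓ pf Φ s, Φ.B e f ≠ 0 := by
    by_contra! hc
    exact heR ⟨he.1, Φ.mem_perp'.2 hc⟩
  have key : ∀ x ∈ W, Φ.B e x ≠ 0 → (∀ i, Φ.B (s i) x = Φ.B (s i) x₀) →
      ∃ x ∈ W, Φ.Sing x ∧ ∀ i, Φ.B (s i) x = Φ.B (s i) x₀ := fun x hx h1 h2 => by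
    obtain ⟨c, hc⟩ := exists_adjust hes h1
    exact ⟨_, W.add_mem hx (W.smul_mem c he.1), hc, fun i => by simp [h2, mem_pf.1 he.2 i]⟩
  by_cases h : Φ.B e x₀ = 0
  · exact key (x₀ + f) (W.add_mem hx hf.1) (by simpa [h]) fun i => by simp [mem_pf.1 hf.2 i]
  · exact key x₀ hx h fun _ => rfl

omit [Finite F] in
theorem sep (hn : Φ.Nondeg) {W S : Submodule F V} (hW : (Φ.restrict W).Nondeg) (hS : S ≤ W) {p : V}
    (hp : p ∈ W) (hpS : p ∉ S) : ∃ x ∈ W, x ∈ Φ.perp S ∧ Φ.B p x = 1 := by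
  obtain ⟨x, hx, h1⟩ := hn.exists_perp_eq_one' (H := S ⊔ Φ.perp W) (x := p) (fun h => by
    obtain ⟨a, ha, b, hb, rfl⟩ := Submodule.mem_sup.1 h
    have := Submodule.disjoint_def.1 (Φ.restrict_nondeg_iff.1 hW) b
      ((W.add_mem_iff_right (hS ha)).1 hp) hb
    exact hpS (by simpa [this]))
  rw [Φ.perp_sup, hn.perp_perp] at hx
  exact ⟨x, hx.2, hx.1, h1⟩

omit [Finite F] [FiniteDimensional F V] in
theorem nondeg_top (hn : Φ.Nondeg) : (Φ.restrict ⊤).Nondeg :=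
  Φ.restrict_nondeg_iff'.2 fun u _ h => hn u fun v => h v trivial

omit [Finite F] in
theorem exists_pair_mem (hn : Φ.Nondeg) {W : Submodule F V} (hW : (Φ.restrict W).Nondeg) {x : V}
    (hx : x ∈ W) (hx0 : x ≠ 0) (hs : Φ.Sing x) : ∃ r ∈ W, Φ.IsPair x r := by
  obtain ⟨y, hy, -, h⟩ := sep hn hW bot_le hx (by simpa)
  obtain ⟨c, hc⟩ := exists_adjust hs (x := y) (by simp [h])
  exact ⟨_, W.add_mem hy (W.smul_mem c hx), hs, hc, by simp [h, hs.2]⟩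

omit [Finite F] [FiniteDimensional F V] in
/-- Singular vectors generate a subspace containing a hyperbolic pair additively. -/
theorem sing_ind {W : Submodule F V} {a b : V} (ha : a ∈ W) (hb : b ∈ W) (hab : Φ.IsPair a b)
    (A : AddSubgroup V) (h : ∀ x ∈ W, Φ.Sing x → x ∈ A) : ∀ x ∈ W, x ∈ A := fun x hx =>
  sing_induction (Φ := Φ.restrict W) (a := ⟨a, ha⟩) (b := ⟨b, hb⟩) ⟨hab.se, hab.sf, hab.ef⟩
    (P := fun x => x.1 ∈ A) (fun x hx => h x x.2 hx) (fun _ _ => A.add_mem) ⟨x, hx⟩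

omit [Finite F] in
/-- Two perpendicular singular vectors have a common singular non-perpendicular vector. -/
theorem exists_sing_both (hn : Φ.Nondeg) {W : Submodule F V} (hW : (Φ.restrict W).Nondeg)
    {x z : V} (hx : x ∈ W) (hx0 : x ≠ 0) (hs : Φ.Sing x) (hz : z ∈ W) (hz0 : z ≠ 0)
    (hxz : Φ.B z x = 0) : ∃ w ∈ W, Φ.Sing w ∧ Φ.B x w ≠ 0 ∧ Φ.B z w ≠ 0 := by
  obtain ⟨r, hr, hp⟩ := exists_pair_mem hn hW hx hx0 hs
  by_cases h : Φ.B z r = 0
  · obtain ⟨y, hy, h1, h2⟩ := sep hn hW ((Submodule.span_singleton_le_iff_mem _ _).2 hx) hz (fun hc => by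
      obtain ⟨c, rfl⟩ := Submodule.mem_span_singleton.1 hc
      rw [Φ.B_smul_left, hp.ef, mul_one, map_eq_zero] at h
      exact hz0 (by simp [h]))
    rw [Φ.mem_perp_span_singleton] at h1
    obtain ⟨c, hc⟩ := exists_adjust hs (x := r + y) (by simp [h1, hp.ef])
    exact ⟨_, W.add_mem (W.add_mem hr hy) (W.smul_mem c hx), hc, by simp [h1, hp.ef, hs.2],
      by simp [h, h2, hxz]⟩
  · exact ⟨r, hr, hp.sf, by simp [hp.ef], h⟩

omit [Finite F] in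
theorem exists_B_eq (hn : Φ.Nondeg) {W : Submodule F V} (hW : (Φ.restrict W).Nondeg)
    (h3 : 3 ≤ finrank F W) {x : V} (hx : x ∈ W) (hx0 : x ≠ 0) (hs : Φ.Sing x) (t : F) :
    ∃ y ∈ W, ∃ y' ∈ W, Φ.B x y = 0 ∧ Φ.B x y' = 0 ∧ Φ.B y y' = t := by
  obtain ⟨r, hr, hp⟩ := exists_pair_mem hn hW hx hx0 hs
  obtain ⟨y, hy, hy0⟩ := exists_notMem_of_lt (U := W ⊓ pf Φ ![x, r]) (R := ⊥) (by
    have := finrank_pf (Φ := Φ) ![x, r] W
    rw [finrank_bot]; omega)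
  have h1 : Φ.B x y = 0 := mem_pf.1 hy.2 0
  have h2 : Φ.B r y = 0 := mem_pf.1 hy.2 1
  obtain ⟨y', hy', h3, h4⟩ := sep hn hW ((Submodule.span_singleton_le_iff_mem _ _).2 hx) hy.1 (fun hc => by
    obtain ⟨c, rfl⟩ := Submodule.mem_span_singleton.1 hc
    rw [Φ.B_smul_right, hp.fe, mul_eq_zero, or_iff_left Φ.ε_ne_zero] at h2
    exact hy0 (by simp [h2]))
  rw [Φ.mem_perp_span_singleton] at h3
  exact ⟨y, hy.1, t • y', W.smul_mem _ hy', h1, by simp [h3], by simp [h4]⟩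

theorem exists_pair (hn : Φ.Nondeg) {W : Submodule F V} (hW : (Φ.restrict W).Nondeg)
    (h3 : 3 ≤ finrank F W) : ∃ a ∈ W, ∃ b ∈ W, Φ.IsPair a b := by
  obtain ⟨a, ha, ha0, hs⟩ := exists_sing_notMem Φ (U := W) (R := ⊥) (by simpa)
  obtain ⟨b, hb, h⟩ := exists_pair_mem hn hW ha (by simpa using ha0) hs
  exact ⟨a, ha, b, hb, h⟩

/-- An additive subgroup invariant under the Eichler maps of a non-degenerate subspace `W`
either is perpendicular to `W` or contains it. -/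
theorem le_of_inv (hn : Φ.Nondeg) {W : Submodule F V} (hW : (Φ.restrict W).Nondeg)
    (h3 : 3 ≤ finrank F W) (A : AddSubgroup V)
    (hA : ∀ x ∈ W, ∀ y ∈ W, ∀ d g, IsE Φ x y d g → ∀ a ∈ A, g a ∈ A) {a : V} (ha : a ∈ A)
    (hy : ∃ y ∈ W, Φ.B y a ≠ 0) : ∀ w ∈ W, w ∈ A := by
  have key : ∀ a ∈ A, ∀ x ∈ W, Φ.Sing x → Φ.B x a ≠ 0 → x ∈ A := by
    intro a ha x hx hs h
    obtain ⟨y, hy, y', hy', h1, h2, h3⟩ := exists_B_eq hn hW h3 hx (by rintro rfl; simp at h) hs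
      (-(Φ.ε * (Φ.B x a)⁻¹))
    obtain ⟨d, g, hg⟩ := exists_isE' hn hs h1
    obtain ⟨d', g', hg'⟩ := exists_isE' hn hs h2
    have := A.sub_mem (A.add_mem (hA x hx _ (W.add_mem hy hy') _ _ (hg.mul hg') a ha) ha)
      (A.add_mem (hA x hx _ hy _ _ hg a ha) (hA x hx _ hy' _ _ hg' a ha))
    convert this using 1
    rw [(hg.mul hg').app, hg.app, hg'.app, h3, Φ.B_add_left]
    match_scalars
    · field_simp; linear_combination -Φ.εε
    all_goals ring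
  obtain ⟨e, he, f, hf, hef⟩ := exists_pair hn hW h3
  obtain ⟨x, hx, hs, hxa⟩ : ∃ x ∈ W, Φ.Sing x ∧ Φ.B x a ≠ 0 := by
    by_contra! hc
    obtain ⟨y, hy, hya⟩ := hy
    exact hya (Φ.B_eq_zero_symm (sing_ind he hf hef (LinearMap.ker (Φ.B a)).toAddSubgroup
      (fun x hx hs => Φ.B_eq_zero_symm (hc x hx hs)) y hy))
  have hxA := key a ha x hx hs hxa
  refine sing_ind he hf hef A fun z hz hzs => ?_
  rcases eq_or_ne z 0 with rfl | hz0
  · exact A.zero_mem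
  by_cases h : Φ.B z x = 0
  · obtain ⟨w, hw, hws, h1, h2⟩ := exists_sing_both hn hW hx (by rintro rfl; simp at hxa) hs hz hz0 h
    exact key w (key x hxA w hw hws fun h => h1 (Φ.B_eq_zero_symm h)) z hz hzs h2
  · exact key x hxA z hz hzs h

end Room

/-! ### Eichler maps in a subgroup -/

/-- The Eichler map with data `p, a, d` lies in `X`. -/
def HasE (Φ : Formed σ V) (X : Subgroup (V ≃ₗ[F] V)) (p a : V) (d : F) : Prop :=
  ∃ g ∈ X, IsE Φ p a d g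

namespace HasE
variable {X : Subgroup (V ≃ₗ[F] V)} {p a b x y : V} {d d' : F}

theorem mem (h : HasE Φ X p a d) {g : V ≃ₗ[F] V} (hg : IsE Φ p a d g) : g ∈ X :=
  let ⟨_, h1, h2⟩ := h; h2.ext hg ▸ h1

theorem mono {Y : Subgroup (V ≃ₗ[F] V)} (h : HasE Φ X p a d) (hY : X ≤ Y) : HasE Φ Y p a d :=
  let ⟨g, h1, h2⟩ := h; ⟨g, hY h1, h2⟩

theorem sp (h : HasE Φ X p a d) : Φ.Sing p := let ⟨_, _, h2⟩ := h; h2.sp
theorem pa (h : HasE Φ X p a d) : Φ.B p a = 0 := let ⟨_, _, h2⟩ := h; h2.pa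
theorem hB (h : HasE Φ X p a d) : Φ.ε * d + σ d = Φ.B a a := let ⟨_, _, h2⟩ := h; h2.hB
theorem hQ (h : HasE Φ X p a d) : Φ.τ * d = Φ.Q a := let ⟨_, _, h2⟩ := h; h2.hQ

theorem congr (h : HasE Φ X p a d) (ha : a = b) (hd : d = d') : HasE Φ X p b d' := ha ▸ hd ▸ h

theorem mul (h : HasE Φ X p a d) (h' : HasE Φ X p b d') :
    HasE Φ X p (a + b) (d + d' + Φ.ε * Φ.B a b) :=
  let ⟨_, h1, h2⟩ := h; let ⟨_, h3, h4⟩ := h'; ⟨_, X.mul_mem h1 h3, h2.mul h4⟩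

theorem inv (h : HasE Φ X p a d) : HasE Φ X p (-a) (Φ.ε * σ d) :=
  let ⟨_, h1, h2⟩ := h; ⟨_, X.inv_mem h1, h2.inv⟩

theorem conj (h : HasE Φ X p a d) {s : V ≃ₗ[F] V} (hs : s ∈ X) (hs' : s ∈ Φ.isom) :
    HasE Φ X (s p) (s a) d :=
  let ⟨_, h1, h2⟩ := h; ⟨_, X.mul_mem (X.mul_mem hs h1) (X.inv_mem hs), h2.conj hs'⟩

theorem add_smul (h : HasE Φ X p a d) (c : F) : HasE Φ X p (a + c • p) (d + σ c - Φ.ε * c) :=
  let ⟨g, h1, h2⟩ := h; ⟨g, h1, (h2.sub_smul (-c)).congr (by simp) (by simp; ring)⟩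

theorem smul (h : HasE Φ X p a d) {c : F} (hc : c ≠ 0) :
    HasE Φ X (c • p) ((σ c)⁻¹ • a) (d * (c⁻¹ * (σ c)⁻¹)) :=
  let ⟨g, h1, h2⟩ := h; ⟨g, h1, h2.smul hc⟩

theorem of_smul {c : F} (h : HasE Φ X (c • p) a d) (hc : c ≠ 0) :
    HasE Φ X p (σ c • a) (d * (c * σ c)) := by
  obtain ⟨g, h1, h2⟩ := h
  exact ⟨g, h1, h2.of_smul (by simpa [hc] using h2.sp.smul c⁻¹) hc⟩

theorem sing (h : HasE Φ X p a 0) : Φ.Sing a :=
  ⟨by rw [← h.hQ, mul_zero], by rw [← h.hB]; simp⟩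

theorem swap (h : HasE Φ X p a 0) : HasE Φ X a (-(Φ.ε • p)) 0 := by
  have hs := h.sing
  obtain ⟨g, h1, h2⟩ := h
  refine ⟨g, h1, hs, by simp [h2.ap], ?_, ?_, fun x => ?_⟩
  · rw [Φ.Q_neg, (h2.sp.smul _).1, mul_zero]
  · simp [Φ.B_smul_left, h2.sp.2]
  · rw [h2.app, map_neg, LinearMap.neg_apply, Φ.B_smul_left, Φ.σε]
    match_scalars
    · ring
    · linear_combination -Φ.B a x * Φ.εε
    · ring

theorem neg (h : HasE Φ X p a 0) : HasE Φ X p (-a) 0 := h.inv.congr rfl (by simp)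

theorem swap' (h : HasE Φ X p a 0) : ∃ c : F, c ≠ 0 ∧ HasE Φ X a (c • p) 0 :=
  ⟨-Φ.ε, by simpa using Φ.ε_ne_zero, h.swap.congr (by simp) rfl⟩

theorem sub (h : HasE Φ X p a d) (h' : HasE Φ X p b d') : ∃ e, HasE Φ X p (a - b) e :=
  ⟨_, (h.mul h'.inv).congr (by rw [sub_eq_add_neg]) rfl⟩

/-- Commutator with an isometry fixing `p` and translating `a` by a perpendicular vector. -/
theorem comm (h : HasE Φ X p a d) {s : V ≃ₗ[F] V} (hs : s ∈ X) (hs' : s ∈ Φ.isom) (hp : s p = p)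
    (ha : s a = a + x) (hx : Φ.B x a = 0) : HasE Φ X p x 0 := by
  have := h.conj hs hs'
  rw [hp, ha] at this
  refine (this.mul h.inv).congr (by simp) ?_
  rw [map_neg, Φ.B_add_left, hx, ← h.hB]
  linear_combination -d * Φ.εε

theorem move (h : HasE Φ X x y d') (h' : HasE Φ X p a d) (h1 : Φ.B x p = 0) (h2 : Φ.B y p = 0)
    (h3 : Φ.B x a = 0) : HasE Φ X p (Φ.B y a • x) 0 := by
  obtain ⟨s, hs, he⟩ := h
  exact h'.comm hs he.mem_isom (by rw [he.apply_perp h1, h2]; simp) (he.apply_perp h3)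
    (by rw [Φ.B_smul_left, h3, mul_zero])

end HasE

theorem hasE_one (X : Subgroup (V ≃ₗ[F] V)) {p : V} (hp : Φ.Sing p) : HasE Φ X p 0 0 :=
  ⟨1, X.one_mem, isE_one hp⟩

/-- The vector data of the Eichler maps at `p` lying in `X`. -/
def AE (Φ : Formed σ V) (X : Subgroup (V ≃ₗ[F] V)) {p : V} (hp : Φ.Sing p) : AddSubgroup V where
  carrier := {a | ∃ d, HasE Φ X p a d}
  zero_mem' := ⟨0, hasE_one X hp⟩
  add_mem' := fun ⟨_, h⟩ ⟨_, h'⟩ => ⟨_, h.mul h'⟩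
  neg_mem' := fun ⟨_, h⟩ => ⟨_, h.inv⟩

theorem mem_AE {X : Subgroup (V ≃ₗ[F] V)} {p a : V} {hp : Φ.Sing p} :
    a ∈ AE Φ X hp ↔ ∃ d, HasE Φ X p a d := Iff.rfl

theorem smul_mem_AE {X : Subgroup (V ≃ₗ[F] V)} {p : V} (hp : Φ.Sing p) (c : F) : c • p ∈ AE Φ X hp :=
  ⟨_, ((hasE_one X hp).add_smul c).congr (zero_add _) rfl⟩

theorem map_mem_AE {X : Subgroup (V ≃ₗ[F] V)} {p a : V} {hp : Φ.Sing p} {s : V ≃ₗ[F] V} (hs : s ∈ X)
    (hs' : s ∈ Φ.isom) (h : s p = p) (ha : a ∈ AE Φ X hp) : s a ∈ AE Φ X hp :=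
  let ⟨d, hd⟩ := ha; ⟨d, h ▸ hd.conj hs hs'⟩

/-- All Eichler maps at `p` lie in `X`. -/
def Full (Φ : Formed σ V) (X : Subgroup (V ≃ₗ[F] V)) (p : V) : Prop :=
  Φ.Sing p ∧ ∀ a d g, IsE Φ p a d g → g ∈ X

/-- All transvections at `p` lie in `X`. -/
def FullT (Φ : Formed σ V) (X : Subgroup (V ≃ₗ[F] V)) (p : V) : Prop :=
  ∀ d g, IsE Φ p 0 d g → g ∈ X

/-- The formed space is not symplectic of characteristic two. -/
def NotSp2 (Φ : Formed σ V) : Prop := Φ.τ ≠ 0 ∨ ∃ s : F, s + σ s = 1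

theorem notSp2_of_two (h2 : (2 : F) ≠ 0) : NotSp2 Φ :=
  Or.inr ⟨2⁻¹, by rw [map_inv₀, map_ofNat]; field_simp; ring⟩

theorem exists_trace_one (hσ : σ ≠ RingHom.id F) (hσσ : ∀ a, σ (σ a) = a) : ∃ s : F, s + σ s = 1 := by
  obtain ⟨a, ha⟩ : ∃ a, σ a ≠ a := by
    by_contra! h; exact hσ (RingHom.ext h)
  obtain ⟨b, hb⟩ : ∃ b, b + σ b ≠ 0 := by
    by_contra! h
    have h1 := h 1
    rw [map_one] at h1
    exact ha (by linear_combination h a - a * h1)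
  exact ⟨b / (b + σ b), by rw [map_div₀, map_add, hσσ, add_comm (σ b) b]; field_simp⟩

theorem notSp2_of_ne (hσ : σ ≠ RingHom.id F) : NotSp2 Φ := Or.inr (exists_trace_one hσ Φ.σσ)

theorem notSp2_quad (Q : QuadraticForm F V) : NotSp2 (Formed.ofQuad Q) := Or.inl one_ne_zero

section Full
variable {X : Subgroup (V ≃ₗ[F] V)} {p : V}

theorem full_of_AE (hp : Φ.Sing p) (hA : ∀ a, Φ.B p a = 0 → a ∈ AE Φ X hp) (hT : FullT Φ X p) :
    Full Φ X p := ⟨hp, fun a d g hg => by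
  obtain ⟨d', g', h1, h2⟩ := hA a hg.pa
  simpa using X.mul_mem (hT _ _ ((hg.mul h2.inv).congr (by simp) rfl)) h1⟩

theorem fullT_of_τ (hτ : Φ.τ ≠ 0) : FullT Φ X p := fun d g hg => by
  have := hg.hQ
  rw [Φ.Q_zero, mul_eq_zero, or_iff_right hτ] at this
  subst this
  exact (hasE_one X hg.sp).mem hg

theorem fullT_of_comm (hp : Φ.Sing p) (h2 : NotSp2 Φ)
    (hA : ∀ t : F, ∃ a ∈ AE Φ X hp, ∃ b ∈ AE Φ X hp, Φ.B a b = t) : FullT Φ X p := by
  rcases h2 with h2 | ⟨s, hs⟩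
  · exact fullT_of_τ h2
  intro d g hg
  obtain ⟨a, ⟨e, ha⟩, b, ⟨e', hb⟩, h⟩ := hA (Φ.ε * s * d)
  refine ((((ha.mul hb).mul ha.inv).mul hb.inv).congr (by simp) ?_).mem hg
  have h1 := hg.hB
  have h3 : σ d = -(Φ.ε * d) := by rw [map_zero] at h1; linear_combination h1
  simp only [map_neg, Φ.B_add_left, add_neg_cancel_comm, Φ.symm a b, h, ← ha.hB, ← hb.hB, map_mul, Φ.σε, h3]
  linear_combination d * hs + (s * d - e - e' + (Φ.ε ^ 2 + 1) * σ s * d) * Φ.εε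

variable [FiniteDimensional F V]

theorem Full.hasE (hn : Φ.Nondeg) (h : Full Φ X p) {a : V} {d : F} (hpa : Φ.B p a = 0)
    (hQ : Φ.τ * d = Φ.Q a) (hB : Φ.ε * d + σ d = Φ.B a a) : HasE Φ X p a d :=
  let ⟨g, hg⟩ := exists_isE hn h.1 hpa hQ hB; ⟨g, h.2 _ _ _ hg, hg⟩

theorem full_of_AE' (hn : Φ.Nondeg) (h3 : 3 ≤ finrank F V) (h2 : NotSp2 Φ) (hp0 : p ≠ 0) (hp : Φ.Sing p)
    (hA : ∀ a, Φ.B p a = 0 → a ∈ AE Φ X hp) : Full Φ X p :=
  full_of_AE hp hA (fullT_of_comm hp h2 fun t => by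
    obtain ⟨y, -, y', -, h1, h2, h3⟩ := exists_B_eq hn (nondeg_top hn) (by simpa) trivial hp0 hp t
    exact ⟨y, hA y h1, y', hA y' h2, h3⟩)

omit [FiniteDimensional F V] in
theorem Full.map (h : Full Φ X p) {s : V ≃ₗ[F] V} (hs : s ∈ X) (hs' : s ∈ Φ.isom) : Full Φ X (s p) :=
  ⟨h.1.map hs', fun a d g hg => by
    have := hg.conj (inv_mem hs')
    rw [show s⁻¹ (s p) = p from s.symm_apply_apply p] at this
    simpa [mul_assoc] using X.mul_mem (X.mul_mem hs (h.2 _ _ _ this)) (X.inv_mem hs)⟩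

omit [FiniteDimensional F V] in
theorem Full.smul (h : Full Φ X p) {c : F} (hc : c ≠ 0) : Full Φ X (c • p) :=
  ⟨h.1.smul c, fun _ _ _ hg => h.2 _ _ _ (hg.of_smul h.1 hc)⟩

theorem Full.of_opp (hn : Φ.Nondeg) {z w : V} (h : Full Φ X p) (hz : Full Φ X z) (hpz : Φ.B p z ≠ 0)
    (hw : Φ.Sing w) (hpw : Φ.B p w ≠ 0) : Full Φ X w := by
  obtain ⟨a, -, d, g, hg, e⟩ := exists_isE_apply hn (isPair_smul h.1 hz.1 hpz) (isPair_smul h.1 hw hpw)
  have := ((hz.smul (inv_ne_zero hpz)).map (h.2 _ _ _ hg) hg.mem_isom).smul hpw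
  rwa [e, smul_smul, mul_inv_cancel₀ hpw, one_smul] at this

end Full

/-- The group generated by all Eichler maps. -/
def EG (Φ : Formed σ V) : Subgroup (V ≃ₗ[F] V) := Subgroup.closure {g | ∃ p a d, IsE Φ p a d g}

theorem IsE_mem_EG {p a : V} {d : F} {g : V ≃ₗ[F] V} (h : IsE Φ p a d g) : g ∈ EG Φ :=
  Subgroup.subset_closure ⟨p, a, d, h⟩

theorem EG_le {X : Subgroup (V ≃ₗ[F] V)} (h : ∀ p a d g, IsE Φ p a d g → g ∈ X) : EG Φ ≤ X :=
  (Subgroup.closure_le _).2 fun _ ⟨_, _, _, hg⟩ => h _ _ _ _ hg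

theorem EG_le_isom : EG Φ ≤ Φ.isom := EG_le fun _ _ _ _ h => h.mem_isom

/-- Two opposite full points generate everything. -/
theorem EG_le_of_full [FiniteDimensional F V] (hn : Φ.Nondeg) {X : Subgroup (V ≃ₗ[F] V)} {p z : V}
    (h : Full Φ X p) (hz : Full Φ X z) (hpz : Φ.B p z ≠ 0) : EG Φ ≤ X := by
  refine EG_le fun w a d g hg => ?_
  rcases eq_or_ne w 0 with rfl | hw0
  · rw [show g = 1 from LinearEquiv.ext fun x => by rw [hg.app]; simp]; exact X.one_mem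
  refine (?_ : Full Φ X w).2 _ _ _ hg
  by_cases hpw : Φ.B w p = 0
  · obtain ⟨y, -, hy, h1, h2⟩ := exists_sing_both hn (nondeg_top hn) trivial
      (by rintro rfl; simp at hpz) h.1 trivial hw0 hpw
    exact (h.of_opp hn hz hpz hy h1).of_opp hn h (fun e => h1 (Φ.B_eq_zero_symm e)) hg.sp
      fun e => h2 (Φ.B_eq_zero_symm e)
  · exact h.of_opp hn hz hpz hg.sp fun e => hpw (Φ.B_eq_zero_symm e)

theorem EG_le_of_full' [FiniteDimensional F V] (hn : Φ.Nondeg) {X : Subgroup (V ≃ₗ[F] V)} {p : V}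
    (h : Full Φ X p) {s : V ≃ₗ[F] V} (hs : s ∈ X) (hs' : s ∈ Φ.isom) (hp : Φ.B p (s p) ≠ 0) :
    EG Φ ≤ X := EG_le_of_full hn h (h.map hs hs') hp

end Cfsg.Agent.Root.Mx
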