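import Cfsg.Agent.Root.Max1
import Cfsg.Agent.Geom.OBridge
import Cfsg.Agent.Classical.SUGen
import Cfsg.Agent.Classical.SpGen
import Cfsg.Agent.Classical.SLGen
import Cfsg.Prelude.Def_GeometricClasses

/-! Dictionary for the maximality rows: `max_crit`, `isMaximalIn_of_gl` (matrix groups versus linear
automorphisms), `Sp`, `SU`, `Ω` are the Eichler groups `EG` (`mem_spGL`, `mem_suGL`, `mem_omegaGL`), forms
given as functions as formed spaces; the calculus `HasL` of elements `1 + α` of a linear group, generation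
of `SL` (`SLg_le`, `SLg_le_of_centre`); overgroups of `EG Φ` in `SL` (`sim_or_SLg`). -/

set_option autoImplicit false

namespace Cfsg.Agent.Root.Mx

open Cfsg.Agent.Geom Cfsg.Agent.AutCl Module Matrix

theorem max_crit {G : Type*} [Group G] {K H : Subgroup G} (hle : H ≤ K) (hne : ∃ k ∈ K, k ∉ H)
    (h : ∀ X : Subgroup G, H ≤ X → X ≤ K → ∀ g ∈ X, g ∉ H → K ≤ X) : Geo.IsMaximalIn K H := by
  refine ⟨SetLike.lt_iff_le_and_exists.2 ⟨hle, hne⟩, fun X h1 h2 => ?_⟩
  by_cases hc : X ≤ H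
  · exact Or.inl (le_antisymm hc h1)
  · obtain ⟨g, hg, hg'⟩ := SetLike.not_le_iff_exists.1 hc
    exact Or.inr (le_antisymm h2 (h X h1 h2 g hg hg'))

theorem isMaximalIn_of_equiv {G G' : Type*} [Group G] [Group G'] (e : G ≃* G') {K H : Subgroup G}
    {K' H' : Subgroup G'} (hK : ∀ g, g ∈ K ↔ e g ∈ K') (hH : ∀ g, g ∈ H ↔ e g ∈ H')
    (h : Geo.IsMaximalIn K' H') : Geo.IsMaximalIn K H := by
  obtain ⟨hle, k, hk, hk'⟩ := SetLike.lt_iff_le_and_exists.1 h.1
  refine max_crit (fun g hg => (hK g).2 (hle ((hH g).1 hg)))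
    ⟨e.symm k, by simpa [hK], by simpa [hH]⟩ fun X h1 h2 g hg hg' x hx => ?_
  rcases h.2 (X.comap e.symm.toMonoidHom) (fun y hy => h1 ((hH _).2 (by simpa)))
    (fun y hy => by simpa using (hK _).1 (h2 hy)) with h3 | h3
  · exact absurd ((hH g).2 (h3.le (show _ ∈ X by simpa))) hg'
  · simpa using h3.ge ((hK x).1 hx)

variable {F : Type*} [Field F] {σ : F →+* F} {V : Type*} [AddCommGroup V] [Module F V]
  {Φ : Formed σ V}

/-- The special linear group of a vector space. -/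
noncomputable def SLg (F V : Type*) [Field F] [AddCommGroup V] [Module F V] : Subgroup (V ≃ₗ[F] V) :=
  (LinearEquiv.det : (V ≃ₗ[F] V) →* Fˣ).ker

theorem mem_SLg {g : V ≃ₗ[F] V} : g ∈ SLg F V ↔ LinearMap.det (g : V →ₗ[F] V) = 1 := by
  rw [SLg, MonoidHom.mem_ker, Units.ext_iff, LinearEquiv.coe_det]; rfl

theorem mem_SLg_of_pow [Finite F] {g : V ≃ₗ[F] V} {k : ℕ} (h : g ^ ringChar F ^ k = 1) : g ∈ SLg F V := by
  haveI : Fact (ringChar F).Prime := ⟨CharP.char_is_prime F _⟩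
  have h1 := congrArg (fun x => ((LinearEquiv.det x : Fˣ) : F)) h
  simp only [map_pow, Units.val_pow_eq_pow_val, map_one, Units.val_one] at h1
  exact Units.ext (eq_one_of_pow_char h1)

theorem EG_le_SLg [Finite F] : EG Φ ≤ SLg F V :=
  EG_le fun _ _ _ _ h => mem_SLg_of_pow (h.pow_char (ringChar F))

section Mat
variable {ι : Type} [Fintype ι] [DecidableEq ι]

theorem mem_specialLinear {g : GL ι F} :
    g ∈ Geo.specialLinear ι F ↔ glEquiv ι F g ∈ SLg F (ι → F) := by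
  rw [SLg, MonoidHom.mem_ker, linearEquiv_det_glEquiv]; rfl

theorem mem_spGL {m : ℕ} {g : GL (Fin m ⊕ Fin m) F} :
    g ∈ spGL m F ↔ glEquiv _ F g ∈ EG (sympFormed m F) := by
  refine ⟨fun hg => ?_, fun hg => (mem_sympFormed_isom m F).1 (EG_le_isom hg)⟩
  have := Classical.eq_top_of_spT_mem ((EG (sympFormed m F)).comap
    ((sympFormed m F).isom.subtype.comp (spEquiv m F).toMonoidHom)) fun v c =>
      IsE_mem_EG (p := v) (a := 0) (d := c) ⟨⟨rfl, sympB_isAlt m F v⟩, by simp, by simp [sympFormed, Formed.ofAlt],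
        by simp [sympFormed, Formed.ofAlt], fun x => by
          refine (spEquiv_apply m F _ x).trans ((Classical.spT_smul v c x).trans ?_)
          simp [Classical.sympForm_swap x v]⟩
  have h2 := this.ge (Subgroup.mem_top ((spToSpGL m F).symm ⟨g, hg⟩))
  simp only [spEquiv, Subgroup.mem_comap, MonoidHom.comp_apply, MulEquiv.coe_toMonoidHom,
    MulEquiv.trans_apply, MulEquiv.apply_symm_apply] at h2
  exact h2

theorem EG_symp (m : ℕ) : EG (sympFormed m F) = (sympFormed m F).isom :=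
  le_antisymm EG_le_isom fun g hg => by
    obtain ⟨g, rfl⟩ := (glEquiv _ F).surjective g
    exact mem_spGL.1 ((mem_sympFormed_isom m F).1 hg)

theorem mem_suGL [Fintype F] {n q : ℕ} (hF : Fintype.card F = q ^ 2) (hn : 4 ≤ n) {g : GL (Fin n) F} :
    g ∈ GU n F q ⊓ Geo.specialLinear (Fin n) F ↔ glEquiv _ F g ∈ EG (hermFormed hF n) := by
  haveI := Fact.mk hF
  refine ⟨fun hg => ?_, fun hg => ⟨(mem_hermFormed_isom hF n).1 (EG_le_isom hg),
    mem_specialLinear.2 (EG_le_SLg hg)⟩⟩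
  have := Classical.SU_eq_top_of_suT_mem (Or.inr hn) ((EG (hermFormed hF n)).comap
    ((glEquiv _ F).toMonoidHom.comp (Matrix.SpecialLinearGroup.toGL.comp (SU n F q).subtype)))
    fun v c hv hc => IsE_mem_EG (p := v) (a := 0) (d := -c) ⟨⟨rfl, hv⟩, by simp,
      by simp [hermFormed, Formed.ofHerm], by
        rw [map_neg, map_zero, frobq_apply]; change 1 * _ + _ = _; linear_combination -hc,
      fun x => (Classical.suT_smul v c hv hc x).trans (by simp)⟩
  have h2 := this.ge (Subgroup.mem_top (⟨⟨g.1, congrArg Units.val hg.2⟩, hg.1⟩ : SU n F q))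
  exact (Units.ext rfl : Matrix.SpecialLinearGroup.toGL ⟨g.1, congrArg Units.val hg.2⟩ = g) ▸ h2

theorem EG_herm [Fintype F] {n q : ℕ} (hF : Fintype.card F = q ^ 2) (hn : 4 ≤ n) :
    EG (hermFormed hF n) = (hermFormed hF n).isom ⊓ SLg F _ :=
  le_antisymm (le_inf EG_le_isom EG_le_SLg) fun g hg => by
    obtain ⟨g, rfl⟩ := (glEquiv _ F).surjective g
    exact (mem_suGL hF hn).1 ⟨(mem_hermFormed_isom hF n).1 hg.1, mem_specialLinear.2 hg.2⟩

end Mat

theorem isE_eich {Q : QuadraticForm F V} {p a : V} (hp : Q p = 0) (ha : QuadraticMap.polar Q p a = 0) :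
    IsE (Formed.ofQuad Q) p a (Q a) (eich Q p a).1 :=
  ⟨Formed.sing_ofQuad.2 hp, ha, one_mul _, by
    rw [ofQuad_B_apply, polar_self']; change 1 * Q a + Q a = _; ring, fun x => by
    rw [eich_apply hp ha]; change _ = _ - (1 * _) • _; rw [one_mul]; rfl⟩

theorem IsE_eq_eich {Q : QuadraticForm F V} {p a : V} {d : F} {g : V ≃ₗ[F] V}
    (h : IsE (Formed.ofQuad Q) p a d g) : g = (eich Q p a).1 :=
  (h.congr rfl ((one_mul d).symm.trans h.hQ)).ext (isE_eich h.sp.1 h.pa)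

theorem mem_EG_quad [Finite F] [FiniteDimensional F V] {Q : QuadraticForm F V}
    (hQ : (Formed.ofQuad Q).Nondeg) (hn : 5 ≤ finrank F V) {g : OG Q} :
    g.1 ∈ EG (Formed.ofQuad Q) ↔ g ∈ commutator (OG Q) := by
  rw [← eichGroup_eq_commutator' hQ (notExc_of_finrank (by omega)) (by omega)]
  constructor
  · intro h
    obtain ⟨k, hk, e⟩ := EG_le (X := (eichGroup Q).map (OG Q).subtype)
      (fun p a d g hg => ⟨_, eich_mem_eichGroup p a, (IsE_eq_eich hg).symm⟩) h
    exact Subtype.ext e ▸ hk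
  · intro h
    refine eichGroup_le (N := (EG (Formed.ofQuad Q)).comap (OG Q).subtype) (fun p a => ?_) h
    by_cases hc : Q p = 0 ∧ QuadraticMap.polar Q p a = 0
    · exact IsE_mem_EG (isE_eich hc.1 hc.2)
    · rw [eich_of_not hc]; exact one_mem _

section Mat
variable {ι : Type} [Fintype ι] [DecidableEq ι]

theorem mem_omegaGL [Finite F] {Q : QuadraticForm F (ι → F)} (hQ : (Formed.ofQuad Q).Nondeg)
    (hn : 5 ≤ Fintype.card ι) {g : GL ι F} :
    g ∈ Geo.omegaGL ⇑Q ↔ glEquiv _ F g ∈ EG (Formed.ofQuad Q) := by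
  constructor
  · rintro ⟨k, hk, rfl⟩
    exact (mem_EG_quad hQ (by simpa)).2 ((mem_Omega_iff k).1 hk)
  · intro h
    have h1 : g ∈ isometryGroup F ⇑Q := mem_isometryGroup.2 (EG_le_isom h).2
    exact ⟨⟨g, h1⟩, (mem_Omega_iff _).2 ((mem_EG_quad hQ (by simpa)).1 h), rfl⟩

omit [DecidableEq ι] in
theorem exists_quad {Q : (ι → F) → F} (hQ : Geo.IsNondegenerateQuadraticForm Q) :
    ∃ Q' : QuadraticForm F (ι → F), ⇑Q' = Q ∧ (Formed.ofQuad Q').Nondeg := by
  have hb := hQ.polar_bilinear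
  refine ⟨QuadraticMap.mk Q (fun a x => by rw [hQ.smul, smul_eq_mul, sq])
    ⟨LinearMap.mk₂ F (QuadraticMap.polar Q) hb.add_left hb.smul_left hb.add_right
      (fun c x y => hb.smul_right c x y), fun x y => by simp [QuadraticMap.polar]⟩, rfl, fun x hx => ?_⟩
  by_contra h0
  obtain ⟨y, hy⟩ := (hQ.nondegenerate x h0).2
  exact hy (hx y)

omit [DecidableEq ι] in
theorem exists_symp {f : (ι → F) → (ι → F) → F} (hf : Geo.IsSymplecticForm f) :
    ∃ Φ : Formed (RingHom.id F) (ι → F), Φ.Nondeg ∧ ∀ u v, Φ.B u v = f u v := by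
  have hb := hf.bilinear
  refine ⟨Formed.ofAlt (LinearMap.mk₂ F f hb.add_left hb.smul_left hb.add_right
    (fun c x y => hb.smul_right c x y)) hf.alternating, fun x hx => ?_, fun _ _ => rfl⟩
  by_contra h0
  obtain ⟨y, hy⟩ := (hf.nondegenerate x h0).2
  exact hy (hx y)

omit [DecidableEq ι] in
theorem exists_herm {σ : F ≃+* F} {f : (ι → F) → (ι → F) → F} (hf : Geo.IsUnitaryForm σ f) :
    ∃ Φ : Formed (σ : F →+* F) (ι → F), Φ.Nondeg ∧ ∀ u v, Φ.B u v = f v u := by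
  refine ⟨Formed.ofHerm (fun h => hf.ne_refl (RingEquiv.ext fun a => congrArg (fun s => s a) h))
    hf.involutive (LinearMap.mk₂'ₛₗ (σ : F →+* F) (RingHom.id F) (fun u v => f v u)
      (fun a b c => by rw [hf.herm c, hf.add_left, map_add, ← hf.herm, ← hf.herm])
      (fun c a b => by rw [hf.herm b, hf.smul_left, map_mul, ← hf.herm]; rfl)
      (fun a b c => hf.add_left _ _ _) (fun c a b => hf.smul_left _ _ _))
    ⟨fun x y => (hf.herm x y).symm⟩, fun x hx => ?_, fun _ _ => rfl⟩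
  by_contra h0
  obtain ⟨y, hy⟩ := (hf.nondegenerate x h0).1
  exact hy (hx y)

end Mat

/-! ### Elements `1 + α` of a linear group -/

/-- `1 + α` lies in `X`. -/
def HasL (X : Subgroup (V ≃ₗ[F] V)) (α : Module.End F V) : Prop :=
  ∃ g ∈ X, (g : Module.End F V) = 1 + α

namespace HasL
variable {X : Subgroup (V ≃ₗ[F] V)} {α β : Module.End F V}

theorem of_apply {g : V ≃ₗ[F] V} (hg : g ∈ X) (h : ∀ v, g v = v + α v) : HasL X α :=
  ⟨g, hg, LinearMap.ext h⟩

theorem exists_apply (h : HasL X α) : ∃ g ∈ X, ∀ v, g v = v + α v :=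
  let ⟨g, h1, h2⟩ := h; ⟨g, h1, fun v => LinearMap.congr_fun h2 v⟩

theorem mem (h : HasL X α) {g : V ≃ₗ[F] V} (hg : ∀ v, g v = v + α v) : g ∈ X :=
  let ⟨k, h1, h2⟩ := h.exists_apply
  (LinearEquiv.ext fun v => by rw [h2, hg] : k = g) ▸ h1

theorem zero : HasL X 0 := ⟨1, X.one_mem, by rw [add_zero]; rfl⟩

theorem congr (h : HasL X α) (e : ∀ v, α v = β v) : HasL X β := LinearMap.ext e ▸ h

theorem mul (h : HasL X α) (h' : HasL X β) : HasL X (α + β + α * β) :=
  let ⟨g, h1, h2⟩ := h; let ⟨k, h3, h4⟩ := h'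
  ⟨g * k, X.mul_mem h1 h3, by
    rw [LinearEquiv.coe_toLinearMap_mul, h2, h4]; noncomm_ring⟩

theorem add (h : HasL X α) (h' : HasL X β) (e : α * β = 0) : HasL X (α + β) := by
  simpa [e] using h.mul h'

theorem neg (h : HasL X α) (e : α * α = 0) : HasL X (-α) := by
  obtain ⟨g, h1, h2⟩ := h.exists_apply
  refine of_apply (X.inv_mem h1) fun v => ?_
  rw [LinearEquiv.coe_inv, LinearEquiv.symm_apply_eq, h2]
  simp [show α (α v) = 0 from LinearMap.congr_fun e v]

theorem conj (h : HasL X α) {s : V ≃ₗ[F] V} (hs : s ∈ X) (e : ∀ v, β (s v) = s (α v)) : HasL X β := by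
  obtain ⟨g, h1, h2⟩ := h.exists_apply
  refine of_apply (X.mul_mem (X.mul_mem hs h1) (X.inv_mem hs)) fun v => ?_
  obtain ⟨v, rfl⟩ := s.surjective v
  simp [h2, e]

theorem comm (h : HasL X α) (h' : HasL X β) (ea : α * α = 0) (eb : β * β = 0) (e : β * α = 0) :
    HasL X (α * β) := by
  convert ((h.mul h').mul (h.neg ea)).mul (h'.neg eb) using 1
  have e1 : α * β * α = 0 := by rw [mul_assoc, e, mul_zero]
  have e2 : α * β * β = 0 := by rw [mul_assoc, eb, mul_zero]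
  simp only [add_mul, mul_neg, neg_mul, ea, eb, e, e1, e2]
  noncomm_ring

end HasL

/-- The rank one map `v ↦ φ(v) p`. -/
abbrev rk1 (p : V) (φ : Dual F V) : Module.End F V := φ.smulRight p

theorem rk1_mul (p q : V) (φ ψ : Dual F V) : rk1 p φ * rk1 q ψ = rk1 (φ q • p) ψ := by
  ext v; simp [smul_smul, mul_comm]

theorem rk1_mul_zero {p q : V} {φ ψ : Dual F V} (h : φ q = 0) : rk1 p φ * rk1 q ψ = 0 := by
  ext v; simp [h]

theorem HasL.conj_rk1 {X : Subgroup (V ≃ₗ[F] V)} {p : V} {φ : Dual F V} (h : HasL X (rk1 p φ))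
    {s : V ≃ₗ[F] V} (hs : s ∈ X) : HasL X (rk1 (s p) (φ ∘ₗ (s.symm : V →ₗ[F] V))) :=
  h.conj hs fun v => by simp

theorem hasL_tv {X : Subgroup (V ≃ₗ[F] V)} {p : V} {φ : Dual F V} (h : φ p = 0)
    (hX : LinearEquiv.transvection h ∈ X) : HasL X (rk1 p φ) :=
  HasL.of_apply hX fun v => LinearEquiv.transvection.apply h v

theorem tv_mem_SLg [FiniteDimensional F V] {p : V} {φ : Dual F V} (h : φ p = 0) :
    LinearEquiv.transvection h ∈ SLg F V := LinearEquiv.transvection.det_eq_one h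

/-- The centres all of whose transvections lie in `X`. -/
def centres (X : Subgroup (V ≃ₗ[F] V)) : Submodule F V where
  carrier := {p | ∀ φ : Dual F V, φ p = 0 → HasL X (rk1 p φ)}
  zero_mem' := fun φ _ => HasL.zero.congr (by simp)
  smul_mem' := fun c p hp φ h => (hp (c • φ) (by simpa using h)).congr fun v => by
    simp [smul_smul, mul_comm]
  add_mem' := fun {p q} hp hq φ h => by
    by_cases hc : q ∈ F ∙ p
    · obtain ⟨c, rfl⟩ := Submodule.mem_span_singleton.1 hc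
      exact (hp ((1 + c) • φ) (by simpa [add_mul] using h)).congr fun v => by
        simp only [LinearMap.smulRight_apply, LinearMap.smul_apply, smul_eq_mul]; module
    · obtain ⟨ψ, h1, h2⟩ := Submodule.exists_le_ker_of_notMem hc
      have h2 : ψ p = 0 := h2 (Submodule.mem_span_singleton_self p)
      obtain ⟨s, hs, e⟩ := (hp ((ψ q)⁻¹ • ψ) (by simp [h2])).exists_apply
      have e1 : s q = p + q := by rw [e, add_comm]; simp [h1]
      refine (hq (φ ∘ₗ (s : V →ₗ[F] V)) (by simpa [e1] using h)).conj hs fun v => by simp [e1]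

theorem map_mem_centres {X : Subgroup (V ≃ₗ[F] V)} {p : V} (hp : p ∈ centres X) {s : V ≃ₗ[F] V}
    (hs : s ∈ X) : s p ∈ centres X := fun φ h =>
  (hp (φ ∘ₗ (s : V →ₗ[F] V)) h).conj hs fun v => by simp

theorem SLg_le {ι : Type} [Fintype ι] [DecidableEq ι] {X : Subgroup ((ι → F) ≃ₗ[F] (ι → F))}
    (h : ∀ p, p ∈ centres X) : SLg F (ι → F) ≤ X := fun g hg => by
  obtain ⟨g, rfl⟩ := (glEquiv ι F).surjective g
  have := Classical.eq_top_of_transvection_mem (X.comap ((glEquiv ι F).toMonoidHom.comp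
    Matrix.SpecialLinearGroup.toGL)) fun i j hij c =>
      (h (Pi.single i c) (LinearMap.proj j) (by simp [hij.symm])).mem fun v => by
        change (Matrix.transvection i j c) *ᵥ v = _
        ext k
        simp [Matrix.transvection, add_mulVec, single_mulVec, Pi.single_apply, Function.update_apply, mul_comm]
  let k : Matrix.SpecialLinearGroup ι F := ⟨g.1, congrArg Units.val (mem_specialLinear.2 hg)⟩
  have h2 := this.ge (Subgroup.mem_top k)
  exact (Units.ext rfl : Matrix.SpecialLinearGroup.toGL k = g) ▸ h2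

section Sim
variable [Finite F] [FiniteDimensional F V]

theorem rich (h5 : 5 ≤ finrank F V) : Rich Φ := fun a b _ => by
  obtain ⟨c, -, h0, hs, h⟩ := exists_sing_pf Φ ![a, b] (U := ⊤) (R := ⊥) (by simpa)
  exact Or.inr ⟨c, by simpa using h0, hs, h 0, h 1⟩

/-- Additive subgroups invariant under the Eichler maps with data in `x^⊥`. -/
theorem perp_le_of_inv (hn : Φ.Nondeg) (h5 : 5 ≤ finrank F V) {x : V} (hx0 : x ≠ 0) (hx : Φ.Sing x)
    (A : AddSubgroup V) (hA : ∀ y z d g, Φ.B x y = 0 → Φ.B x z = 0 → IsE Φ y z d g → ∀ a ∈ A, g a ∈ A)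
    {w : V} (hw : w ∈ A) (hxw : Φ.B x w = 0) (hw' : w ∉ F ∙ x) : ∀ a, Φ.B x a = 0 → a ∈ A := by
  obtain ⟨r, hr⟩ := hn.exists_isPair hx0 hx
  have hd := hr.finrank_pairPerp hn
  have hW := hr.nondeg_pairPerp hn
  have dec : ∀ a, Φ.B x a = 0 → ∃ c : F, ∃ w ∈ Φ.pairPerp x r, a = c • x + w := fun a ha =>
    ⟨Φ.ε * Φ.B r a, _, hr.sub_mem_pairPerp a, by simp [ha]⟩
  have h1 := le_of_inv hn hW (by omega) A (fun y hy z hz d g => hA y z d g (Φ.mem_pairPerp.1 hy).1
    (Φ.mem_pairPerp.1 hz).1) hw (by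
      obtain ⟨c, w', hw1, rfl⟩ := dec w hxw
      by_contra! hc
      refine hw' ?_
      rw [Φ.restrict_nondeg_iff'.1 hW w' hw1 fun v hv => Φ.B_eq_zero_symm (by
        simpa [Φ.B_eq_zero_symm (Φ.mem_pairPerp.1 hv).1] using hc v hv), add_zero]
      exact Submodule.smul_mem _ _ (Submodule.mem_span_singleton_self x))
  intro a ha
  obtain ⟨c, w', hw1, rfl⟩ := dec a ha
  obtain ⟨e, he, f, hf, hef⟩ := exists_pair hn hW (by omega)
  obtain ⟨d, g, hg⟩ := exists_isE' hn hx (Φ.mem_pairPerp.1 he).1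
  have hf' := Submodule.smul_mem _ c hf
  have := A.sub_mem (hA x e d g hx.2 hg.pa hg _ (h1 _ hf')) (h1 _ hf')
  rw [hg.apply_perp (Φ.mem_pairPerp.1 hf').1, Φ.B_smul_right, hef.ef, mul_one, add_sub_cancel_left] at this
  exact A.add_mem this (h1 _ hw1)

theorem centres_of_tv (hn : Φ.Nondeg) (h5 : 5 ≤ finrank F V) {X : Subgroup (V ≃ₗ[F] V)} (hX : EG Φ ≤ X)
    {x w : V} (hx0 : x ≠ 0) (hx : Φ.Sing x) (hxw : Φ.B x w = 0) (hw : w ∉ F ∙ x)
    (h : HasL X (rk1 x (Φ.B w))) : ∀ p, p ∈ centres X := by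
  let A : AddSubgroup V :=
    { carrier := {w | Φ.B w x = 0 ∧ HasL X (rk1 x (Φ.B w))}
      zero_mem' := ⟨by simp, HasL.zero.congr (by simp)⟩
      add_mem' := fun ha hb => ⟨by simp [ha.1, hb.1],
        (ha.2.add hb.2 (rk1_mul_zero ha.1)).congr fun v => by simp [add_smul]⟩
      neg_mem' := fun ha => ⟨by simp [ha.1], (ha.2.neg (rk1_mul_zero ha.1)).congr fun v => by simp⟩ }
  have h1 := perp_le_of_inv hn h5 hx0 hx A (fun y z d g h1 h2 hg a ha => by
    have e : g x = x := by rw [hg.apply_perp (Φ.B_eq_zero_symm h1), Φ.B_eq_zero_symm h2]; simp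
    exact ⟨by rw [← e, hg.mem_isom.1, ha.1], ha.2.conj (hX (IsE_mem_EG hg)) fun v => by
      simp [hg.mem_isom.1, e]⟩) ⟨Φ.B_eq_zero_symm hxw, h⟩ hxw hw
  have h2 : x ∈ centres X := fun φ hφ => by
    obtain ⟨a, rfl⟩ := hn.exists_eq_B φ
    exact (h1 a (Φ.B_eq_zero_symm hφ)).2
  exact fun p => le_of_inv hn (nondeg_top hn) (by simp; omega) (centres X).toAddSubgroup
    (fun _ _ _ _ _ _ hg _ ha => map_mem_centres ha (hX (IsE_mem_EG hg))) h2
    (let ⟨y, hy⟩ := hn.exists_ne hx0; ⟨y, trivial, fun e => hy (Φ.B_eq_zero_symm e)⟩) p trivial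

omit [Finite F] [FiniteDimensional F V] in
theorem hasL_siegel {X : Subgroup (V ≃ₗ[F] V)} {x y : V} (h : HasE Φ X x y 0) :
    HasL X (rk1 x (Φ.B y) - Φ.ε • rk1 y (Φ.B x)) :=
  let ⟨_, h1, h2⟩ := h; HasL.of_apply h1 fun v => by simp [h2.app, smul_smul, add_sub_assoc]

omit [Finite F] in
theorem hasE_of_EG (hn : Φ.Nondeg) {X : Subgroup (V ≃ₗ[F] V)} (hX : EG Φ ≤ X) {x y : V} (hx : Φ.Sing x)
    (hy : Φ.Sing y) (h : Φ.B x y = 0) : HasE Φ X x y 0 :=
  let ⟨g, hg⟩ := exists_isE0 hn hx hy h; ⟨g, hX (IsE_mem_EG hg), hg⟩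

/-- An overgroup of `EG Φ` consists of similarities or contains all transvections. -/
theorem sim_or_centres (hn : Φ.Nondeg) (h10 : 10 ≤ finrank F V) {X : Subgroup (V ≃ₗ[F] V)}
    (hX : EG Φ ≤ X) {g : V ≃ₗ[F] V} (hg : g ∈ X) :
    (∀ p, p ∈ centres X) ∨ ∃ c, ∀ u v, Φ.B (g u) (g v) = c * Φ.B u v := by
  refine or_iff_not_imp_left.2 fun hc => ?_
  have key : ∀ u v, Φ.Sing u → Φ.Sing v → Φ.B u v = 0 → v ∉ F ∙ u →
      ∃ a b : F, ∀ t, Φ.B (g u) (g t) = Φ.B (a • v + b • u) t := by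
    intro u v hu hv huv hvu
    obtain ⟨w, hw⟩ := hn.exists_eq_B (Φ.B v ∘ₗ (g.symm : V →ₗ[F] V))
    obtain ⟨z, hz⟩ := hn.exists_eq_B (Φ.B u ∘ₗ (g.symm : V →ₗ[F] V))
    have hw : ∀ t, Φ.B w (g t) = Φ.B v t := fun t => by simp [hw]
    have hz : ∀ t, Φ.B z (g t) = Φ.B u t := fun t => by simp [hz]
    by_cases hp : g u ∈ Submodule.span F {w, z}
    · obtain ⟨a, b, e⟩ := Submodule.mem_span_pair.1 hp
      exact ⟨a, b, fun t => by simp only [← e, Φ.B_add_left, Φ.B_smul_left, hw, hz]⟩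
    exfalso
    obtain ⟨y₀, -, h1, h2⟩ := sep hn (nondeg_top hn) le_top trivial hp
    rw [Φ.mem_perp_span] at h1
    obtain ⟨y, -, hy, h3⟩ := room hn (nondeg_top hn) ![w, z, g u] (by simp; omega) (x₀ := y₀) trivial
    have hwy : Φ.B w y = 0 := (h3 0).trans (h1 w (by simp))
    have hzy : Φ.B z y = 0 := (h3 1).trans (h1 z (by simp))
    have hpy : Φ.B y (g u) ≠ 0 := fun e => by
      have := Φ.B_eq_zero_symm e
      rw [show Φ.B (g u) y = 1 from (h3 2).trans h2] at this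
      exact one_ne_zero this
    obtain ⟨x, -, hxR, hx, h4⟩ := exists_sing_pf Φ ![w, z, y, g u, g v] (U := ⊤)
      (R := Submodule.span F (Set.range ![w, z])) (by have := finrank_span_fam (F := F) ![w, z]; simp; omega)
    have hwx : Φ.B w x = 0 := h4 0
    have hzx : Φ.B z x = 0 := h4 1
    have hxy : Φ.B x y = 0 := Φ.B_eq_zero_symm (h4 2)
    have hxp : Φ.B x (g u) = 0 := Φ.B_eq_zero_symm (h4 3)
    have hxq : Φ.B x (g v) = 0 := Φ.B_eq_zero_symm (h4 4)
    have hβ : HasL X (rk1 (g u) (Φ.B w) - Φ.ε • rk1 (g v) (Φ.B z)) :=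
      (hasL_siegel (hasE_of_EG hn hX hu hv huv)).conj hg fun t => by simp [hw, hz]
    have := (hasL_siegel (hasE_of_EG hn hX hx hy hxy)).comm hβ
      (by ext t; simp [hx.2, hy.2, hxy, Φ.B_eq_zero_symm hxy])
      (by ext t; simp [hw, hz, hu.2, hv.2, huv, Φ.B_eq_zero_symm huv])
      (by ext t; simp [hwx, hzx, hwy, hzy])
    refine hc (centres_of_tv hn (by omega) hX (by rintro rfl; simp at hxR) hx
      (w := σ (Φ.B y (g u)) • w - σ (Φ.ε * Φ.B y (g v)) • z)
      (by simp [Φ.B_eq_zero_symm hwx, Φ.B_eq_zero_symm hzx]) (fun hm => ?_) (this.congr fun t => ?_))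
    · obtain ⟨c, e⟩ := Submodule.mem_span_singleton.1 hm
      rcases eq_or_ne c 0 with rfl | hc0
      · refine hvu (Submodule.mem_span_singleton.2 ⟨σ (Φ.ε * Φ.B y (g v) / Φ.B y (g u)), hn.ext fun t => ?_⟩)
        have := congrArg (Φ.B · (g t)) e
        simp only [zero_smul, map_zero, LinearMap.zero_apply, Φ.B_sub_left, Φ.B_smul_left, Φ.σσ, hw, hz] at this
        rw [Φ.B_smul_left, Φ.σσ]
        field_simp
        linear_combination this
      · refine hxR ((Submodule.smul_mem_iff _ hc0).1 (e ▸ Submodule.sub_mem _ ?_ ?_)) <;>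
          exact Submodule.smul_mem _ _ (Submodule.subset_span (by simp))
    · simp only [Module.End.mul_apply, LinearMap.sub_apply, LinearMap.smulRight_apply, LinearMap.smul_apply,
        map_sub, map_smul, hxp, hxq, Φ.B_smul_left, Φ.σσ, smul_eq_mul]
      module
  choose f hf using fun u => hn.exists_eq_B (Φ.B (g u) ∘ₗ (g : V →ₗ[F] V))
  have hf : ∀ u t, Φ.B (f u) t = Φ.B (g u) (g t) := fun u t => by simp [hf]
  obtain ⟨a, -, b, -, hab⟩ := exists_pair hn (nondeg_top hn) (by simp; omega)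
  obtain ⟨ν, hν⟩ := (rich (Φ := Φ) (by omega)).scalar hab (AddMonoidHom.mk' f fun x y =>
    hn.ext fun t => by simp [hf]) fun u hu => by
      obtain ⟨v, -, hv1, hv, h1⟩ := exists_sing_pf Φ ![u] (U := ⊤) (R := Submodule.span F (Set.range ![u]))
        (by have := finrank_span_fam (F := F) ![u]; simp; omega)
      obtain ⟨v', -, hv1', hv', h1'⟩ := exists_sing_pf Φ ![u] (U := ⊤)
        (R := Submodule.span F (Set.range ![u, v])) (by have := finrank_span_fam (F := F) ![u, v]; simp; omega)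
      obtain ⟨a, b, e⟩ := key u v hu hv (h1 0) (by simpa using hv1)
      obtain ⟨a', b', e'⟩ := key u v' hu hv' (h1' 0) fun h => hv1' (Submodule.span_mono (by simp) h)
      have e2 := hn.ext fun t => (e t).symm.trans (e' t)
      have ha : a' = 0 := by
        by_contra h0
        refine hv1' ((Submodule.smul_mem_iff _ h0).1 ?_)
        rw [← sub_eq_iff_eq_add] at e2
        refine e2 ▸ Submodule.sub_mem _ (Submodule.add_mem _ ?_ ?_) ?_ <;>
          exact Submodule.smul_mem _ _ (Submodule.subset_span (by simp))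
      refine ⟨b', fun c => hn.ext fun t => ?_⟩
      simp only [AddMonoidHom.mk'_apply, hf, map_smul, Φ.B_smul_left, e', ha, zero_smul, zero_add]
      ring
  exact ⟨σ ν, fun u v => by rw [← hf, ← Φ.B_smul_left, ← hν]; rfl⟩

/-- The similarities of the sesquilinear form. -/
def simB (Φ : Formed σ V) : Subgroup (V ≃ₗ[F] V) where
  carrier := {g | ∃ c : Fˣ, ∀ u v, Φ.B (g u) (g v) = c * Φ.B u v}
  one_mem' := ⟨1, by simp⟩
  mul_mem' := fun ⟨c, hc⟩ ⟨d, hd⟩ => ⟨c * d, fun u v => by simp [hc, hd, mul_assoc]⟩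
  inv_mem' := fun {g} ⟨c, hc⟩ => ⟨c⁻¹, fun u v => by
    have := hc (g.symm u) (g.symm v)
    simp only [LinearEquiv.apply_symm_apply] at this
    simp [this]⟩

theorem isMaximalIn_simB {ι : Type} [Fintype ι] [DecidableEq ι] {Φ : Formed σ (ι → F)} (hn : Φ.Nondeg)
    (h10 : 10 ≤ Fintype.card ι) : Geo.IsMaximalIn (SLg F (ι → F)) (simB Φ ⊓ SLg F (ι → F)) := by
  obtain ⟨a, -, b, -, hab⟩ := exists_pair hn (nondeg_top hn) (by simp; omega)
  refine max_crit inf_le_right ?_ fun X h1 h2 g hg hg' => ?_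
  · obtain ⟨x, ⟨-, hx⟩, hx0⟩ := exists_notMem_of_lt (U := ⊤ ⊓ pf Φ ![a, b]) (R := ⊥) (by
      have := finrank_pf (Φ := Φ) ![a, b] ⊤
      simp only [finrank_top, finrank_bot, Module.finrank_pi] at this ⊢; omega)
    have hax : Φ.B a x = 0 := mem_pf.1 hx 0
    have hbx : Φ.B b x = 0 := mem_pf.1 hx 1
    obtain ⟨y, -, h3, h4⟩ := sep hn (nondeg_top hn) (S := Submodule.span F {a, b}) le_top trivial (p := x)
      fun h => by
        obtain ⟨s, t, rfl⟩ := Submodule.mem_span_pair.1 h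
        simp [hab.se.2, hab.sf.2, hab.ef, hab.fe, Φ.ε_ne_zero] at hax hbx
        simp [hax, hbx] at hx0
    rw [Φ.mem_perp_span] at h3
    have hay := h3 a (by simp)
    have hby := h3 b (by simp)
    refine ⟨_, tv_mem_SLg hax, fun ⟨⟨c, hc⟩, _⟩ => ?_⟩
    have := hc b y
    simp [LinearMap.transvection.apply, hab.ef, hay, hby, h4] at this
  · refine (sim_or_centres hn (by simpa) (fun k hk => h1 ⟨⟨1, fun u v => by
      simp [(EG_le_isom hk).1]⟩, EG_le_SLg hk⟩) hg).elim SLg_le fun ⟨c, hc⟩ => ?_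
    refine absurd ⟨⟨Units.mk0 c fun h0 => ?_, hc⟩, h2 hg⟩ hg'
    exact hab.left_ne_zero (by
      simpa using hn (g a) fun y => by simpa [h0] using hc a (g.symm y))

end Sim

end Cfsg.Agent.Root.Mx
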