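import Cfsg.Agent.Root.Max2
import Cfsg.Agent.Geom.Family
import Cfsg.Agent.Classical.GUCard

/-! Stabilisers `dstab D` of decompositions (`Dec`), and maximality of the stabiliser of a pair of
complementary totally singular subspaces in `EG Φ` (`isMaximalIn_tsPair`, type `GL_m.2`). -/

set_option autoImplicit false

namespace Cfsg.Agent.Root.Mx

open Cfsg.Agent.Geom Cfsg.Agent.AutCl Module

theorem isMaximalIn_inf {G G' : Type*} [Group G] [Group G'] (e : G ≃* G') {K H : Subgroup G}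
    {K' H' : Subgroup G'} (h : Geo.IsMaximalIn K' (H' ⊓ K')) (hK : ∀ g, g ∈ K ↔ e g ∈ K')
    (hH : ∀ g, g ∈ H ↔ e g ∈ H') : Geo.IsMaximalIn K (H ⊓ K) :=
  isMaximalIn_of_equiv (H' := H' ⊓ K') e hK (fun g => and_congr (hH g) (hK g)) h

variable {F : Type*} [Field F] {σ : F →+* F} {V : Type*} [AddCommGroup V] [Module F V]
  {Φ : Formed σ V}

theorem exch {S : Submodule F V} {c z : V} (h : c ∈ S ⊔ F ∙ z) (hc : c ∉ S) : z ∈ S ⊔ F ∙ c := by
  obtain ⟨s, hs, _, hz, rfl⟩ := Submodule.mem_sup.1 h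
  obtain ⟨t, rfl⟩ := Submodule.mem_span_singleton.1 hz
  have ht : t ≠ 0 := by rintro rfl; simp [hs] at hc
  exact Submodule.mem_sup.2 ⟨-(t⁻¹ • s), S.neg_mem (S.smul_mem _ hs), t⁻¹ • (s + t • z),
    Submodule.smul_mem _ _ (Submodule.mem_span_singleton_self _), by simp [smul_smul, ht]⟩

theorem mem_sup_self (S : Submodule F V) (c : V) : c ∈ S ⊔ F ∙ c :=
  Submodule.mem_sup_right (Submodule.mem_span_singleton_self _)

theorem finrank_span_one (x : V) : finrank F (F ∙ x) ≤ 1 := by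
  rcases eq_or_ne x 0 with rfl | h
  · rw [Submodule.span_zero_singleton, finrank_bot]; omega
  · rw [finrank_span_singleton h]

theorem finrank_sup_one [FiniteDimensional F V] (S : Submodule F V) (x : V) :
    finrank F ↥(S ⊔ F ∙ x) ≤ finrank F S + 1 := by
  have := Submodule.finrank_add_le_finrank_add_finrank S (F ∙ x)
  have := finrank_span_one (F := F) x
  omega

theorem exists_mem_notMem [FiniteDimensional F V] {U S : Submodule F V} {k : ℕ} (s : Fin k → V)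
    (h : finrank F S + k < finrank F ↥(U ⊔ S)) : ∃ x ∈ U, x ∉ S ∧ ∀ i, Φ.B (s i) x = 0 := by
  have h1 := Submodule.finrank_sup_add_finrank_inf_eq U S
  have h2 := finrank_pf (Φ := Φ) s U
  obtain ⟨x, hx, hx'⟩ := exists_notMem_of_lt (U := U ⊓ pf Φ s) (R := U ⊓ S) (by omega)
  exact ⟨x, hx.1, fun h => hx' ⟨hx.1, h⟩, mem_pf.1 hx.2⟩

/-! ### Decompositions -/

/-- The stabiliser of a family of subspaces. -/
def dstab {t : ℕ} (D : Fin t → Submodule F V) : Subgroup (V ≃ₗ[F] V) where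
  carrier := {g | ∃ s : Equiv.Perm (Fin t), ∀ i, (D i).map (g : V →ₗ[F] V) = D (s i)}
  mul_mem' := fun {a b} ⟨s, hs⟩ ⟨r, hr⟩ => ⟨r.trans s, fun i => by
    rw [show ((a * b : V ≃ₗ[F] V) : V →ₗ[F] V) = (a : V →ₗ[F] V) ∘ₗ b from rfl, Submodule.map_comp,
      hr, hs, Equiv.trans_apply]⟩
  one_mem' := ⟨1, fun i => Submodule.map_id _⟩
  inv_mem' := fun {a} ⟨s, hs⟩ => ⟨s.symm, fun i => by
    have h := hs (s.symm i)
    rw [Equiv.apply_symm_apply] at h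
    rw [← h, ← Submodule.map_comp]
    convert Submodule.map_id _
    ext; simp⟩

theorem mem_decompositionStabilizer {ι : Type} [Fintype ι] [DecidableEq ι] {t : ℕ}
    {D : Fin t → Submodule F (ι → F)} {g : GL ι F} :
    g ∈ Geo.decompositionStabilizer D ↔ glEquiv ι F g ∈ dstab D := Iff.rfl

/-- A decomposition into subspaces of dimension `k`. -/
structure Dec {t : ℕ} (k : ℕ) (D : Fin t → Submodule F V) : Prop where
  two_le : 2 ≤ t
  pos : 0 < k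
  rk : ∀ i, finrank F (D i) = k
  indep : iSupIndep D
  top : iSup D = ⊤

theorem dec_of {ι : Type} {t k : ℕ} {D : Fin t → Submodule F (ι → F)}
    (h : Geo.IsMDecomposition k D) : Dec k D := ⟨h.1, h.2, h.3, h.4, h.5⟩

section Dec
variable {t k : ℕ} {D : Fin t → Submodule F V}

theorem Dec.eq_zero (h : Dec k D) {i j : Fin t} (hij : i ≠ j) {x : V} (hi : x ∈ D i) (hj : x ∈ D j) :
    x = 0 := Submodule.disjoint_def.1 (h.indep.pairwiseDisjoint hij) x hi hj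

theorem Dec.exists_ne (h : Dec k D) (i : Fin t) : ∃ x ∈ D i, x ≠ 0 :=
  Submodule.exists_mem_ne_zero_of_ne_bot fun hc => by
    have := h.rk i; rw [hc, finrank_bot] at this; exact h.pos.ne this

theorem Dec.mem_dstab [FiniteDimensional F V] (h : Dec k D) {g : V ≃ₗ[F] V}
    (hg : ∀ i, ∃ j, ∀ x ∈ D i, g x ∈ D j) : g ∈ dstab D := by
  choose τ hτ using hg
  have h1 : ∀ i, (D i).map (g : V →ₗ[F] V) = D (τ i) := fun i =>
    Submodule.eq_of_le_of_finrank_eq (by rintro _ ⟨x, hx, rfl⟩; exact hτ i x hx)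
      (by rw [LinearEquiv.finrank_map_eq, h.rk, h.rk])
  refine ⟨Equiv.ofBijective τ (Finite.injective_iff_bijective.1 fun i j hij => ?_), h1⟩
  by_contra hc
  obtain ⟨x, hx, hx0⟩ := h.exists_ne i
  obtain ⟨y, hy, e⟩ : g x ∈ (D j).map (g : V →ₗ[F] V) := by rw [h1, ← hij]; exact hτ i x hx
  exact hx0 (h.eq_zero hc hx (g.injective e ▸ hy))

theorem exists_of_dstab {g : V ≃ₗ[F] V} (hg : g ∈ dstab D) (i : Fin t) :
    ∃ j, ∀ x ∈ D i, g x ∈ D j :=
  let ⟨s, hs⟩ := hg; ⟨s i, fun x hx => hs i ▸ ⟨x, hx, rfl⟩⟩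

theorem Dec.isCompl {D : Fin 2 → Submodule F V} (hD : Dec k D) : IsCompl (D 0) (D 1) :=
  ⟨hD.indep.pairwiseDisjoint (by decide), codisjoint_iff.2 (by
    rw [← hD.top]; exact le_antisymm (sup_le (le_iSup D 0) (le_iSup D 1))
      (iSup_le (Fin.forall_fin_two.2 ⟨le_sup_left, le_sup_right⟩)))⟩

end Dec

/-! ### A pair of complementary totally singular subspaces -/

/-- Complementary totally singular subspaces, whose mixed Siegel maps lie in `X`. -/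
structure TSP (Φ : Formed σ V) (X : Subgroup (V ≃ₗ[F] V)) (U U' : Submodule F V) : Prop where
  c : IsCompl U U'
  l : Φ.TotSing U
  r : Φ.TotSing U'
  e : ∀ x ∈ U, ∀ y ∈ U', Φ.B x y = 0 → HasE Φ X x y 0

theorem TotSing.sing {U : Submodule F V} (h : Φ.TotSing U) {x : V} (hx : x ∈ U) : Φ.Sing x :=
  ⟨h.2 x hx, h.1 x hx x hx⟩

theorem ε_smul_smul (x : V) : Φ.ε • Φ.ε • x = x := by rw [smul_smul, Φ.εε, one_smul]

namespace TSP
variable {X : Subgroup (V ≃ₗ[F] V)} {U U' A A' : Submodule F V}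

theorem symm (h : TSP Φ X U U') : TSP Φ X U' U :=
  ⟨h.c.symm, h.r, h.l, fun x hx y hy hxy => ((h.e _ (U.neg_mem (U.smul_mem Φ.ε hy)) x hx (by
    simp [Φ.B_smul_left, Φ.B_eq_zero_symm hxy])).swap).congr (by simp [ε_smul_smul]) rfl⟩

theorem map (h : TSP Φ X U U') {g : V ≃ₗ[F] V} (hg : g ∈ X) (hg' : g ∈ Φ.isom) :
    TSP Φ X (U.map (g : V →ₗ[F] V)) (U'.map (g : V →ₗ[F] V)) :=
  ⟨(Submodule.orderIsoMapComap g).isCompl h.c, h.l.map hg', h.r.map hg', by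
    rintro _ ⟨x, hx, rfl⟩ _ ⟨y, hy, rfl⟩ hxy
    exact (h.e x hx y hy ((hg'.1 x y).symm.trans hxy)).conj hg hg'⟩

variable [FiniteDimensional F V]

theorem rk (hn : Φ.Nondeg) (h : TSP Φ X U U') : finrank F V = 2 * finrank F U := by
  have h1 := hn.two_mul_finrank_le h.l.le_perp
  have h2 := hn.two_mul_finrank_le h.r.le_perp
  have := Submodule.finrank_add_eq_of_isCompl h.c
  omega

theorem perp (hn : Φ.Nondeg) (h : TSP Φ X U U') : Φ.perp U = U := by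
  have := h.rk hn
  have := hn.finrank_add_finrank_perp U
  exact (Submodule.eq_of_le_of_finrank_eq h.l.le_perp (by omega)).symm

theorem exists_sep (hn : Φ.Nondeg) (h : TSP Φ X U U') {x y c : V} (hc : c ∉ (U ⊔ F ∙ x) ⊔ F ∙ y) :
    ∃ z ∈ U, Φ.B z x = 0 ∧ Φ.B z y = 0 ∧ Φ.B z c = 1 := by
  obtain ⟨z, hz, h1⟩ := hn.exists_perp_eq_one hc
  rw [Φ.perp_sup, Φ.perp_sup, h.perp hn] at hz
  exact ⟨z, hz.1.1, Φ.B_eq_zero_symm (Φ.mem_perp_span_singleton.1 hz.1.2),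
    Φ.B_eq_zero_symm (Φ.mem_perp_span_singleton.1 hz.2), h1⟩

theorem exists_notMem (hn : Φ.Nondeg) (h : TSP Φ X U U') {S : Submodule F V} (hS : U' ≤ S) {k : ℕ}
    (s : Fin k → V) (hk : finrank F S + k < finrank F V) : ∃ x ∈ U, x ∉ S ∧ ∀ i, Φ.B (s i) x = 0 :=
  exists_mem_notMem s (by
    rwa [top_unique (h.c.sup_eq_top.ge.trans (sup_le_sup_left hS _)), finrank_top])

variable [Finite F]

theorem full (hn : Φ.Nondeg) (h2 : NotSp2 Φ) (h8 : 8 ≤ finrank F V) (h : TSP Φ X U U') {p c : V}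
    (hp : p ∈ U) (hp0 : p ≠ 0) (hc : c ∈ AE Φ X (TotSing.sing h.l hp)) (hc' : c ∉ U' ⊔ F ∙ p) :
    Full Φ X p := by
  have h1 : ∀ y ∈ U', Φ.B p y = 0 → y ∈ AE Φ X (TotSing.sing h.l hp) := fun y hy e =>
    ⟨0, h.e p hp y hy e⟩
  have h3 : ∀ x ∈ U, c ∉ (U' ⊔ F ∙ p) ⊔ F ∙ x → x ∈ AE Φ X (TotSing.sing h.l hp) := by
    intro x hx hcx
    obtain ⟨y, hy, e1, e2, e3⟩ := h.symm.exists_sep hn hcx
    obtain ⟨s, hs, hs'⟩ := h.e x hx y hy (Φ.B_eq_zero_symm e2)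
    have := map_mem_AE hs hs'.mem_isom (by rw [hs'.apply_perp (h.l.1 x hx p hp), e1]; simp) hc
    rw [hs'.app, e3] at this
    simpa using AddSubgroup.sub_mem _ (AddSubgroup.add_mem _ this (h1 _ (U'.smul_mem (Φ.ε * Φ.B x c) hy)
      (by simp [Φ.B_eq_zero_symm e1]))) hc
  have h4 : ∀ x ∈ U, x ∈ AE Φ X (TotSing.sing h.l hp) := by
    intro x hx
    have := h.symm.rk hn
    have := finrank_sup_one U' p
    have := finrank_sup_one (U' ⊔ F ∙ p) c
    have := finrank_sup_one ((U' ⊔ F ∙ p) ⊔ F ∙ c) x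
    obtain ⟨z, hz, hz', -⟩ := h.exists_notMem hn (S := ((U' ⊔ F ∙ p) ⊔ F ∙ c) ⊔ F ∙ x)
      (le_sup_left.trans (le_sup_left.trans le_sup_left)) ![] (by omega)
    simpa using AddSubgroup.sub_mem _ (h3 (x + z) (U.add_mem hx hz) fun e => hz' (by
      simpa using Submodule.sub_mem _ (Submodule.mem_sup_left (exch e hc')) (mem_sup_self _ x)))
      (h3 z hz fun e => hz' (Submodule.mem_sup_left (exch e hc')))
  refine full_of_AE' hn (by omega) h2 hp0 (TotSing.sing h.l hp) fun a ha => ?_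
  obtain ⟨x, y, rfl⟩ := exists_add_of_isCompl h.c a
  exact AddSubgroup.add_mem _ (h4 x x.2) (h1 y y.2 (by simpa [h.l.1 p hp x x.2] using ha))

theorem full' (hn : Φ.Nondeg) (h2 : NotSp2 Φ) (h10 : 10 ≤ finrank F V) (h : TSP Φ X U U') {a b : V}
    (hab : HasE Φ X b a 0) (hb : b ∉ U') (ha : a ∉ U' ⊔ F ∙ b) : ∃ p ∈ U, p ≠ 0 ∧ Full Φ X p := by
  obtain ⟨y, hy, -, e2, e3⟩ := h.symm.exists_sep hn (x := 0) (y := b) (c := a) (by simpa)
  have := h.symm.rk hn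
  have := finrank_sup_one U' b
  obtain ⟨x, hx, hx', e⟩ := h.exists_notMem hn (S := U' ⊔ F ∙ b) le_sup_left ![a, b, y] (by omega)
  have h3 := (h.e x hx y hy (Φ.B_eq_zero_symm (e 2))).move hab (Φ.B_eq_zero_symm (e 1)) e2
    (Φ.B_eq_zero_symm (e 0))
  rw [e3, one_smul] at h3
  refine ⟨x, hx, by rintro rfl; simp at hx', h.full hn h2 (by omega) hx (by rintro rfl; simp at hx')
    ⟨0, h3.swap⟩ fun hc => hx' (exch ?_ hb)⟩
  simpa [ε_smul_smul] using Submodule.smul_mem _ (-Φ.ε) hc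

theorem dich (hn : Φ.Nondeg) (h2 : NotSp2 Φ) (h10 : 10 ≤ finrank F V) (h : TSP Φ X U U')
    (hA : TSP Φ X A A') : (∃ p ∈ U, p ≠ 0 ∧ Full Φ X p) ∨ A ≤ U' ∨ A' ≤ U' := by
  by_contra! hc
  obtain ⟨h0, h3, h4⟩ := hc
  have key : ∀ {A A' : Submodule F V}, TSP Φ X A A' → ¬ A' ≤ U' →
      finrank F ↥(A ⊔ U') ≤ finrank F U' + 2 := by
    intro A A' hA h4
    by_contra! h5
    obtain ⟨b, hb, hb'⟩ := SetLike.not_le_iff_exists.1 h4
    have := finrank_sup_one U' b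
    have := Submodule.finrank_mono (sup_le_sup_left (le_sup_left : U' ≤ U' ⊔ F ∙ b) A)
    obtain ⟨a, ha, ha', e⟩ := exists_mem_notMem (Φ := Φ) (U := A) (S := U' ⊔ F ∙ b) ![b] (by omega)
    obtain ⟨p, h6, h7, h8⟩ := h.full' hn h2 h10 (hA.symm.e b hb a ha (e 0)) hb' ha'
    exact h0 p h6 h7 h8
  have h5 := key hA h4
  have h6 := key hA.symm h3
  have h7 := Submodule.finrank_sup_add_finrank_inf_eq (A ⊔ U') (A' ⊔ U')
  rw [top_unique (hA.c.sup_eq_top.ge.trans (sup_le_sup le_sup_left le_sup_left)), finrank_top] at h7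
  have h8 := Submodule.finrank_mono (le_inf le_sup_right le_sup_right : U' ≤ (A ⊔ U') ⊓ (A' ⊔ U'))
  have := h.symm.rk hn
  omega

omit [Finite F] in
theorem EG_le (hn : Φ.Nondeg) (h : TSP Φ X U U') {p z : V} (hp : p ∈ U) (hp0 : p ≠ 0)
    (hz : z ∈ U') (hz0 : z ≠ 0) (h1 : Full Φ X p) (h2 : Full Φ X z) : EG Φ ≤ X := by
  by_cases e : Φ.B p z = 0
  swap; · exact EG_le_of_full hn h1 h2 e
  have d := fun x hx hx' => Submodule.disjoint_def.1 h.c.disjoint x hx hx'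
  obtain ⟨y, hy, -, -, e1⟩ := h.symm.exists_sep hn (x := 0) (y := 0) (c := p)
    (by simpa using fun h => hp0 (d p hp h))
  obtain ⟨x, hx, -, e2, e3⟩ := h.exists_sep hn (x := 0) (y := y) (c := z) (fun hc => by
    obtain ⟨u, hu, _, hy', rfl⟩ := Submodule.mem_sup.1 hc
    obtain ⟨c, rfl⟩ := Submodule.mem_span_singleton.1 hy'
    have hu : u ∈ U := by simpa using hu
    have : c = 0 := by
      have := Φ.B_eq_zero_symm e
      rw [Φ.B_add_left, Φ.B_smul_left, e1, h.l.1 u hu p hp] at this; simpa using this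
    subst this
    exact hz0 (d _ (by simpa) hz))
  obtain ⟨s, hs, hs'⟩ := h.e x hx y hy e2
  refine EG_le_of_full hn (h1.map hs hs'.mem_isom) h2 ?_
  rw [hs'.apply_perp (h.l.1 x hx p hp), e1, one_smul, Φ.B_add_left, e, e3]; simp

end TSP

theorem isMaximalIn_tsPair [Finite F] [FiniteDimensional F V] (hn : Φ.Nondeg) (h2 : NotSp2 Φ)
    (h10 : 10 ≤ finrank F V) {k : ℕ} {D : Fin 2 → Submodule F V} (hD : Dec k D)
    (hts : ∀ i, Φ.TotSing (D i))
    (hs : ∃ s ∈ EG Φ, (∀ x ∈ D 0, s x ∈ D 1) ∧ ∀ x ∈ D 1, s x ∈ D 0) :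
    Geo.IsMaximalIn (EG Φ) (dstab D ⊓ EG Φ) := by
  have hc := hD.isCompl
  have hH : TSP Φ (dstab D ⊓ EG Φ) (D 0) (D 1) := ⟨hc, hts 0, hts 1, fun x hx y hy e => by
    obtain ⟨g, hg⟩ := exists_isE0 hn (TotSing.sing (hts 0) hx) (TotSing.sing (hts 1) hy) e
    refine ⟨g, ⟨hD.mem_dstab (Fin.forall_fin_two.2 ⟨⟨0, fun v hv => ?_⟩, 1, fun v hv => ?_⟩),
      IsE_mem_EG hg⟩, hg⟩
    · rw [hg.apply_perp ((hts 0).1 x hx v hv)]; exact (D 0).add_mem hv ((D 0).smul_mem _ hx)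
    · rw [hg.app, (hts 1).1 y hy v hv]; simpa using (D 1).sub_mem hv ((D 1).smul_mem _ hy)⟩
  refine max_crit inf_le_right ?_ fun X h3 h4 g hg hg' => ?_
  · obtain ⟨x, hx, hx0⟩ := hD.exists_ne 0
    have := hH.symm.rk hn
    have := finrank_sup_one (D 1) x
    obtain ⟨a, ha, ha', -⟩ := hH.exists_notMem hn (S := D 1 ⊔ F ∙ x) le_sup_left ![] (by omega)
    obtain ⟨y, hy, -, e2, e3⟩ := hH.symm.exists_sep hn (x := 0) (y := x) (c := a) (by simpa)
    obtain ⟨g, hg⟩ := exists_isE0 hn (TotSing.sing (hts 0) hx) (TotSing.sing (hts 0) ha)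
      ((hts 0).1 x hx a ha)
    refine ⟨g, IsE_mem_EG hg, fun h => ?_⟩
    obtain ⟨j, hj⟩ := exists_of_dstab h.1 1
    have h5 := hj y hy
    rw [hg.apply_perp (Φ.B_eq_zero_symm e2), Φ.symm, e3, map_one, mul_one] at h5
    revert j
    refine Fin.forall_fin_two.2 ⟨fun _ h5 => ?_, fun _ h5 => ?_⟩
    · rw [(D 0).add_mem_iff_left ((D 0).smul_mem _ hx)] at h5
      simp [hD.eq_zero (by decide) h5 hy] at e3
    · rw [(D 1).add_mem_iff_right hy, (D 1).smul_mem_iff Φ.ε_ne_zero] at h5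
      exact hx0 (hD.eq_zero (by decide) hx h5)
  have hX : TSP Φ X (D 0) (D 1) := ⟨hc, hts 0, hts 1, fun x hx y hy e => (hH.e x hx y hy e).mono h3⟩
  obtain ⟨s, hs, s0, s1⟩ := hs
  have hsX : s ∈ X := h3 ⟨hD.mem_dstab (Fin.forall_fin_two.2 ⟨⟨1, s0⟩, 0, s1⟩), hs⟩
  have hA := hX.map hg (EG_le_isom (h4 hg))
  have ne : ∀ i j l, j ≠ l → (D i).map (g : V →ₗ[F] V) ≤ D j → ¬ (D i).map (g : V →ₗ[F] V) ≤ D l := by
    intro i j l e h h'
    obtain ⟨x, hx, hx0⟩ := hD.exists_ne i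
    exact hx0 (by simpa using hD.eq_zero e (h ⟨x, hx, rfl⟩) (h' ⟨x, hx, rfl⟩))
  rcases hX.dich hn h2 h10 hA with ⟨p, hp, hp0, h⟩ | h
  · exact hX.EG_le hn hp hp0 (s0 p hp) (by simpa) h (h.map hsX (EG_le_isom hs))
  rcases hX.symm.dich hn h2 h10 hA with ⟨p, hp, hp0, h'⟩ | h'
  · exact hX.symm.EG_le hn hp hp0 (s1 p hp) (by simpa) h' (h'.map hsX (EG_le_isom hs))
  refine absurd ⟨hD.mem_dstab (Fin.forall_fin_two.2 ?_), h4 hg⟩ hg'
  rcases h with h | h <;> rcases h' with h' | h'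
  · exact absurd h' (ne _ _ _ (by decide) h)
  · exact ⟨⟨1, fun x hx => h ⟨x, hx, rfl⟩⟩, 0, fun x hx => h' ⟨x, hx, rfl⟩⟩
  · exact ⟨⟨0, fun x hx => h' ⟨x, hx, rfl⟩⟩, 1, fun x hx => h ⟨x, hx, rfl⟩⟩
  · exact absurd h' (ne _ _ _ (by decide) h)

/-- An isometry interchanging two complementary totally singular subspaces, and a torus. -/
theorem exists_swap [FiniteDimensional F V] (hn : Φ.Nondeg) {k : ℕ} {D : Fin 2 → Submodule F V}
    (hD : Dec k D) (hts : ∀ i, Φ.TotSing (D i)) :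
    (∃ s ∈ Φ.isom, (∀ x ∈ D 0, s x ∈ D 1) ∧ ∀ x ∈ D 1, s x ∈ D 0) ∧
      ∃ e ∈ D 0, ∃ f ∈ D 1, Φ.IsPair e f := by
  obtain ⟨e, he, h0⟩ := Formed.exists_span_eq_fin (D 0) (hD.rk 0)
  have m0 : ∀ i, e i ∈ D 0 := fun i => h0 ▸ Submodule.subset_span ⟨i, rfl⟩
  obtain ⟨g, hg⟩ := hn.exists_dual he
  choose x f hf using fun i => exists_add_of_isCompl hD.isCompl (g i)
  have hh : Φ.IsHyp e fun i => (f i : V) := ⟨fun i j => (hts 0).1 _ (m0 i) _ (m0 j),
    fun i j => (hts 1).1 _ (f i).2 _ (f j).2, fun i j => by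
      rw [← hg, hf j, map_add, (hts 0).1 _ (m0 i) _ (x j).2, zero_add],
    fun i => (hts 0).2 _ (m0 i), fun i => (hts 1).2 _ (f i).2⟩
  have h1 : Submodule.span F (Set.range fun i => (f i : V)) = D 1 :=
    Submodule.eq_of_le_of_finrank_eq (Submodule.span_le.2 (by rintro _ ⟨i, rfl⟩; exact (f i).2))
      (by rw [finrank_span_eq_card hh.linearIndependent_right, hD.rk, Fintype.card_fin])
  have hh' : Φ.IsHyp (fun i => (f i : V)) fun i => Φ.ε • e i := ⟨hh.ff,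
    fun i j => by simp [Φ.B_smul_left, hh.ee], fun i j => by
      rw [Φ.B_smul_right, hh.fe]; split_ifs <;> simp [Φ.εε],
    hh.Qf, fun i => by rw [Φ.Q_smul, hh.Qe, mul_zero]⟩
  obtain ⟨s, hs, hs'⟩ := hn.witt_family hh.linearIndependent hh'.linearIndependent (by
    rintro (i | i) (j | j)
    exacts [(hh'.ee i j).trans (hh.ee i j).symm, (hh'.ef i j).trans (hh.ef i j).symm,
      (hh'.fe i j).trans (hh.fe i j).symm, (hh'.ff i j).trans (hh.ff i j).symm]) (by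
    rintro (i | i)
    exacts [(hh'.Qe i).trans (hh.Qe i).symm, (hh'.Qf i).trans (hh.Qf i).symm])
  refine ⟨⟨s, hs, fun x hx => ?_, fun x hx => ?_⟩, e ⟨0, hD.pos⟩, m0 _, _, (f _).2, hh.isPair _⟩
  · rw [← h0] at hx
    exact Submodule.span_le (p := (D 1).comap (s : V →ₗ[F] V)).2 (by
      rintro _ ⟨i, rfl⟩; exact (congrArg (· ∈ D 1) (hs' (.inl i))).mpr (f i).2) hx
  · rw [← h1] at hx
    exact Submodule.span_le (p := (D 0).comap (s : V →ₗ[F] V)).2 (by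
      rintro _ ⟨i, rfl⟩; exact (congrArg (· ∈ D 0) (hs' (.inr i))).mpr ((D 0).smul_mem _ (m0 i))) hx

theorem torus_mem {U U' : Submodule F V} (h : Φ.TotSing U) (h' : Φ.TotSing U') {e f : V} (he : e ∈ U)
    (hf : f ∈ U') (hp : Φ.IsPair e f) (c : Fˣ) :
    (∀ x ∈ U, (hp.torus c).1 x ∈ U) ∧ ∀ x ∈ U', (hp.torus c).1 x ∈ U' := by
  refine ⟨fun x hx => ?_, fun x hx => ?_⟩ <;> rw [hp.torus_apply]
  · rw [h.1 e he x hx]; simpa using U.add_mem hx (U.smul_mem _ he)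
  · rw [h'.1 f hf x hx]; simpa using U'.add_mem hx (U'.smul_mem _ hf)

theorem exists_hilb (hσ : σ ≠ RingHom.id F) (hσσ : ∀ a, σ (σ a) = a) {z : F} (hz : z * σ z = 1) :
    ∃ c : F, c ≠ 0 ∧ c = z * σ c := by
  obtain ⟨a, ha⟩ : ∃ a : F, a + z * σ a ≠ 0 := by
    by_contra! hc
    refine hσ (RingHom.ext fun a => ?_)
    have h1 := hc 1
    rw [map_one] at h1
    change σ a = a
    linear_combination σ a * h1 - hc a
  exact ⟨_, ha, by rw [map_add, map_mul, hσσ]; linear_combination (-a) * hz⟩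

theorem det_herm [Fintype F] {n q : ℕ} (hF : Fintype.card F = q ^ 2) {g : (Fin n → F) ≃ₗ[F] (Fin n → F)}
    (hg : g ∈ (hermFormed hF n).isom) : LinearMap.det (g : (Fin n → F) →ₗ[F] (Fin n → F)) *
      frobq hF (LinearMap.det (g : (Fin n → F) →ₗ[F] (Fin n → F))) = 1 := by
  haveI := Fact.mk hF
  obtain ⟨g, rfl⟩ := (glEquiv _ F).surjective g
  rw [det_glEquiv]
  exact Classical.det_mul_det_pow ⟨g, (mem_hermFormed_isom hF n).1 hg⟩

end Cfsg.Agent.Root.Mx
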