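import Cfsg.Agent.Root.Max3

/-! Orthogonal decompositions `ODec Φ k D` into non-degenerate subspaces: block permutations
(`exists_move`, `Adj`, `ODec.swap`), the criterion `ODec.win` for an overgroup of the stabiliser to
contain `EG Φ`, and maximality of the stabiliser for blocks of dimension at least five
(`ODec.isMaximalIn`). -/

set_option autoImplicit false

namespace Cfsg.Agent.Root.Mx

open Cfsg.Agent.Geom Cfsg.Agent.AutCl Module

variable {F : Type*} [Field F] {σ : F →+* F} {V : Type*} [AddCommGroup V] [Module F V]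
  {Φ : Formed σ V} [FiniteDimensional F V]

theorem exists_prj (hn : Φ.Nondeg) {W : Submodule F V} (hW : (Φ.restrict W).Nondeg) (v : V) :
    ∃ w ∈ W, ∀ x ∈ W, Φ.B x w = Φ.B x v := by
  obtain ⟨w, y, rfl⟩ := exists_add_of_isCompl (hn.isCompl_perp hW) v
  exact ⟨w, w.2, fun x hx => by rw [map_add, y.2 x hx, add_zero]⟩

omit [FiniteDimensional F V] in
theorem eq_zero_of_nd {W : Submodule F V} (hW : (Φ.restrict W).Nondeg) {v : V} (hv : v ∈ W)
    (h : ∀ x ∈ W, Φ.B x v = 0) : v = 0 :=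
  Φ.restrict_nondeg_iff'.1 hW v hv fun x hx => Φ.B_eq_zero_symm (h x hx)

theorem nondeg_inf_perp (hn : Φ.Nondeg) {U W : Submodule F V} (hW : (Φ.restrict W).Nondeg)
    (hU : (Φ.restrict U).Nondeg) (h : U ≤ W) : (Φ.restrict (W ⊓ Φ.perp U)).Nondeg :=
  Φ.restrict_nondeg_iff'.2 fun v hv h' => eq_zero_of_nd hW hv.1 fun x hx => by
    obtain ⟨u, hu, e⟩ := exists_prj hn hU x
    have := h' (x - u) ⟨W.sub_mem hx (h hu), fun y hy => by rw [map_sub, e y hy, sub_self]⟩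
    rw [map_sub, Φ.B_eq_zero_symm (hv.2 u hu), sub_zero] at this
    exact Φ.B_eq_zero_symm this

omit [FiniteDimensional F V] in
theorem nondeg_plane {p r : V} (hp : Φ.B p p = 0) (h : Φ.B p r ≠ 0) :
    (Φ.restrict ((F ∙ p) ⊔ F ∙ r)).Nondeg :=
  Φ.restrict_nondeg_iff'.2 fun v hv h' => by
    obtain ⟨_, h1, _, h2, rfl⟩ := Submodule.mem_sup.1 hv
    obtain ⟨a, rfl⟩ := Submodule.mem_span_singleton.1 h1
    obtain ⟨b, rfl⟩ := Submodule.mem_span_singleton.1 h2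
    have h3 := Φ.B_eq_zero_symm (h' p (Submodule.mem_sup_left (Submodule.mem_span_singleton_self _)))
    have h4 := h' r (mem_sup_self _ _)
    have hb : b = 0 := by simpa [hp, h] using h3
    have ha : a = 0 := by simpa [hb, Φ.B_smul_left, h] using h4
    simp [ha, hb]

/-- An isometry interchanging two perpendicular isometric non-degenerate subspaces. -/
theorem exists_move (hn : Φ.Nondeg) {A A' : Submodule F V} (hA : (Φ.restrict A).Nondeg)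
    (hA' : (Φ.restrict A').Nondeg) (h : ∀ x ∈ A, ∀ y ∈ A', Φ.B x y = 0) {e : A ≃ₗ[F] A'}
    (he : (Φ.restrict A).IsIso (Φ.restrict A') e) : ∃ g ∈ Φ.isom, (∀ a : A, g a = e a) ∧
      (∀ a : A', g a = e.symm a) ∧ ∀ v ∈ Φ.perp A, v ∈ Φ.perp A' → g v = v := by
  let π := A.projectionOnto _ (hn.isCompl_perp hA)
  let π' := A'.projectionOnto _ (hn.isCompl_perp hA')
  let f : V →ₗ[F] V := LinearMap.id + (A'.subtype ∘ₗ e - A.subtype) ∘ₗ π +
    (A.subtype ∘ₗ e.symm - A'.subtype) ∘ₗ π'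
  have h' : ∀ y ∈ A', ∀ x ∈ A, Φ.B y x = 0 := fun y hy x hx => Φ.B_eq_zero_symm (h x hx y hy)
  have f1 : ∀ a : A, f a = e a := fun a => by
    have : π' a = 0 := (Submodule.projectionOnto_apply_eq_zero_iff _).2 fun y hy => h' y hy a a.2
    simp [f, π, this]
  have f2 : ∀ a : A', f a = e.symm a := fun a => by
    have : π a = 0 := (Submodule.projectionOnto_apply_eq_zero_iff _).2 fun y hy => h y hy a a.2
    simp [f, π', this]
  have f3 : ∀ v ∈ Φ.perp A, v ∈ Φ.perp A' → f v = v := fun v h1 h2 => by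
    simp [f, π, π', (Submodule.projectionOnto_apply_eq_zero_iff _).2 h1,
      (Submodule.projectionOnto_apply_eq_zero_iff _).2 h2]
  have dec : ∀ v, ∃ (a : A) (a' : A') (c : V), c ∈ Φ.perp A ∧ c ∈ Φ.perp A' ∧ v = (a : V) + a' + c := by
    intro v
    obtain ⟨a, ha, e1⟩ := exists_prj hn hA v
    obtain ⟨a', ha', e2⟩ := exists_prj hn hA' v
    exact ⟨⟨a, ha⟩, ⟨a', ha'⟩, v - a - a', fun x hx => by simp [e1 x hx, h x hx a' ha'],
      fun x hx => by simp [e2 x hx, h' x hx a ha], by simp⟩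
  have o1 : ∀ (a : A) (b : A'), Φ.B a b = 0 := fun a b => h _ a.2 _ b.2
  have o2 : ∀ (a : A) (b : A'), Φ.B b a = 0 := fun a b => h' _ b.2 _ a.2
  have i1 : ∀ a b : A, Φ.B (e a) (e b) = Φ.B a b := he.1
  have i2 : ∀ a b : A', Φ.B (e.symm a) (e.symm b) = Φ.B a b := he.symm.1
  have hB : ∀ x y, Φ.B (f x) (f y) = Φ.B x y := fun x y => by
    obtain ⟨a, a', c, h1, h2, rfl⟩ := dec x
    obtain ⟨b, b', d, h3, h4, rfl⟩ := dec y
    have := fun a : A => Φ.mem_perp'.1 h1 a a.2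
    have := fun a : A' => Φ.mem_perp'.1 h2 a a.2
    have := fun a : A => h3 a a.2
    have := fun a : A' => h4 a a.2
    simp only [map_add, LinearMap.add_apply, f1, f2, f3 _ h1 h2, f3 _ h3 h4, *]
  refine ⟨Formed.toEquiv hn f hB, ⟨hB, fun x => ?_⟩, f1, f2, f3⟩
  obtain ⟨a, a', c, h1, h2, rfl⟩ := dec x
  have := fun a : A => h1 a a.2
  have := fun a : A' => h2 a a.2
  have q1 : Φ.Q (e a) = Φ.Q a := he.2 a
  have q2 : Φ.Q (e.symm a') = Φ.Q a' := he.symm.2 a'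
  simp only [Formed.toEquiv_apply, map_add, f1, f2, f3 _ h1 h2, Φ.Q_add, LinearMap.add_apply, *]

/-- Isometries can be adjusted into `EG Φ` by isometries supported on `W`. -/
def Adj (Φ : Formed σ V) (W : Submodule F V) : Prop :=
  ∀ g ∈ Φ.isom, ∃ h ∈ Φ.isom, (∀ v ∈ Φ.perp W, h v = v) ∧ h * g ∈ EG Φ

omit [FiniteDimensional F V] in
theorem adj_of_eq (h : EG Φ = Φ.isom) (W : Submodule F V) : Adj Φ W :=
  fun g hg => ⟨1, one_mem _, fun _ _ => rfl, by simpa [h]⟩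

theorem adj_quad [Finite F] {Q : QuadraticForm F V} (h : (Formed.ofQuad Q).Nondeg) (hn : 5 ≤ finrank F V)
    {W : Submodule F V} (hW : ((Formed.ofQuad Q).restrict W).Nondeg) (h2 : 2 ≤ finrank F W) :
    Adj (Formed.ofQuad Q) W := fun g hg => by
  have hx : NotExc Q := notExc_of_finrank (by omega)
  obtain ⟨k, hk, h3, h4⟩ := exists_dick_spin_eq h hx
    (S := (fix ((Formed.ofQuad Q).perp W)).subgroupOf (OG Q)) (fun v hv => by
      obtain ⟨u, hu, e⟩ := exists_Q_eq Q W hW h2 (Q v)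
      exact ⟨refl Q u, refl_mem_fix (Formed.le_perp_perp _ _ hu), dick_refl h (e ▸ hv),
        by rw [spin_refl h (e ▸ hv), e]⟩) (⟨g, hg⟩ : OG Q)⁻¹
  exact ⟨k, k.2, hk, (mem_EG_quad h hn (g := k * ⟨g, hg⟩)).2
    (by simpa using mul_inv_mem_commutator h hx h3.symm h4.symm)⟩

theorem adj_herm [Fintype F] {n q : ℕ} (hF : Fintype.card F = q ^ 2) (hn : 4 ≤ n)
    {W : Submodule F (Fin n → F)} (hW : ((hermFormed hF n).restrict W).Nondeg) (h1 : 1 ≤ finrank F W) :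
    Adj (hermFormed hF n) W := fun g hg => by
  obtain ⟨b, hb, h1⟩ : ∃ b ∈ W, (hermFormed hF n).B b b = 1 := by
    obtain ⟨b, hb⟩ := hW.exists_orthonormal (frobq_ne_id hF) rfl rfl
    exact ⟨_, (b ⟨0, h1⟩).2, by simpa using hb ⟨0, h1⟩ ⟨0, h1⟩⟩
  have hz := det_herm hF hg
  set z := LinearMap.det (g : (Fin n → F) →ₗ[F] (Fin n → F))
  have hc : frobq hF (frobq hF z - 1) + (hermFormed hF n).ε * (frobq hF z - 1) +
      frobq hF (frobq hF z - 1) * (frobq hF z - 1) * (hermFormed hF n).B b b = 0 := by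
    rw [h1, map_sub, map_one, frobq_frobq]
    change _ + 1 * _ + _ = _
    linear_combination hz
  have hm := Formed.qrefl_mem (hermFormed_nondeg hF n) _ _ hc (by simp [hermFormed, Formed.ofHerm])
  refine ⟨_, hm, fun v hv => by rw [Formed.qrefl_apply, hv _ hb]; simp, ?_⟩
  rw [EG_herm hF hn]
  refine ⟨mul_mem hm hg, mem_SLg.2 ?_⟩
  rw [LinearEquiv.coe_toLinearMap_mul, map_mul, Formed.det_qrefl, h1]
  linear_combination hz

theorem mem_of_fix_perp (hn : Φ.Nondeg) {W : Submodule F V} {g : V ≃ₗ[F] V} (hg : g ∈ Φ.isom)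
    (h : ∀ v ∈ Φ.perp W, g v = v) {x : V} (hx : x ∈ W) : g x ∈ W := by
  rw [← hn.perp_perp W]
  intro v hv
  rw [← h v hv, hg.1]; exact Φ.B_eq_zero_symm (hv x hx)

/-- All Eichler maps with data in `W` lie in `X`. -/
def InE (Φ : Formed σ V) (X : Subgroup (V ≃ₗ[F] V)) (W : Submodule F V) : Prop :=
  ∀ x ∈ W, ∀ y ∈ W, ∀ d g, IsE Φ x y d g → g ∈ X

/-- Additive subgroups invariant under the Eichler maps of `W` contain or are perpendicular to `W`. -/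
def Irr (Φ : Formed σ V) (W : Submodule F V) : Prop :=
  ∀ A : AddSubgroup V, (∀ x ∈ W, ∀ y ∈ W, ∀ d g, IsE Φ x y d g → ∀ a ∈ A, g a ∈ A) →
    ∀ a ∈ A, (∃ y ∈ W, Φ.B y a ≠ 0) → ∀ w ∈ W, w ∈ A

section InE
variable {X : Subgroup (V ≃ₗ[F] V)} {W W' : Submodule F V} {p a x y : V}

omit [FiniteDimensional F V] in
theorem InE.mono (h : InE Φ X W) (h' : W' ≤ W) : InE Φ X W' :=
  fun x hx y hy => h x (h' hx) y (h' hy)

theorem InE.hasE0 (hn : Φ.Nondeg) (h : InE Φ X W) (hx : x ∈ W) (hy : y ∈ W) (hs : Φ.Sing x)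
    (hs' : Φ.Sing y) (e : Φ.B x y = 0) : HasE Φ X x y 0 :=
  let ⟨g, hg⟩ := exists_isE0 hn hs hs' e; ⟨g, h _ hx _ hy _ _ hg, hg⟩

theorem InE.hasE (hn : Φ.Nondeg) (h : InE Φ X W) (hx : x ∈ W) (hy : y ∈ W) (hs : Φ.Sing x)
    (e : Φ.B x y = 0) : ∃ d, HasE Φ X x y d :=
  let ⟨d, g, hg⟩ := exists_isE' hn hs e; ⟨d, g, h _ hx _ hy _ _ hg, hg⟩

omit [FiniteDimensional F V] in
theorem InE.le_AE (h : InE Φ X W) (hi : Irr Φ W) (hp : Φ.Sing p) (hpW : ∀ w ∈ W, Φ.B w p = 0)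
    (ha : a ∈ AE Φ X hp) (hy : ∃ y ∈ W, Φ.B y a ≠ 0) : ∀ w ∈ W, w ∈ AE Φ X hp :=
  hi _ (fun x hx y hy _ g hg _ hb => map_mem_AE (h x hx y hy _ _ hg) hg.mem_isom
    (by rw [hg.apply_perp (hpW x hx), hpW y hy]; simp) hb) a ha hy

theorem irr_of_three [Finite F] (hn : Φ.Nondeg) (hW : (Φ.restrict W).Nondeg) (h3 : 3 ≤ finrank F W) :
    Irr Φ W := fun A hA _ ha hy => le_of_inv hn hW h3 A hA ha hy

/-- A Siegel map with one datum in `W`. -/
theorem InE.exists_siegel [Finite F] (hn : Φ.Nondeg) (h : InE Φ X W) (hW : (Φ.restrict W).Nondeg)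
    (h3 : 3 ≤ finrank F W) (hp : Φ.Sing p) (hpW : ∀ w ∈ W, Φ.B w p = 0)
    (ha : a ∈ AE Φ X hp) (hy : ∃ y ∈ W, Φ.B y a ≠ 0) : ∃ z ∈ W, z ≠ 0 ∧ HasE Φ X p z 0 := by
  have h1 := h.le_AE (irr_of_three hn hW h3) hp hpW ha hy
  obtain ⟨z, hz, r, -, hzr⟩ := exists_pair hn hW h3
  obtain ⟨y, hy, y', hy', e1, e2, e3⟩ := exists_B_eq hn hW h3 hz hzr.left_ne_zero hzr.se 1
  obtain ⟨d, h4⟩ := h.hasE hn hz hy hzr.se e1
  obtain ⟨d', h5⟩ := h1 y' hy'
  exact ⟨z, hz, hzr.left_ne_zero, (h4.move h5 (hpW z hz) (hpW y hy) e2).congr (by simp [e3]) rfl⟩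

theorem exists_nd_perp (hn : Φ.Nondeg) (hW : (Φ.restrict W).Nondeg) (h3 : 3 ≤ finrank F W) {v : V}
    (hv : v ∈ W) (hvp : Φ.B v p = 0) (hva : Φ.B v a ≠ 0) : ∃ U ≤ W, (Φ.restrict U).Nondeg ∧
      finrank F W ≤ finrank F U + 2 ∧ (∀ w ∈ U, Φ.B w p = 0) ∧ ∃ y ∈ U, Φ.B y a ≠ 0 := by
  obtain ⟨p', hp', e⟩ := exists_prj hn hW p
  have key : ∀ S ≤ W, (Φ.restrict S).Nondeg → finrank F S ≤ 2 → p' ∈ S → ∀ v ∈ W, v ∈ Φ.perp S →
      Φ.B v a ≠ 0 → ∃ U ≤ W, (Φ.restrict U).Nondeg ∧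
      finrank F W ≤ finrank F U + 2 ∧ (∀ w ∈ U, Φ.B w p = 0) ∧ ∃ y ∈ U, Φ.B y a ≠ 0 :=
    fun S h1 h2 h4 h5 v h6 h7 h8 => ⟨W ⊓ Φ.perp S, inf_le_left, nondeg_inf_perp hn hW h2 h1,
      by have := finrank_inf_perp hn hW h1; omega,
      fun w hw => (e w hw.1).symm.trans (Φ.B_eq_zero_symm (hw.2 _ h5)), v, ⟨h6, h7⟩, h8⟩
  have hs := (Submodule.span_singleton_le_iff_mem _ _).2 hp'
  rw [← e v hv] at hvp
  by_cases h0 : p' = 0
  · exact key ⊥ bot_le (Φ.restrict_nondeg_iff.2 disjoint_bot_left) (by simp) (by simp [h0]) v hv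
      (by simp) hva
  by_cases h1 : Φ.B p' p' = 0
  swap
  · exact key _ hs (Φ.nondeg_span_singleton h1) ((finrank_span_one _).trans (by omega))
      (Submodule.mem_span_singleton_self _) v hv
      (Φ.mem_perp_span_singleton.2 (Φ.B_eq_zero_symm hvp)) hva
  obtain ⟨u, hu, hu1, hu2, hu3⟩ : ∃ u ∈ W, p' ∉ F ∙ u ∧ Φ.B p' u = 0 ∧ Φ.B u a ≠ 0 := by
    have := finrank_span_one (F := F) p'
    obtain ⟨u, hu, hu1, hu2⟩ := exists_mem_notMem (Φ := Φ) (U := W) (S := F ∙ p') ![p']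
      (by rw [sup_eq_left.2 hs]; omega)
    have ex : ∀ u, u ∉ F ∙ p' → p' ∉ F ∙ u := fun u h1 h2 =>
      h1 (by simpa using exch (S := ⊥) (by simpa using h2) (by simpa))
    by_cases h5 : v ∈ F ∙ p'
    swap; · exact ⟨v, hv, ex v h5, Φ.B_eq_zero_symm hvp, hva⟩
    by_cases h4 : Φ.B u a = 0
    · exact ⟨u + v, W.add_mem hu hv, ex _ (by rwa [Submodule.add_mem_iff_left _ h5]),
        by rw [map_add, Φ.B_eq_zero_symm hvp, add_zero]; exact hu2 0,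
        by rwa [Φ.B_add_left, h4, zero_add]⟩
    · exact ⟨u, hu, ex u hu1, hu2 0, h4⟩
  obtain ⟨r, hr, hr1, hr2⟩ := sep hn hW ((Submodule.span_singleton_le_iff_mem _ _).2 hu) hp' hu1
  refine key ((F ∙ p') ⊔ F ∙ r) (sup_le hs ((Submodule.span_singleton_le_iff_mem _ _).2 hr))
    (nondeg_plane h1 (by simp [hr2])) ?_ (Submodule.mem_sup_left (Submodule.mem_span_singleton_self _))
    u hu (Φ.mem_pairPerp.2 ⟨hu2, Φ.B_eq_zero_symm (Φ.mem_perp_span_singleton.1 hr1)⟩) hu3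
  have := finrank_span_one (F := F) p'
  have := finrank_sup_one (F ∙ p') r
  omega

end InE

/-- An orthogonal decomposition into non-degenerate subspaces of dimension `k`. -/
structure ODec (Φ : Formed σ V) {t : ℕ} (k : ℕ) (D : Fin t → Submodule F V) : Prop
    extends Dec k D where
  hn : Φ.Nondeg
  nd : ∀ i, (Φ.restrict (D i)).Nondeg
  orth : ∀ i j, i ≠ j → ∀ x ∈ D i, ∀ y ∈ D j, Φ.B x y = 0

theorem odec_of {ι : Type} [Fintype ι] {Φ : Formed σ (ι → F)} (hn : Φ.Nondeg) {t k : ℕ}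
    {D : Fin t → Submodule F (ι → F)} {f : (ι → F) → (ι → F) → F}
    (h : Geo.IsNondegenerateMDecomposition f k D) (hf : ∀ u v, Φ.B u v = 0 ↔ f u v = 0) :
    ODec Φ k D :=
  ⟨dec_of h.1, hn, fun i => Φ.restrict_nondeg_iff'.2 fun u hu h' => by_contra fun h0 =>
    let ⟨x, hx, e⟩ := (h.2 i u hu h0).2; e ((hf _ _).1 (h' x hx)),
    fun i j hij x hx y hy => (hf _ _).2 (h.3 i j hij x hx y hy)⟩

namespace ODec
variable {t k : ℕ} {D : Fin t → Submodule F V} {X : Subgroup (V ≃ₗ[F] V)}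

omit [FiniteDimensional F V] in
theorem eq_zero' (h : ODec Φ k D) {v : V} (hv : ∀ i, ∀ x ∈ D i, Φ.B x v = 0) : v = 0 :=
  h.hn.right v fun x => Submodule.iSup_induction D (motive := fun x => Φ.B x v = 0)
    (h.top.ge Submodule.mem_top) hv (by simp) fun x y hx hy => by rw [Φ.B_add_left, hx, hy, add_zero]

theorem mem_of_perp (h : ODec Φ k D) {i : Fin t} {v : V} (hv : ∀ j ≠ i, ∀ x ∈ D j, Φ.B x v = 0) :
    v ∈ D i := by
  obtain ⟨w, hw, e⟩ := exists_prj h.hn (h.nd i) v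
  rw [sub_eq_zero.1 (h.eq_zero' (v := v - w) fun j x hx => ?_)]; · exact hw
  rcases eq_or_ne j i with rfl | hj
  · rw [map_sub, e x hx, sub_self]
  · rw [map_sub, hv j hj x hx, h.orth j i hj x hx w hw, sub_self]

theorem exists_ne_perp (h : ODec Φ k D) {i : Fin t} {v : V} (hv : v ∉ D i) :
    ∃ j ≠ i, ∃ x ∈ D j, Φ.B x v ≠ 0 := by
  by_contra! hc; exact hv (h.mem_of_perp hc)

omit [FiniteDimensional F V] in
theorem perp_ind (h : ODec Φ k D) {i : Fin t} (A : AddSubgroup V) (hA : ∀ j ≠ i, ∀ x ∈ D j, x ∈ A)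
    {v : V} (hv : ∀ x ∈ D i, Φ.B x v = 0) : v ∈ A := by
  obtain ⟨w, hw, h1, h2⟩ := Submodule.iSup_induction D
    (motive := fun v => ∃ w ∈ D i, v - w ∈ A ∧ ∀ x ∈ D i, Φ.B x (v - w) = 0)
    (h.top.ge (Submodule.mem_top (x := v))) (fun j y hy => by
      rcases eq_or_ne j i with rfl | hj
      · exact ⟨y, hy, by simp⟩
      · exact ⟨0, zero_mem _, by simpa using hA j hj y hy,
          fun x hx => by simpa using h.orth _ _ hj.symm x hx y hy⟩) ⟨0, zero_mem _, by simp⟩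
    (fun x y ⟨w, h1, h2, h3⟩ ⟨w', h4, h5, h6⟩ => ⟨w + w', add_mem h1 h4,
      by rw [add_sub_add_comm]; exact add_mem h2 h5,
      fun z hz => by rw [add_sub_add_comm, map_add, h3 z hz, h6 z hz, add_zero]⟩)
  rwa [eq_zero_of_nd (h.nd i) hw fun x hx => by simpa [hv x hx] using h2 x hx, sub_zero] at h1

theorem mem_dstab_of_fix (h : ODec Φ k D) {i : Fin t} {g : V ≃ₗ[F] V} (hg : g ∈ Φ.isom)
    (hf : ∀ v ∈ Φ.perp (D i), g v = v) : g ∈ dstab D :=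
  h.mem_dstab fun j => ⟨j, fun x hx => by
    rcases eq_or_ne i j with rfl | hj
    · exact mem_of_fix_perp h.hn hg hf hx
    · rwa [hf x fun y hy => h.orth i j hj y hy x hx]⟩

theorem inE (h : ODec Φ k D) (hX : dstab D ⊓ EG Φ ≤ X) (i : Fin t) : InE Φ X (D i) :=
  fun x hx y hy _ _ hg => hX ⟨h.mem_dstab_of_fix (i := i) hg.mem_isom fun v hv => by
    rw [hg.apply_perp (hv x hx), hv y hy]; simp, IsE_mem_EG hg⟩

end ODec

/-- Blocks can be permuted fixing a third one. -/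
def Sw (Φ : Formed σ V) {t : ℕ} (D : Fin t → Submodule F V) : Prop :=
  ∀ i j l, j ≠ i → l ≠ i → ∃ s ∈ dstab D ⊓ EG Φ, (∀ x ∈ D i, s x = x) ∧ ∀ y ∈ D j, s y ∈ D l

namespace ODec
variable {t k : ℕ} {D : Fin t → Submodule F V} {X : Subgroup (V ≃ₗ[F] V)}

omit [FiniteDimensional F V] in
theorem sw_two {D : Fin 2 → Submodule F V} : Sw Φ D := fun i j l hj hl =>
  ⟨1, one_mem _, fun _ _ => rfl, fun y hy => by rwa [show l = j by omega]⟩

theorem exists_swap (h : ODec Φ k D) {j l : Fin t} (hjl : j ≠ l) {e : D j ≃ₗ[F] D l}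
    (he : (Φ.restrict (D j)).IsIso (Φ.restrict (D l)) e) : ∃ g ∈ dstab D ⊓ Φ.isom,
      (∀ a : D j, g a = e a) ∧ (∀ a : D l, g a = e.symm a) ∧
        ∀ v ∈ Φ.perp (D j), v ∈ Φ.perp (D l) → g v = v := by
  obtain ⟨g, hg, h1, h2, h3⟩ := exists_move h.hn (h.nd j) (h.nd l) (h.orth j l hjl) he
  refine ⟨g, ⟨h.mem_dstab fun i => ?_, hg⟩, h1, h2, h3⟩
  rcases eq_or_ne j i with rfl | hj
  · exact ⟨l, fun x hx => h1 ⟨x, hx⟩ ▸ (e _).2⟩
  rcases eq_or_ne l i with rfl | hl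
  · exact ⟨j, fun x hx => h2 ⟨x, hx⟩ ▸ (e.symm _).2⟩
  exact ⟨i, fun x hx => by
    rwa [h3 x (fun y hy => h.orth _ _ hj y hy x hx) fun y hy => h.orth _ _ hl y hy x hx]⟩

theorem sw (h : ODec Φ k D) (ha : ∀ i, Adj Φ (D i))
    (hi : ∀ i j, ∃ e, (Φ.restrict (D i)).IsIso (Φ.restrict (D j)) e) : Sw Φ D := by
  intro i j l hj hl
  rcases eq_or_ne j l with rfl | hjl
  · exact ⟨1, one_mem _, fun _ _ => rfl, fun y hy => hy⟩
  obtain ⟨e, he⟩ := hi j l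
  obtain ⟨g, hg, h1, -, h3⟩ := h.exists_swap hjl he
  obtain ⟨s, hs, h4, h5⟩ := ha l g hg.2
  refine ⟨s * g, ⟨mul_mem (h.mem_dstab_of_fix hs h4) hg.1, h5⟩, fun x hx => ?_, fun y hy => ?_⟩
  · have := fun y hy => h.orth _ _ hl y hy x hx
    rw [LinearEquiv.mul_apply, h3 x (fun y hy => h.orth _ _ hj y hy x hx) this, h4 x this]
  · exact mem_of_fix_perp h.hn hs h4 (h1 ⟨y, hy⟩ ▸ (e _).2)

end ODec

/-- The standing hypotheses on an overgroup `X` of the stabiliser of an orthogonal decomposition. -/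
structure OX (Φ : Formed σ V) {t : ℕ} (k : ℕ) (D : Fin t → Submodule F V)
    (X : Subgroup (V ≃ₗ[F] V)) : Prop extends ODec Φ k D where
  sw : Sw Φ D
  irr : ∀ i, Irr Φ (D i)
  pair : ∀ i, ∃ a ∈ D i, ∃ b ∈ D i, Φ.IsPair a b
  le : dstab D ⊓ EG Φ ≤ X
  le' : X ≤ EG Φ

namespace OX
variable {t k : ℕ} {D : Fin t → Submodule F V} {X : Subgroup (V ≃ₗ[F] V)}

theorem full (h : OX Φ k D X) {i : Fin t} {x a : V} {d : F} (hx : x ∈ D i) (ha : HasE Φ X x a d)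
    (hi : a ∉ D i) : Full Φ X x := by
  have h1 : ∀ y ∈ D i, Φ.B x y = 0 → y ∈ AE Φ X ha.sp := fun y hy e =>
    (h.inE h.le i).hasE h.hn hx hy ha.sp e
  obtain ⟨j, hj, hy⟩ := h.exists_ne_perp hi
  have h2 := (h.inE h.le j).le_AE (h.irr j) ha.sp (fun w hw => h.orth j i hj w hw x hx) ⟨d, ha⟩ hy
  refine full_of_AE ha.sp (fun b hb => ?_) fun d g hg => h.inE h.le i x hx 0 (zero_mem _) d g hg
  obtain ⟨w, hw, e⟩ := exists_prj h.hn (h.nd i) b
  have := h.perp_ind (AE Φ X ha.sp) (i := i) (fun l hl y hy => by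
    obtain ⟨s, hs, s1, s2⟩ := h.sw i l j hl hj
    simpa using map_mem_AE (inv_mem (h.le hs)) (inv_mem (EG_le_isom hs.2))
      ((LinearEquiv.symm_apply_eq s).2 (s1 x hx).symm) (h2 _ (s2 y hy)))
    (v := b - w) fun y hy => by rw [map_sub, e y hy, sub_self]
  simpa using add_mem this (h1 w hw ((e x hx).trans hb))

theorem win (h : OX Φ k D X) {i : Fin t} {x a : V} {d : F} (hx : x ∈ D i) (hx0 : x ≠ 0)
    (ha : HasE Φ X x a d) (hi : a ∉ D i) : EG Φ ≤ X := by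
  have step : ∀ {i j : Fin t} {x z : V}, i ≠ j → x ∈ D i → x ≠ 0 → z ∈ D j → Φ.Sing z → Full Φ X x →
      Full Φ X z := fun {i j x z} hij hx hx0 hz hs hf =>
    h.full hz (hf.hasE h.hn (h.orth i j hij x hx z hz) (by simp [hs.1]) (by simp [hs.2])).swap
      fun e => hx0 (h.eq_zero hij hx (by simpa [(D j).smul_mem_iff Φ.ε_ne_zero] using e))
  obtain ⟨j, hj, -⟩ := h.exists_ne_perp hi
  obtain ⟨z, hz, _, -, hzr⟩ := h.pair j
  obtain ⟨r, hr, hxr⟩ := exists_pair_mem h.hn (h.nd i) hx hx0 ha.sp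
  have := h.full hx ha hi
  exact EG_le_of_full h.hn this (step hj hz hzr.left_ne_zero hr hxr.sf
    (step hj.symm hx hx0 hz hzr.se this)) (by simp [hxr.ef])

theorem win0 (h : OX Φ k D X) {i : Fin t} {p z : V} (hz : z ∈ D i) (hz0 : z ≠ 0)
    (ha : HasE Φ X p z 0) (hi : p ∉ D i) : EG Φ ≤ X :=
  h.win hz hz0 ha.swap (by simpa [(D i).smul_mem_iff Φ.ε_ne_zero])

theorem winW [Finite F] (h : OX Φ k D X) {i : Fin t} {W : Submodule F V} (hWi : W ≤ D i)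
    (hW : (Φ.restrict W).Nondeg) (h3 : 3 ≤ finrank F W) {p a : V} {d : F} (ha : HasE Φ X p a d)
    (hpW : ∀ w ∈ W, Φ.B w p = 0) (hy : ∃ y ∈ W, Φ.B y a ≠ 0) (hi : p ∉ D i) : EG Φ ≤ X :=
  let ⟨_, hz, hz0, e⟩ := ((h.inE h.le i).mono hWi).exists_siegel h.hn hW h3 ha.sp hpW ⟨d, ha⟩ hy
  h.win0 (hWi hz) hz0 e hi

theorem mem_dstab' (h : OX Φ k D X) {g : V ≃ₗ[F] V} (hg : g ∈ Φ.isom)
    (hD : ∀ i, ∀ x ∈ D i, x ≠ 0 → Φ.Sing x → ∃ j, g x ∈ D j) : g ∈ dstab D := by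
  refine h.mem_dstab fun i => ?_
  obtain ⟨a, ha, b, hb, hab⟩ := h.pair i
  obtain ⟨j, hj⟩ := hD i a ha hab.left_ne_zero hab.se
  have opp : ∀ x ∈ D i, ∀ y ∈ D i, Φ.Sing y → Φ.B x y ≠ 0 → g x ∈ D j → g y ∈ D j := by
    intro x hx y hy hs e h1
    obtain ⟨l, hl⟩ := hD i y hy (by rintro rfl; simp at e) hs
    by_contra hc
    exact e ((hg.1 x y).symm.trans (h.orth j l (by rintro rfl; exact hc hl) _ h1 _ hl))
  refine ⟨j, sing_ind ha hb hab ((D j).comap (g : V →ₗ[F] V)).toAddSubgroup fun x hx hs => ?_⟩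
  rcases eq_or_ne x 0 with rfl | hx0
  · exact zero_mem _
  by_cases e : Φ.B x a = 0
  · obtain ⟨w, hw, hws, h1, h2⟩ := exists_sing_both h.hn (h.nd i) ha hab.left_ne_zero hab.se hx hx0 e
    exact opp w hw x hx hs (fun e => h2 (Φ.B_eq_zero_symm e)) (opp a ha w hw hws h1 hj)
  · exact opp a ha x hx hs (fun e' => e (Φ.B_eq_zero_symm e')) hj

end OX

/-- The reduction of maximality to a singular vector of a block mapped outside all blocks. -/
theorem ODec.isMaximalIn {t k : ℕ} {D : Fin t → Submodule F V} (h : ODec Φ k D) (sw : Sw Φ D)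
    (irr : ∀ i, Irr Φ (D i)) (pair : ∀ i, ∃ a ∈ D i, ∃ b ∈ D i, Φ.IsPair a b)
    (H : ∀ X, OX Φ k D X → ∀ g ∈ X, ∀ i, ∀ x ∈ D i, x ≠ 0 → Φ.Sing x → (∀ j, g x ∉ D j) → EG Φ ≤ X) :
    Geo.IsMaximalIn (EG Φ) (dstab D ⊓ EG Φ) := by
  refine max_crit inf_le_right ?_ fun X h1 h2 g hg hg' => ?_
  · let i : Fin t := ⟨0, by have := h.two_le; omega⟩
    let j : Fin t := ⟨1, h.two_le⟩
    have hij : i ≠ j := by simp [i, j]
    obtain ⟨x, hx, r, hr, hxr⟩ := pair i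
    obtain ⟨z, hz, _, -, hzr⟩ := pair j
    obtain ⟨g, hg⟩ := exists_isE0 h.hn hxr.se hzr.se (h.orth i j hij x hx z hz)
    refine ⟨g, IsE_mem_EG hg, fun hc => ?_⟩
    obtain ⟨l, hl⟩ := exists_of_dstab hc.1 i
    have h3 := hl x hx
    have h4 := hl r hr
    rw [hg.apply_p] at h3
    obtain rfl : i = l := by_contra fun e => hxr.left_ne_zero (h.eq_zero e hx h3)
    rw [hg.apply_r hxr (h.orth i j hij r hr z hz)] at h4
    exact hzr.left_ne_zero (h.eq_zero hij (by simpa [(D i).smul_mem_iff Φ.ε_ne_zero] using (D i).sub_mem hr h4) hz)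
  have hX : OX Φ k D X := ⟨h, sw, irr, pair, h1, h2⟩
  by_contra hc
  refine hg' ⟨hX.mem_dstab' (EG_le_isom (h2 hg)) fun i x hx hx0 hs => ?_, h2 hg⟩
  by_contra! h3
  exact hc (H X hX g hg i x hx hx0 hs h3)

namespace OX
variable {t k : ℕ} {D : Fin t → Submodule F V} {X : Subgroup (V ≃ₗ[F] V)}

/-- The second step for large blocks. -/
theorem step2 (h : OX Φ k D X)
    (H : ∀ j p a d, HasE Φ X p a d → p ∉ D j → ∀ v ∈ D j, Φ.B v p = 0 → Φ.B v a ≠ 0 → EG Φ ≤ X)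
    (hk : ∀ i x y, ∃ z ∈ D i, z ≠ 0 ∧ Φ.Sing z ∧ Φ.B x z = 0 ∧ Φ.B y z = 0)
    {g : V ≃ₗ[F] V} (hg : g ∈ X) {i : Fin t} {x : V} (hx : x ∈ D i) (hs : Φ.Sing x)
    (hD : ∀ j, g x ∉ D j) : EG Φ ≤ X := by
  have hg' := EG_le_isom (h.le' hg)
  obtain ⟨j, -, r, hr, e⟩ := h.exists_ne_perp (hD i)
  obtain ⟨z, hz, hz0, hzs, e1, e2⟩ := hk i x (g.symm r)
  rw [← hg'.1, LinearEquiv.apply_symm_apply] at e2
  have h1 := ((h.inE h.le i).hasE0 h.hn hx hz hs hzs e1).conj hg hg'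
  by_contra hc
  have h2 : ∀ v ∈ D j, Φ.B v (g z) = 0 := fun v hv => by
    by_contra h3
    refine hc (H j _ _ _ h1 (hD j) (v - σ (Φ.B v (g x) / Φ.B r (g x)) • r)
      (sub_mem hv ((D j).smul_mem _ hr)) ?_ ?_)
    · rw [Φ.B_sub_left, Φ.B_smul_left, Φ.σσ]; field_simp; ring
    · rwa [Φ.B_sub_left, Φ.B_smul_left, e2, mul_zero, sub_zero]
  exact hc (H j _ _ _ h1.swap (fun h3 => hz0 (by simpa using eq_zero_of_nd (h.nd j) h3 h2)) r hr e2
    (by simpa [Φ.ε_ne_zero]))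

end OX

theorem ODec.isMaximalIn_five [Finite F] {t k : ℕ} {D : Fin t → Submodule F V} (h : ODec Φ k D)
    (sw : Sw Φ D) (h5 : 5 ≤ k) : Geo.IsMaximalIn (EG Φ) (dstab D ⊓ EG Φ) := by
  refine h.isMaximalIn sw (fun i => irr_of_three h.hn (h.nd i) (by rw [h.rk]; omega))
    (fun i => exists_pair h.hn (h.nd i) (by rw [h.rk]; omega)) fun X hX g hg i x hx _ hs hD =>
      hX.step2 (fun j p a d ha hp v hv e1 e2 => ?_) (fun i x y => ?_) hg hx hs hD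
  · obtain ⟨U, h1, h2, h3, h4, h6⟩ := exists_nd_perp h.hn (h.nd j) (by rw [h.rk]; omega) hv e1 e2
    exact hX.winW h1 h2 (by rw [h.rk] at h3; omega) ha h4 h6 hp
  · obtain ⟨z, h1, h2, h3, h4⟩ := exists_sing_pf Φ ![x, y] (U := D i) (R := ⊥) (by simp [h.rk]; omega)
    exact ⟨z, h1, by simpa using h2, h3, h4 0, h4 1⟩

end Cfsg.Agent.Root.Mx
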