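import Cfsg.Agent.Root.Max4

/-! Orthogonal decompositions with small blocks: symplectic spaces (`ODec.isMaximalIn_alt`), quadratic
spaces of odd characteristic with blocks of dimension three or four (`ODec.isMaximalIn_quad_odd`). -/

set_option autoImplicit false

namespace Cfsg.Agent.Root.Mx

open Cfsg.Agent.Geom Cfsg.Agent.AutCl Module QuadraticMap

variable {F : Type*} [Field F] {σ : F →+* F} {V : Type*} [AddCommGroup V] [Module F V]
  {Φ : Formed σ V}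

theorem Dec.finrank_eq [FiniteDimensional F V] {t k : ℕ} {D : Fin t → Submodule F V} (h : Dec k D) :
    finrank F V = t * k := by
  have := DirectSum.isInternal_submodule_of_iSupIndep_of_iSup_eq_top h.indep h.top
  rw [← (LinearEquiv.ofBijective (DirectSum.coeLinearMap D) this).finrank_eq, finrank_directSum]
  simp [h.rk]

theorem HasE.of_tv {X : Subgroup (V ≃ₗ[F] V)} {x b : V} {t : F} (h1 : HasE Φ X (x + b) 0 t)
    (h2 : HasE Φ X x 0 t) (h3 : HasE Φ X b 0 t) (e : Φ.B x b = 0) :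
    HasE Φ X x ((Φ.ε * t) • b) 0 := by
  have ht : σ t = -(Φ.ε * t) := by linear_combination h2.hB + (map_zero (Φ.B 0))
  obtain ⟨g1, m1, i1⟩ := h1
  obtain ⟨g2, m2, i2⟩ := h2
  obtain ⟨g3, m3, i3⟩ := h3
  have e' := Φ.B_eq_zero_symm e
  refine ⟨g1 * g2⁻¹ * g3⁻¹, mul_mem (mul_mem m1 (inv_mem m2)) (inv_mem m3), i2.sp, by simp [e],
    by rw [Φ.Q_smul, i3.sp.1]; simp, by simp [Φ.B_smul_left, i3.sp.2], fun v => ?_⟩
  rw [LinearEquiv.mul_apply, LinearEquiv.mul_apply, i3.inv.app, i2.inv.app, i1.app]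
  simp only [neg_zero, map_zero, LinearMap.zero_apply, smul_zero, sub_zero, map_add, map_smul,
    LinearMap.add_apply, e, e', i2.sp.2, i3.sp.2, smul_eq_mul, mul_zero, add_zero, Φ.B_smul_left,
    map_mul, Φ.σε, ht]
  match_scalars
  · ring
  · linear_combination (t * Φ.B b v + Φ.B x v * t) * Φ.εε
  · linear_combination (t * Φ.B b v + Φ.B x v * t) * Φ.εε

variable [FiniteDimensional F V]

/-- The torus trick for transvection groups. -/
theorem OX.win_tv {t k : ℕ} {D : Fin t → Submodule F V} {X : Subgroup (V ≃ₗ[F] V)} (h : OX Φ k D X)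
    {j : Fin t} {p x : V} {d : F} (hd : d ≠ 0) (hp : HasE Φ X p 0 d) (hj : p ∉ D j) (hx : x ∈ D j)
    (hx0 : x ≠ 0) (hs : Φ.Sing x) (e : Φ.B x p = 0) {s : V ≃ₗ[F] V} (h1 : s ∈ X) (h2 : s p = x + p) :
    EG Φ ≤ X := by
  obtain ⟨g, hg⟩ := exists_isE h.hn hs (map_zero _) hp.hQ hp.hB
  have h3 := hp.conj h1 (EG_le_isom (h.le' h1))
  rw [h2, map_zero] at h3
  exact h.win hx hx0 (h3.of_tv ⟨g, h.inE h.le j x hx 0 (zero_mem _) d g hg, hg⟩ hp e)
    (by rwa [(D j).smul_mem_iff (mul_ne_zero Φ.ε_ne_zero hd)])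

section Alt
variable {B : LinearMap.BilinForm F V} {hA : B.IsAlt}

omit [FiniteDimensional F V] in
theorem sing_alt (x : V) : (Formed.ofAlt B hA).Sing x := ⟨rfl, hA x⟩

theorem exists_tv_alt (hn : (Formed.ofAlt B hA).Nondeg) (x : V) (d : F) :
    ∃ g, IsE (Formed.ofAlt B hA) x 0 d g :=
  exists_isE hn (sing_alt x) (map_zero _) (by simp [Formed.ofAlt]) (by simp [Formed.ofAlt])

theorem irr_alt (hn : (Formed.ofAlt B hA).Nondeg) (W : Submodule F V) : Irr (Formed.ofAlt B hA) W := by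
  rintro A h a ha ⟨y, hy, e⟩ w hw
  have key : ∀ y ∈ W, (Formed.ofAlt B hA).B y a ≠ 0 → y ∈ A := fun y hy e => by
    obtain ⟨g, hg⟩ := exists_tv_alt hn y ((Formed.ofAlt B hA).B y a)⁻¹
    have := A.sub_mem ha (h y hy 0 (zero_mem _) _ g hg a ha)
    rw [hg.app, inv_mul_cancel₀ e] at this
    simpa using this
  by_cases e' : (Formed.ofAlt B hA).B w a = 0
  · simpa using A.sub_mem (key (w + y) (add_mem hw hy) (by rwa [Formed.B_add_left, e', zero_add]))
      (key y hy e)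
  · exact key w hw e'

theorem ODec.isMaximalIn_alt [Finite F] {t k : ℕ} {D : Fin t → Submodule F V}
    (h : ODec (Formed.ofAlt B hA) k D) (hE : EG (Formed.ofAlt B hA) = (Formed.ofAlt B hA).isom)
    (hex : ¬ (k = 2 ∧ Nat.card F = 2)) :
    Geo.IsMaximalIn (EG (Formed.ofAlt B hA)) (dstab D ⊓ EG (Formed.ofAlt B hA)) := by
  have hnd := fun i => restrict_ofAlt B hA (D i) ▸ h.nd i
  obtain ⟨m, hm⟩ : Even k := h.rk ⟨1, h.two_le⟩ ▸ even_finrank_of_alt (hnd _)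
  refine h.isMaximalIn (h.sw (fun i => adj_of_eq hE _) fun i j => ?_) (fun i => irr_alt h.hn _)
    (fun i => ?_) fun X hX g hg i x hx hx0 hs hD => ?_
  · obtain ⟨e, he⟩ := exists_isIso_sympFormed (hnd i) (m := m) (by rw [h.rk]; omega)
    obtain ⟨e', he'⟩ := exists_isIso_sympFormed (hnd j) (m := m) (by rw [h.rk]; omega)
    exact ⟨_, he.trans he'.symm⟩
  · obtain ⟨x, hx, hx0⟩ := h.exists_ne i
    exact ⟨x, hx, exists_pair_mem h.hn (h.nd i) hx hx0 (sing_alt x)⟩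
  have ex : ∀ i (s : Fin 3 → V), 4 ≤ k → ∃ z ∈ D i, z ≠ 0 ∧ ∀ l, B (s l) z = 0 := fun i s h4 => by
    simpa using exists_mem_notMem (Φ := Formed.ofAlt B hA) (U := D i) (S := ⊥) s (by
      rw [sup_bot_eq, h.rk, finrank_bot]; omega)
  by_cases hq : Nat.card F = 2
  · have h4 : 4 ≤ k := by have := h.pos; omega
    refine hX.step2 (fun j p a d ha hp v hv e1 e2 => ?_) (fun i x y => ?_) hg hx hs hD
    · obtain ⟨z, hz, hz0, e⟩ := ex j ![p, a, v] h4
      exact hX.win0 ((D j).smul_mem _ hz) (smul_ne_zero e2 hz0) (((h.inE hX.le j).hasE0 h.hn hz hv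
        (sing_alt z) (sing_alt v) (Formed.B_eq_zero_symm _ (e 2))).move ha
          (Formed.B_eq_zero_symm _ (e 0)) e1 (Formed.B_eq_zero_symm _ (e 1))) hp
    · obtain ⟨z, hz, hz0, e⟩ := ex i ![x, y, 0] h4
      exact ⟨z, hz, hz0, sing_alt z, e 0, e 1⟩
  obtain ⟨c, hc0, hc1⟩ := exists_ne_zero_ne_one hq
  obtain ⟨j, -, r, hr, e⟩ := h.exists_ne_perp (hD i)
  obtain ⟨p, hp, e1⟩ := exists_prj h.hn (h.nd j) (g x)
  have hp0 : p ≠ 0 := by rintro rfl; exact e ((e1 r hr).symm.trans (map_zero _))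
  obtain ⟨f, hf, hpf⟩ := exists_pair_mem h.hn (h.nd j) hp hp0 (sing_alt p)
  obtain ⟨s, hs'⟩ := exists_tv_alt h.hn x 1
  have h1 := (HasE.conj ⟨s, h.inE hX.le i x hx 0 (zero_mem _) 1 s hs', hs'⟩ hg
    (EG_le_isom (hX.le' hg))).congr (map_zero _) rfl
  have h2 : (Formed.ofAlt B hA).B p (g x) = 0 := (e1 p hp).symm.trans (hA p)
  refine hX.win_tv one_ne_zero h1 (hD j) ((D j).smul_mem (c - 1) hp)
    (smul_ne_zero (sub_ne_zero.2 hc1) hp0) (sing_alt _) (by rw [Formed.B_smul_left, h2, mul_zero])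
    (s := (hpf.torus (Units.mk0 c hc0)).1) (hX.le ⟨h.mem_dstab_of_fix (i := j) (hpf.torus _).2
      fun v hv => hpf.torus_perp _ ((Formed.mem_pairPerp _).2 ⟨hv p hp, hv f hf⟩),
        hE.ge (hpf.torus _).2⟩) ?_
  rw [hpf.torus_apply, h2, ← e1 f hf, hpf.fe, mul_assoc, Formed.εε]
  simp [add_comm]

end Alt

/-- All multiples of `a` are vector data of Eichler maps at `p` in `X`. -/
def HasM (Φ : Formed σ V) (X : Subgroup (V ≃ₗ[F] V)) (p a : V) : Prop :=
  ∀ c : F, ∃ d, HasE Φ X p (c • a) d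

namespace HasM
omit [FiniteDimensional F V]
variable {X : Subgroup (V ≃ₗ[F] V)} {p a b : V}

theorem one (h : HasM Φ X p a) : ∃ d, HasE Φ X p a d := by simpa using h 1
theorem sp (h : HasM Φ X p a) : Φ.Sing p := let ⟨_, h⟩ := h.one; h.sp
theorem pa (h : HasM Φ X p a) : Φ.B p a = 0 := let ⟨_, h⟩ := h.one; h.pa
theorem smul (h : HasM Φ X p a) (c : F) : HasM Φ X p (c • a) := fun e => by
  rw [smul_smul]; exact h _
theorem of_smul {c : F} (h : HasM Φ X p (c • a)) (hc : c ≠ 0) : HasM Φ X p a := by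
  simpa [smul_smul, hc] using h.smul c⁻¹
theorem sub (h : HasM Φ X p a) (h' : HasM Φ X p b) : HasM Φ X p (a - b) := fun c => by
  obtain ⟨_, h1⟩ := h c
  obtain ⟨_, h2⟩ := h' c
  rw [smul_sub]; exact h1.sub h2
theorem self (hp : Φ.Sing p) : HasM Φ X p p := fun c => smul_mem_AE hp c
theorem conj (h : HasM Φ X p a) {s : V ≃ₗ[F] V} (hs : s ∈ X) (hs' : s ∈ Φ.isom) :
    HasM Φ X (s p) (s a) := fun c => by
  obtain ⟨d, h1⟩ := h c
  exact ⟨d, (h1.conj hs hs').congr (map_smul _ _ _) rfl⟩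
theorem fix (h : HasM Φ X p a) {s : V ≃ₗ[F] V} (hs : s ∈ X) (hs' : s ∈ Φ.isom) (e : s p = p) :
    HasM Φ X p (a - s a) := h.sub (e ▸ h.conj hs hs')

end HasM

theorem mem_of_key (hn : Φ.Nondeg) {W : Submodule F V} (hW : (Φ.restrict W).Nondeg)
    (h3 : 3 ≤ finrank F W) (A : AddSubgroup V) {x a : V} (hx : x ∈ W) (hs : Φ.Sing x)
    (hA : ∀ y ∈ W, ∀ d g, IsE Φ x y d g → g a ∈ A) (ha : a ∈ A) (h : Φ.B x a ≠ 0) : x ∈ A := by
  obtain ⟨y, hy, y', hy', h1, h2, h3⟩ := exists_B_eq hn hW h3 hx (by rintro rfl; simp at h) hs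
    (-(Φ.ε * (Φ.B x a)⁻¹))
  obtain ⟨d, g, hg⟩ := exists_isE' hn hs h1
  obtain ⟨d', g', hg'⟩ := exists_isE' hn hs h2
  have := A.sub_mem (A.add_mem (hA _ (W.add_mem hy hy') _ _ (hg.mul hg')) ha)
    (A.add_mem (hA _ hy _ _ hg) (hA _ hy' _ _ hg'))
  convert this using 1
  rw [(hg.mul hg').app, hg.app, hg'.app, h3, Φ.B_add_left]
  match_scalars
  · field_simp; linear_combination -Φ.εε
  all_goals ring

omit [FiniteDimensional F V] in
theorem Q_sum {ι : Type*} (s : Finset ι) (f : ι → V) (h : ∀ i j, i ≠ j → Φ.B (f i) (f j) = 0) :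
    Φ.Q (∑ i ∈ s, f i) = ∑ i ∈ s, Φ.Q (f i) := by
  classical
  induction s using Finset.induction_on with
  | empty => simp
  | insert i s hi ih =>
    rw [Finset.sum_insert hi, Finset.sum_insert hi, Φ.Q_add, ih, map_sum,
      Finset.sum_eq_zero fun j hj => h i j (by rintro rfl; exact hi hj)]
    simp

theorem ODec.exists_sum {t k : ℕ} {D : Fin t → Submodule F V} (h : ODec Φ k D) (v : V) :
    ∃ π : Fin t → V, (∀ i, π i ∈ D i) ∧ (∀ i, ∀ x ∈ D i, Φ.B x (π i) = Φ.B x v) ∧ ∑ i, π i = v := by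
  choose π h1 h2 using fun i => exists_prj h.hn (h.nd i) v
  refine ⟨π, h1, h2, sub_eq_zero.1 (h.eq_zero' fun i x hx => ?_)⟩
  rw [map_sub, map_sum, Finset.sum_eq_single i (fun j _ hj => h.orth i j hj.symm x hx _ (h1 j)) (by simp),
    h2 i x hx, sub_self]

section Quad
variable {Q : QuadraticForm F V} {t k : ℕ} {D : Fin t → Submodule F V} {X : Subgroup (V ≃ₗ[F] V)}
  [Finite F]

omit [Finite F] in
theorem OX.win_quad (h : OX (Formed.ofQuad Q) k D X) {i : Fin t} {p z : V} {d : F} (hz : z ∈ D i)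
    (hz0 : z ≠ 0) (hs : Q z = 0) (ha : HasE (Formed.ofQuad Q) X p z d) (hi : p ∉ D i) :
    EG (Formed.ofQuad Q) ≤ X :=
  h.win0 hz hz0 (ha.congr rfl (((one_mul d).symm.trans ha.hQ).trans hs)) hi

omit [Finite F] in
/-- The case of a singular component. -/
theorem OX.win_sing (h : OX (Formed.ofQuad Q) k D X) (h3 : 3 ≤ k) {j : Fin t} {p a v x : V} {d : F}
    (ha : HasE (Formed.ofQuad Q) X p a d) (hp : p ∉ D j) (hv : v ∈ D j) (e1 : polar Q v p = 0)
    (e2 : polar Q v a ≠ 0) (hx : x ∈ D j) (hx0 : x ≠ 0) (hs : Q x = 0)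
    (e : ∀ y ∈ D j, polar Q y x = polar Q y p) : EG (Formed.ofQuad Q) ≤ X := by
  have hs' := Formed.sing_ofQuad.2 hs
  have e3 : polar Q x p = 0 := (e x hx).symm.trans hs'.2
  by_cases e4 : polar Q x a = 0
  · obtain ⟨d', h1⟩ := (h.inE h.le j).hasE h.hn hx hv hs' ((polar_comm _ _ _).trans ((e v hv).trans e1))
    exact h.win0 ((D j).smul_mem _ hx) (smul_ne_zero e2 hx0) (h1.move ha e3 e1 e4) hp
  · obtain ⟨d', h1⟩ := mem_of_key h.hn (h.nd j) (by rw [h.rk]; exact h3) (AE _ X ha.sp) hx hs'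
      (fun y hy _ g hg => map_mem_AE (h.inE h.le j x hx y hy _ g hg) hg.mem_isom (by
        rw [hg.apply_perp e3, ofQuad_B_apply, ← e y hy, show polar Q y x = 0 from hg.ap]; simp)
        ⟨d, ha⟩) ⟨d, ha⟩ e4
    exact h.win_quad hx hx0 hs h1 hp

theorem OX.refl_mul_mem (h : OX (Formed.ofQuad Q) k D X) (h5 : 5 ≤ finrank F V) {j l : Fin t} {u w : V}
    (hu : u ∈ D j) (hw : w ∈ D l) (h0 : Q w ≠ 0) (e : Q u = Q w) :
    (refl Q u * refl Q w).1 ∈ X :=
  h.le ⟨mul_mem (h.mem_dstab_of_fix (refl Q u).2 (refl_mem_fix (Formed.le_perp_perp _ _ hu)))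
    (h.mem_dstab_of_fix (refl Q w).2 (refl_mem_fix (Formed.le_perp_perp _ _ hw))),
    (mem_EG_quad h.hn h5).2 (refl_mul_refl_mem_commutator h.hn h0 one_ne_zero (by simp [e]))⟩

theorem OX.stage1 (h : OX (Formed.ofQuad Q) k D X) (h2 : (2 : F) ≠ 0) (h5 : 5 ≤ finrank F V) (h3 : 3 ≤ k)
    (hq : k = 3 → ∃ s : F, s ≠ 0 ∧ s ^ 2 ≠ 1) {j : Fin t} {p a v : V}
    (ha : HasM (Formed.ofQuad Q) X p a) (hp : p ∉ D j) (hv : v ∈ D j) (e1 : polar Q v p = 0)
    (e2 : polar Q v a ≠ 0) : EG (Formed.ofQuad Q) ≤ X := by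
  obtain ⟨π, m, e, hπ⟩ := h.exists_sum p
  obtain ⟨d, ha1⟩ := ha.one
  by_cases h0 : π j = 0
  · exact h.winW le_rfl (h.nd j) (by rw [h.rk]; exact h3) ha1
      (fun w hw => (e j w hw).symm.trans (by rw [h0, map_zero])) ⟨v, hv, e2⟩ hp
  by_cases h1 : Q (π j) = 0
  · exact h.win_sing h3 ha1 hp hv e1 e2 (m j) h0 h1 (e j)
  have nd : ∀ l, Q (π l) ≠ 0 → ((Formed.ofQuad Q).restrict (D l ⊓ (Formed.ofQuad Q).perp (F ∙ π l))).Nondeg ∧
      finrank F ↥(D l ⊓ (Formed.ofQuad Q).perp (F ∙ π l)) + 1 = k ∧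
      ∀ w, w ∈ D l ⊓ (Formed.ofQuad Q).perp (F ∙ π l) ↔ w ∈ D l ∧ polar Q w p = 0 := fun l hl => by
    have hs := (Submodule.span_singleton_le_iff_mem _ _).2 (m l)
    have := finrank_inf_perp h.hn (h.nd l) hs
    rw [finrank_span_singleton (by rintro e; simp [e] at hl), h.rk] at this
    refine ⟨nondeg_inf_perp h.hn (h.nd l) (Formed.nondeg_span_singleton _ (by
      rw [ofQuad_B_apply, polar_self']; exact mul_ne_zero h2 hl)) hs, this,
      fun w => and_congr_right fun hw => ?_⟩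
    rw [SetLike.mem_coe, Formed.mem_perp_span_singleton, Formed.B_eq_zero_comm, e l w hw]; rfl
  obtain ⟨n1, n2, n3⟩ := nd j h1
  by_cases hk : k = 3
  swap
  · exact h.winW inf_le_left n1 (by omega) ha1 (fun w hw => ((n3 w).1 hw).2) ⟨v, (n3 v).2 ⟨hv, e1⟩, e2⟩ hp
  obtain ⟨l, hl, hκ⟩ : ∃ l ≠ j, Q (π l) ≠ 0 := by
    by_contra! hc
    have := Q_sum (Φ := Formed.ofQuad Q) Finset.univ π fun a b e => h.orth a b e _ (m a) _ (m b)
    rw [hπ, ha.sp.1, Finset.sum_eq_single j (fun l _ hl => by exact hc l hl) (by simp)] at this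
    exact h1 this.symm
  obtain ⟨l1, l2, l3⟩ := nd l hκ
  obtain ⟨w, hw, hw'⟩ := exists_Q_eq Q _ l1 (by omega) (Q (π l))
  obtain ⟨u₀, hu₀, hu₀'⟩ := exists_Q_eq Q _ n1 (by omega) (Q (π l))
  generalize D j ⊓ (Formed.ofQuad Q).perp (F ∙ π j) = P at n1 n2 n3 hu₀
  have cls : ∀ S : Submodule F V, ¬ P ≤ S → ∃ u ∈ P, Q u = Q (π l) ∧ u ∉ S := fun S hS => by
    by_contra! hc
    exact hS ((le_span_class h2 n1 hu₀ (hu₀' ▸ hκ) (Or.inl (hq hk))).trans
      (Submodule.span_le.2 fun x hx => hc x hx.1 (hx.2.trans hu₀')))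
  have cls' : ∀ b, (∃ v ∈ P, polar Q v b ≠ 0) → ∃ u ∈ P, Q u = Q (π l) ∧ polar Q u b ≠ 0 :=
    fun b ⟨v, hv, e⟩ => by
      obtain ⟨u, h1, h2, h3⟩ := cls (LinearMap.ker (Q.polarBilin b)) fun hc =>
        e ((polar_comm _ _ _).trans (hc hv))
      exact ⟨u, h1, h2, fun e => h3 ((polar_comm _ _ _).trans e)⟩
  obtain ⟨u, hu, q1, b1⟩ := cls' a ⟨v, (n3 v).2 ⟨hv, e1⟩, e2⟩
  obtain ⟨u', hu', q2, b2⟩ := cls (F ∙ u) fun hc => by
    have := (Submodule.finrank_mono hc).trans (finrank_span_one u); omega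
  have f1 := ha.fix (h.refl_mul_mem h5 ((n3 u).1 hu).1 ((n3 u').1 hu').1 (q2 ▸ hκ) (q1.trans q2.symm))
    (refl Q u * refl Q u').2
    (by rw [OG.mul_apply, refl_of_perp ((n3 u').1 hu').2, refl_of_perp ((n3 u).1 hu).2])
  obtain ⟨b, hb, hb0, f2⟩ : ∃ b ∈ P, b ≠ 0 ∧ HasM (Formed.ofQuad Q) X p b := by
    refine ⟨_, ?_, fun hc => ?_, f1⟩
    · rw [OG.mul_apply, refl_apply, refl_apply, sub_sub, sub_sub_cancel]
      exact add_mem (P.smul_mem _ hu') (P.smul_mem _ hu)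
    · rw [OG.mul_apply, refl_apply, refl_apply, sub_sub, sub_sub_cancel] at hc
      by_cases e : polar Q u' a = 0
      · simp [e, q1, hκ, b1] at hc
        simp [hc] at b1
      · refine b2 (((F ∙ u).smul_mem_iff (mul_ne_zero (inv_ne_zero (q2 ▸ hκ)) e)).1 ?_)
        rw [eq_neg_of_add_eq_zero_left hc]
        exact neg_mem (Submodule.smul_mem _ _ (Submodule.mem_span_singleton_self _))
  obtain ⟨x, hx, q3, b3⟩ := cls' b (by
    by_contra! hc; exact hb0 (eq_zero_of_nd n1 hb hc))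
  obtain ⟨x1, x2⟩ := (n3 x).1 hx
  obtain ⟨w1, w2⟩ := (l3 w).1 hw
  have o : ∀ y ∈ D l, ∀ z ∈ D j, polar Q y z = 0 := h.orth l j hl
  have f3 : HasM (Formed.ofQuad Q) X p x := by
    have := f2.fix (h.refl_mul_mem h5 x1 w1 (hw' ▸ hκ) (q3.trans hw'.symm)) (refl Q x * refl Q w).2
      (by rw [OG.mul_apply, refl_of_perp w2, refl_of_perp x2])
    rw [OG.mul_apply, refl_of_perp (o w w1 b ((n3 b).1 hb).1), refl_apply, sub_sub_cancel] at this
    exact this.of_smul (mul_ne_zero (inv_ne_zero (q3 ▸ hκ)) b3)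
  have e3 : polar Q (π l) p = 2 * Q (π l) := (e l _ (m l)).symm.trans (polar_self' Q _)
  have e4 : polar Q (π l) x = 0 := o _ (m l) _ x1
  have f4 : HasM (Formed.ofQuad Q) X (p - (2 : F) • π l) x := by
    have := f3.conj (h.refl_mul_mem h5 (m l) x1 (q3 ▸ hκ) q3.symm) (refl Q (π l) * refl Q x).2
    rw [OG.mul_apply, OG.mul_apply, refl_of_perp x2, refl_self (q3 ▸ hκ), map_neg, refl_of_perp e4,
      refl_apply, e3, mul_comm 2, inv_mul_cancel_left₀ hκ, ← neg_one_smul F x] at this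
    exact this.of_smul (by simp)
  obtain ⟨d1, s, hs, hs'⟩ := f4 (2 * Q (π l))⁻¹
  have h4 : (4 : F) ≠ 0 := by rw [show (4 : F) = 2 * 2 by ring]; exact mul_ne_zero h2 h2
  have hd : d1 = (4 * Q (π l))⁻¹ := by
    have := hs'.hQ
    change 1 * d1 = Q _ at this
    rw [one_mul, quad_smul, q3] at this
    rw [this]; field_simp; ring
  obtain ⟨d2, f5⟩ := (f3.conj hs hs'.mem_isom).one
  have e5 : polar Q p p = 0 := ha.sp.2
  have e6 : polar Q p x = 0 := f3.pa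
  have sp : ∀ y ∈ D l, polar Q y (s p) = 0 := fun y hy => by
    have e7 : polar Q y (π l) = polar Q y p := e l y hy
    rw [hs'.app]
    simp only [ofQuad_B_apply, polar_add_right, polar_sub_right, polar_smul_right, polar_sub_left,
      polar_smul_left, smul_eq_mul, e3, e5, x2, e7, o y hy x x1, hd]
    field_simp; ring
  refine h.winW le_rfl (h.nd l) (by rw [h.rk]; exact h3) f5 sp ⟨π l, m l, ?_⟩ fun hc => hp ?_
  · rw [hs'.apply_perp f4.pa]
    simp only [ofQuad_B_apply, polar_add_right, polar_sub_right, polar_smul_right,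
      polar_smul_left, smul_eq_mul, e3, e4, polar_self', q3]
    field_simp
    simp [show (1 : F) - 2 = -1 by ring, h2, hκ]
  · rw [(map_eq_zero_iff s s.injective).1 (eq_zero_of_nd (h.nd l) hc sp)]; exact zero_mem _

omit [Finite F] in
theorem exists_nonsing_perp (hn : (Formed.ofQuad Q).Nondeg) {W : Submodule F V}
    (hW : ((Formed.ofQuad Q).restrict W).Nondeg) (h3 : 3 ≤ finrank F W) {x : V} (hx : x ∈ W) (hx0 : x ≠ 0)
    (hs : Q x = 0) : ∃ y ∈ W, polar Q x y = 0 ∧ Q y ≠ 0 := by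
  obtain ⟨r, hr, hp⟩ := exists_pair_mem hn hW hx hx0 (Formed.sing_ofQuad.2 hs)
  have hs : (F ∙ x) ⊔ (F ∙ r) ≤ W := sup_le ((Submodule.span_singleton_le_iff_mem _ _).2 hx)
    ((Submodule.span_singleton_le_iff_mem _ _).2 hr)
  have := finrank_inf_perp hn hW hs
  rw [hp.finrank_span] at this
  obtain ⟨y, hy, e⟩ := exists_nonsing (nondeg_inf_perp hn hW hp.nondeg_span hs) (by
    intro e; rw [e, finrank_bot] at this; omega)
  exact ⟨y, hy.1, (mem_pairPerp_quad.1 hy.2).1, e⟩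

theorem ODec.isMaximalIn_quad_odd (h : ODec (Formed.ofQuad Q) k D) (sw : Sw (Formed.ofQuad Q) D)
    (h2 : (2 : F) ≠ 0) (h5 : 5 ≤ finrank F V) (h3 : 3 ≤ k) (hq : k = 3 → ∃ s : F, s ≠ 0 ∧ s ^ 2 ≠ 1) :
    Geo.IsMaximalIn (EG (Formed.ofQuad Q)) (dstab D ⊓ EG (Formed.ofQuad Q)) := by
  have k3 : ∀ i, 3 ≤ finrank F (D i) := fun i => by rw [h.rk]; exact h3
  refine h.isMaximalIn sw (fun i => irr_of_three h.hn (h.nd i) (k3 i))
    (fun i => exists_pair h.hn (h.nd i) (k3 i)) fun X hX g hg i x hx hx0 hs hD => ?_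
  have hg' := EG_le_isom (hX.le' hg)
  obtain ⟨j, -, r, hr, e⟩ := h.exists_ne_perp (hD i)
  obtain ⟨y, hy, e1, e2⟩ := exists_nonsing_perp h.hn (h.nd i) (k3 i) hx hx0 hs.1
  have f1 : HasM (Formed.ofQuad Q) X (g x) (g y) := HasM.conj (fun c =>
    (h.inE hX.le i).hasE h.hn hx ((D i).smul_mem c hy) hs (by simp [e1])) hg hg'
  replace e2 : Q (g y) ≠ 0 := fun e => e2 ((hg'.2 y).symm.trans e)
  have hp := hD j
  change polar Q r (g x) ≠ 0 at e
  generalize g x = p at *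
  generalize g y = a₀ at *
  by_contra hc
  obtain ⟨a, f2, q1, o⟩ : ∃ a, HasM (Formed.ofQuad Q) X p a ∧ Q a ≠ 0 ∧ ∀ v ∈ D j, polar Q v a = 0 := by
    refine ⟨_, f1.sub ((HasM.self f1.sp).smul (polar Q r a₀ / polar Q r p)), ?_, fun v hv => ?_⟩
    · rwa [sub_eq_add_neg, ← neg_smul, quad_add_smul_of_perp f1.sp.1 f1.pa]
    · by_contra h4
      refine hc (hX.stage1 h2 h5 h3 hq f1 hp (v := v - (polar Q v p / polar Q r p) • r)
        (sub_mem hv ((D j).smul_mem _ hr)) ?_ fun h6 => h4 ?_)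
      · simp [e]
      · simp only [polar_sub_left, polar_smul_left, polar_sub_right, polar_smul_right, smul_eq_mul] at h6 ⊢
        linear_combination h6
  obtain ⟨z, hz, hzs, e3⟩ : ∃ z ∈ D j, Q z = 0 ∧ polar Q z p = 1 := by
    obtain ⟨a, ha, b, hb, hab⟩ := hX.pair j
    obtain ⟨z, hz, h6, h7⟩ : ∃ z ∈ D j, Q z = 0 ∧ polar Q p z ≠ 0 := by
      by_contra! h6
      exact e ((polar_comm _ _ _).trans (sing_ind ha hb hab (LinearMap.ker (Q.polarBilin p)).toAddSubgroup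
        (fun x hx hs => h6 x hx hs.1) r hr))
    exact ⟨(polar Q p z)⁻¹ • z, (D j).smul_mem _ hz, by simp [quad_smul, h6],
      by simp [polar_comm Q z p, h7]⟩
  obtain ⟨y₁, hy₁, e4, e5⟩ := exists_nonsing_perp h.hn (h.nd j) (k3 j) hz (by rintro rfl; simp at e3) hzs
  obtain ⟨u, hu, e6, e7, e8⟩ : ∃ u ∈ D j, polar Q z u = 0 ∧ polar Q u p = 0 ∧ Q u ≠ 0 :=
    ⟨y₁ + (-polar Q y₁ p) • z, add_mem hy₁ ((D j).smul_mem _ hz), by simp [e4, polar_self', hzs],
      by simp [e3], by rwa [quad_add_smul_of_perp hzs e4]⟩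
  have i1 := isE_eich hzs e6
  have f3 := f2.conj (h.inE hX.le j z hz u hu _ _ i1) i1.mem_isom
  rw [i1.apply_perp (o z hz), ofQuad_B_apply, o u hu, zero_smul, add_zero, i1.app] at f3
  simp only [ofQuad_B_apply, e3, e7, show (Formed.ofQuad Q).ε = 1 from rfl, mul_one, one_smul,
    zero_sub] at f3
  obtain ⟨d, s, hs1, hs2⟩ := f3.one
  have hd : d = Q a := (one_mul d).symm.trans hs2.hQ
  have b1 : polar Q p p = 0 := f2.sp.2
  have b2 : polar Q a p = 0 := (polar_comm _ _ _).trans f2.pa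
  have b3 : polar Q a z = 0 := (polar_comm _ _ _).trans (o z hz)
  have b4 : polar Q a u = 0 := (polar_comm _ _ _).trans (o u hu)
  have b5 : polar Q u z = 0 := (polar_comm _ _ _).trans e6
  refine hc (hX.stage1 h2 h5 h3 hq (f2.conj hs1 hs2.mem_isom) (j := j) (fun h6 => ?_)
    (v := (-(Q a * Q u)) • z - ((1 + Q a * Q u) / (2 * Q u)) • u)
    (sub_mem ((D j).smul_mem _ hz) ((D j).smul_mem _ hu)) ?_ ?_)
  · have := (polar_comm _ _ _).trans (o _ h6)
    rw [hs2.app] at this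
    simp [show (Formed.ofQuad Q).ε = 1 from rfl, b1, b2, b3, b4, e3, e7, polar_self', e8, q1, h2] at this
  · rw [hs2.app]
    simp only [ofQuad_B_apply, show (Formed.ofQuad Q).ε = 1 from rfl, polar_add_right, polar_sub_right,
      polar_smul_right, polar_sub_left, polar_add_left, polar_smul_left, smul_eq_mul, b1, b2, b5, e3, e6,
      e7, polar_self', hzs, hd, o z hz, o u hu]
    field_simp; ring
  · rw [hs2.apply_perp f3.pa]
    simp only [ofQuad_B_apply, polar_add_right, polar_sub_right,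
      polar_smul_right, polar_sub_left, polar_smul_left, smul_eq_mul, b5, e3, e6,
      e7, polar_self', hzs, o z hz, o u hu]
    intro h6
    refine mul_ne_zero (mul_ne_zero h2 q1) (mul_ne_zero h2 e8) ?_
    field_simp at h6
    linear_combination h6

end Quad

end Cfsg.Agent.Root.Mx
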