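import Cfsg.Agent.Root.RankOne

/-! General criteria: a perfect group all of whose proper normal subgroups are central is quasisimple;
rank one groups: normal subgroups, `Z₂ = Z`, perfect rank one groups are quasisimple. -/

namespace Cfsg.Agent.Root
open Cfsg

variable {G : Type*} [Group G]

/-- A perfect non-abelian group in which every normal subgroup is central or everything is
quasisimple. -/
theorem isQuasisimple_of_normal (hp : Group.IsPerfect G) (hZ : Subgroup.center G ≠ ⊤)
    (h : ∀ N : Subgroup G, N.Normal → N = ⊤ ∨ N ≤ Subgroup.center G) : IsQuasisimple G := by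
  refine ⟨hp, ?_⟩
  have : Nontrivial (G ⧸ Subgroup.center G) := QuotientGroup.nontrivial_iff.2 hZ
  refine ⟨fun N hN => ?_⟩
  rcases h (N.comap (QuotientGroup.mk' _)) inferInstance with e | e
  · right
    rw [← Subgroup.comap_top (QuotientGroup.mk' (Subgroup.center G))] at e
    exact Subgroup.comap_injective (QuotientGroup.mk'_surjective _) e
  · left
    rw [eq_bot_iff]
    intro x hx
    obtain ⟨y, rfl⟩ := QuotientGroup.mk'_surjective _ x
    exact (QuotientGroup.eq_one_iff y).2 (e hx)

/-- If `G = N A` with `N` normal, `A` nilpotent and `G` perfect then `N = G`. -/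
theorem eq_top_of_sup_nilpotent (hp : Group.IsPerfect G) {N A : Subgroup G} [N.Normal]
    (hA : Group.IsNilpotent A) (h : N ⊔ A = ⊤) : N = ⊤ := by
  have hs : Function.Surjective ((QuotientGroup.mk' N).comp A.subtype) := by
    intro x
    obtain ⟨y, rfl⟩ := QuotientGroup.mk'_surjective _ x
    obtain ⟨n, hn, a, ha, rfl⟩ := Subgroup.mem_sup_of_normal_left.1 (h ▸ Subgroup.mem_top y)
    exact ⟨⟨a, ha⟩, by simp [(QuotientGroup.eq_one_iff n).2 hn]⟩
  have h1 : Group.IsNilpotent (G ⧸ N) := Group.nilpotent_of_surjective _ hs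
  by_contra hne
  have : Nontrivial (G ⧸ N) := QuotientGroup.nontrivial_iff.2 hne
  exact Group.IsPerfect.not_isNilpotent (G ⧸ N) h1

theorem conjBy_of_normal {N : Subgroup G} [hN : N.Normal] (g : G) : conjBy N g = N :=
  conjBy_eq_iff_mem_normalizer.2 (by rw [Subgroup.normalizer_eq_top]; trivial)

theorem normal_of_conjBy {N : Subgroup G} (h : ∀ g, conjBy N g = N) : N.Normal :=
  ⟨fun n hn g => by rw [← h g]; exact conj_mem_conjBy g hn⟩

theorem comm_top_iff {N : Subgroup G} : Comm N ⊤ ↔ N ≤ Subgroup.center G := by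
  rw [← comm_iff, Subgroup.commutator_top_right_eq_bot_iff_le_center]

namespace R1
variable {A B : Subgroup G}

theorem normal_dichotomy_top (h : IsRankOneGroup G A B) (N : Subgroup G) (hN : N.Normal) :
    N ⊔ A = ⊤ ∨ N ≤ Subgroup.center G := by
  rcases normal_dichotomy h.2 (N := N) (h.1 ▸ le_top) (fun x _ => conjBy_of_normal x) with e | e
  · left; rw [h.1] at e; exact top_le_iff.1 e
  · right; rw [h.1] at e; exact comm_top_iff.1 e

theorem center_ne_top (h : IsRankOneGroup G A B) : Subgroup.center G ≠ ⊤ := by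
  intro e
  exact not_comm h.2 fun a _ b _ => (Subgroup.mem_center_iff.1 (e ▸ Subgroup.mem_top b) a)

theorem isQuasisimple_of_perfect (h : IsRankOneGroup G A B) (hp : Group.IsPerfect G) :
    IsQuasisimple G :=
  isQuasisimple_of_normal hp (center_ne_top h) fun N hN =>
    (normal_dichotomy_top h N hN).imp_left (eq_top_of_sup_nilpotent hp h.2.nilpotent_left)

end R1

end Cfsg.Agent.Root
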