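import Cfsg.Agent.Root.Basic

/-! Rank one groups (Timmesfeld): basic structure of `IsRankOnePair A B`: `N_A(B) = 1`, uniqueness of
the partner `b(a)`, the set `Ω` of unipotent subgroups, double transitivity, normal subgroups,
non-nilpotency. Left conjugation convention: the partner relation is `conjBy A b = conjBy B a`. -/

namespace Cfsg.Agent.Root
open Cfsg

variable {G : Type*} [Group G] {A B : Subgroup G}

namespace R1

theorem symm (h : IsRankOnePair A B) : IsRankOnePair B A := RankOnePair_symm h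

theorem ex_left (h : IsRankOnePair A B) {a : G} (ha : a ∈ A) (ha1 : a ≠ 1) :
    ∃ b ∈ B, b ≠ 1 ∧ conjBy A b = conjBy B a := by
  obtain ⟨b, hb, hb1, e⟩ := h.cond_left a⁻¹ (A.inv_mem ha) (inv_ne_one.2 ha1)
  exact ⟨b⁻¹, B.inv_mem hb, inv_ne_one.2 hb1, by simpa using e⟩

theorem ex_right (h : IsRankOnePair A B) {b : G} (hb : b ∈ B) (hb1 : b ≠ 1) :
    ∃ a ∈ A, a ≠ 1 ∧ conjBy A b = conjBy B a := by
  obtain ⟨a, ha, ha1, e⟩ := ex_left (symm h) hb hb1
  exact ⟨a, ha, ha1, e.symm⟩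

/-- Constructor in the left convention. -/
theorem mk' (hne : A ≠ B) (hA : Group.IsNilpotent A) (hB : Group.IsNilpotent B)
    (h1 : ∀ a ∈ A, a ≠ 1 → ∃ b ∈ B, b ≠ 1 ∧ conjBy A b = conjBy B a)
    (h2 : ∀ b ∈ B, b ≠ 1 → ∃ a ∈ A, a ≠ 1 ∧ conjBy A b = conjBy B a) : IsRankOnePair A B := by
  refine ⟨hne, hA, hB, fun a ha ha1 => ?_, fun b hb hb1 => ?_⟩
  · obtain ⟨b, hb, hb1, e⟩ := h1 a⁻¹ (A.inv_mem ha) (inv_ne_one.2 ha1)
    exact ⟨b⁻¹, B.inv_mem hb, inv_ne_one.2 hb1, by simpa using e⟩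
  · obtain ⟨a, ha, ha1, e⟩ := h2 b⁻¹ (B.inv_mem hb) (inv_ne_one.2 hb1)
    exact ⟨a⁻¹, A.inv_mem ha, inv_ne_one.2 ha1, by simpa using e.symm⟩

/-- `N_A(B) = 1`. -/
theorem eq_one_left (h : IsRankOnePair A B) {a : G} (ha : a ∈ A) (e : conjBy B a = B) : a = 1 := by
  by_contra ha1
  obtain ⟨b, hb, -, e'⟩ := ex_left h ha ha1
  apply h.ne
  rw [e] at e'
  have := conjBy_inv_of_eq e'
  rw [conjBy_of_mem (B.inv_mem hb)] at this
  exact this.symm

theorem eq_one_right (h : IsRankOnePair A B) {b : G} (hb : b ∈ B) (e : conjBy A b = A) : b = 1 :=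
  eq_one_left (symm h) hb e

theorem conj_left_inj (h : IsRankOnePair A B) {a a' : G} (ha : a ∈ A) (ha' : a' ∈ A)
    (e : conjBy B a = conjBy B a') : a = a' := by
  have := eq_one_left h (A.mul_mem (A.inv_mem ha') ha) (conjBy_eq_conjBy_iff.1 e)
  exact (inv_mul_eq_one.1 this).symm

theorem conj_right_inj (h : IsRankOnePair A B) {b b' : G} (hb : b ∈ B) (hb' : b' ∈ B)
    (e : conjBy A b = conjBy A b') : b = b' := conj_left_inj (symm h) hb hb' e

theorem left_ne_bot (h : IsRankOnePair A B) : A ≠ ⊥ := by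
  rintro rfl
  have hB : B ≠ ⊥ := h.ne.symm
  obtain ⟨⟨b, hb⟩, hb1⟩ := Subgroup.ne_bot_iff_exists_ne_one.1 hB
  obtain ⟨a, ha, ha1, -⟩ := ex_right h hb (fun e => hb1 (Subtype.ext e))
  exact ha1 (Subgroup.mem_bot.1 ha)

theorem right_ne_bot (h : IsRankOnePair A B) : B ≠ ⊥ := left_ne_bot (symm h)

theorem exists_left (h : IsRankOnePair A B) : ∃ a ∈ A, a ≠ 1 := by
  obtain ⟨⟨a, ha⟩, ha1⟩ := Subgroup.ne_bot_iff_exists_ne_one.1 (left_ne_bot h)
  exact ⟨a, ha, fun e => ha1 (Subtype.ext e)⟩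

theorem exists_right (h : IsRankOnePair A B) : ∃ b ∈ B, b ≠ 1 := exists_left (symm h)

theorem eq_one_of_mem_both (h : IsRankOnePair A B) {x : G} (ha : x ∈ A) (hb : x ∈ B) : x = 1 :=
  eq_one_left h ha (conjBy_of_mem hb)

theorem not_comm (h : IsRankOnePair A B) : ¬ Comm A B := by
  intro hc
  obtain ⟨a, ha, ha1⟩ := exists_left h
  exact ha1 (eq_one_left h ha (hc.conjBy_eq ha))

theorem conj (h : IsRankOnePair A B) (g : G) : IsRankOnePair (conjBy A g) (conjBy B g) := by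
  have := h.nilpotent_left
  have := h.nilpotent_right
  refine mk' (fun e => h.ne (conjBy_inj.1 e)) (Group.nilpotent_of_mulEquiv (conjByEquiv A g))
    (Group.nilpotent_of_mulEquiv (conjByEquiv B g)) ?_ ?_
  · intro a ha ha1
    obtain ⟨a, ha', rfl⟩ := mem_conjBy'.1 ha
    obtain ⟨b, hb, hb1, e⟩ := ex_left h ha' (by rintro rfl; simp at ha1)
    refine ⟨_, conj_mem_conjBy g hb, by simpa using hb1, ?_⟩
    simp only [conjBy_conjBy, inv_mul_cancel_right]
    rw [← conjBy_conjBy, e, conjBy_conjBy]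
  · intro b hb hb1
    obtain ⟨b, hb', rfl⟩ := mem_conjBy'.1 hb
    obtain ⟨a, ha, ha1, e⟩ := ex_right h hb' (by rintro rfl; simp at hb1)
    refine ⟨_, conj_mem_conjBy g ha, by simpa using ha1, ?_⟩
    simp only [conjBy_conjBy, inv_mul_cancel_right]
    rw [← conjBy_conjBy, e, conjBy_conjBy]

theorem conj_iff {g : G} : IsRankOnePair (conjBy A g) (conjBy B g) ↔ IsRankOnePair A B :=
  ⟨fun h => by simpa using conj h g⁻¹, fun h => conj h g⟩

theorem stable (h : IsRankOnePair A B) : ∀ x ∈ A ⊔ B,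
    ∀ C ∈ {C | C = A ∨ ∃ a ∈ A, C = conjBy B a},
      conjBy C x ∈ {C | C = A ∨ ∃ a ∈ A, C = conjBy B a} := by
  apply conjBy_mem_of_sup
  · rintro a ha C (rfl | ⟨a', ha', rfl⟩)
    · exact Or.inl (conjBy_of_mem ha)
    · exact Or.inr ⟨a * a', A.mul_mem ha ha', by simp⟩
  · have key : ∀ b ∈ B, conjBy A b ∈ {C | C = A ∨ ∃ a ∈ A, C = conjBy B a} := by
      intro b hb
      by_cases hb1 : b = 1
      · subst hb1; exact Or.inl (by simp)
      · obtain ⟨a, ha, -, e⟩ := ex_right h hb hb1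
        exact Or.inr ⟨a, ha, e⟩
    rintro b hb C (rfl | ⟨a', ha', rfl⟩)
    · exact key b hb
    · by_cases ha1 : a' = 1
      · subst ha1; exact Or.inr ⟨1, A.one_mem, by simp [conjBy_of_mem hb]⟩
      · obtain ⟨b', hb', -, e⟩ := ex_left h ha' ha1
        rw [← e, conjBy_conjBy]
        exact key _ (B.mul_mem hb hb')

theorem left_mem_unip : A ∈ unipotentSubgroups A B := ⟨1, Subgroup.one_mem _, by simp⟩

theorem conj_mem_unip {C : Subgroup G} (hC : C ∈ unipotentSubgroups A B) {x : G}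
    (hx : x ∈ A ⊔ B) : conjBy C x ∈ unipotentSubgroups A B := by
  obtain ⟨y, hy, rfl⟩ := hC
  exact ⟨x * y, Subgroup.mul_mem _ hx hy, by simp⟩

theorem exists_conj_eq (h : IsRankOnePair A B) : ∃ x ∈ A ⊔ B, conjBy A x = B := by
  obtain ⟨a, ha, ha1⟩ := exists_left h
  obtain ⟨b, hb, -, e⟩ := ex_left h ha ha1
  exact ⟨a⁻¹ * b, Subgroup.mul_mem_sup (A.inv_mem ha) hb, conjBy_eq_conjBy_iff.1 e⟩

theorem right_mem_unip (h : IsRankOnePair A B) : B ∈ unipotentSubgroups A B := by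
  obtain ⟨x, hx, e⟩ := exists_conj_eq h
  exact ⟨x, hx, e.symm⟩

theorem mem_unip_iff (h : IsRankOnePair A B) {C : Subgroup G} :
    C ∈ unipotentSubgroups A B ↔ C = A ∨ ∃ a ∈ A, C = conjBy B a := by
  constructor
  · rintro ⟨x, hx, rfl⟩
    exact stable h x hx A (Or.inl rfl)
  · rintro (rfl | ⟨a, ha, rfl⟩)
    · exact left_mem_unip
    · exact conj_mem_unip (right_mem_unip h) (Subgroup.mem_sup_left ha)

theorem unip_comm (h : IsRankOnePair A B) : unipotentSubgroups A B = unipotentSubgroups B A := by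
  have key : ∀ {A B : Subgroup G}, IsRankOnePair A B →
      unipotentSubgroups A B ⊆ unipotentSubgroups B A := by
    rintro A B h _ ⟨x, hx, rfl⟩
    exact conj_mem_unip (right_mem_unip (symm h)) (by rwa [sup_comm])
  exact Set.Subset.antisymm (key h) (key (symm h))

theorem mem_unip_iff' (h : IsRankOnePair A B) {C : Subgroup G} :
    C ∈ unipotentSubgroups A B ↔ C = B ∨ ∃ b ∈ B, C = conjBy A b := by
  rw [unip_comm h, mem_unip_iff (symm h)]

theorem unip_le {C : Subgroup G} (hC : C ∈ unipotentSubgroups A B) : C ≤ A ⊔ B := by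
  obtain ⟨x, hx, rfl⟩ := hC
  exact conjBy_le_of_mem le_sup_left hx

/-- double transitivity on `Ω`. -/
theorem exists_conj_pair (h : IsRankOnePair A B) {C D : Subgroup G}
    (hC : C ∈ unipotentSubgroups A B) (hD : D ∈ unipotentSubgroups A B) (hne : C ≠ D) :
    ∃ x ∈ A ⊔ B, conjBy A x = C ∧ conjBy B x = D := by
  obtain ⟨y, hy, rfl⟩ := hC
  have hD' := conj_mem_unip hD (Subgroup.inv_mem _ hy)
  rcases (mem_unip_iff h).1 hD' with e | ⟨a, ha, e⟩
  · exact absurd (by simpa using conjBy_inv_of_eq e) hne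
  · refine ⟨y * a, Subgroup.mul_mem _ hy (Subgroup.mem_sup_left ha), conjBy_mul_of_mem _ ha, ?_⟩
    rw [← conjBy_conjBy, ← e]; simp

theorem pair_of_unip (h : IsRankOnePair A B) {C D : Subgroup G}
    (hC : C ∈ unipotentSubgroups A B) (hD : D ∈ unipotentSubgroups A B) (hne : C ≠ D) :
    IsRankOnePair C D ∧ C ⊔ D = A ⊔ B := by
  obtain ⟨x, hx, rfl, rfl⟩ := exists_conj_pair h hC hD hne
  exact ⟨conj h x, by rw [← conjBy_sup, conjBy_of_mem hx]⟩

theorem unip_eq_of_unip (h : IsRankOnePair A B) {C D : Subgroup G}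
    (hC : C ∈ unipotentSubgroups A B) (hD : D ∈ unipotentSubgroups A B) (hne : C ≠ D) :
    unipotentSubgroups C D = unipotentSubgroups A B := by
  have e := (pair_of_unip h hC hD hne).2
  obtain ⟨y, hy, rfl⟩ := hC
  ext E
  constructor
  · rintro ⟨x, hx, rfl⟩
    exact ⟨x * y, Subgroup.mul_mem _ (e ▸ hx) hy, by simp⟩
  · rintro ⟨x, hx, rfl⟩
    exact ⟨x * y⁻¹, e ▸ Subgroup.mul_mem _ hx (Subgroup.inv_mem _ hy), by simp⟩

theorem exists_swap (h : IsRankOnePair A B) : ∃ n ∈ A ⊔ B, conjBy A n = B ∧ conjBy B n = A :=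
  exists_conj_pair h (right_mem_unip h) left_mem_unip h.ne.symm

/-- If `x ∈ ⟨A, B⟩` does not normalize `A` then `A` and `x A x⁻¹` form a rank one pair generating
`⟨A, B⟩`. -/
theorem pair_conj (h : IsRankOnePair A B) {x : G} (hx : x ∈ A ⊔ B) (hne : conjBy A x ≠ A) :
    IsRankOnePair A (conjBy A x) ∧ A ⊔ conjBy A x = A ⊔ B :=
  pair_of_unip h left_mem_unip (conj_mem_unip left_mem_unip hx) hne.symm

theorem pair_conj_right (h : IsRankOnePair A B) {b : G} (hb : b ∈ B) (hb1 : b ≠ 1) :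
    IsRankOnePair A (conjBy A b) ∧ A ⊔ conjBy A b = A ⊔ B :=
  pair_conj h (Subgroup.mem_sup_right hb) fun e => hb1 (eq_one_right h hb e)

theorem pair_conj_left (h : IsRankOnePair A B) {a : G} (ha : a ∈ A) (ha1 : a ≠ 1) :
    IsRankOnePair B (conjBy B a) ∧ B ⊔ conjBy B a = A ⊔ B := by
  rw [sup_comm A B]; exact pair_conj_right (symm h) ha ha1

/-- a non-identity element of a unipotent subgroup normalizes no other unipotent subgroup. -/
theorem eq_of_norm (h : IsRankOnePair A B) {C D : Subgroup G}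
    (hC : C ∈ unipotentSubgroups A B) (hD : D ∈ unipotentSubgroups A B) {c : G} (hc : c ∈ C)
    (hc1 : c ≠ 1) (e : conjBy D c = D) : C = D := by
  by_contra hne
  exact hc1 (eq_one_left (pair_of_unip h hC hD hne).1 hc e)

theorem not_mul_comm (h : IsRankOnePair A B) {a b : G} (ha : a ∈ A) (ha1 : a ≠ 1) (hb : b ∈ B)
    (hb1 : b ≠ 1) : a * b ≠ b * a := by
  intro e
  refine hb1 (eq_one_of_mem_both (pair_conj_left h ha ha1).1 hb ?_)
  rw [mem_conjBy, mul_assoc, ← e, inv_mul_cancel_left]; exact hb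

/-- an element centralizing `A` and `b A b⁻¹` centralizes `⟨A, B⟩`. -/
theorem comm_of_comm_conj (h : IsRankOnePair A B) {b z : G} (hb : b ∈ B) (hb1 : b ≠ 1)
    (h1 : ∀ a ∈ A, z * a = a * z) (h2 : ∀ a ∈ conjBy A b, z * a = a * z) :
    ∀ x ∈ A ⊔ B, z * x = x * z := by
  rw [← (pair_conj_right h hb hb1).2]; exact comm_sup_elem h1 h2

/-- Normal subgroups: a subgroup `N` normalized by `A` and `B` and normalizing both `A` and `B`
centralizes both. -/
theorem comm_of_norm (h : IsRankOnePair A B) {N : Subgroup G} (hA : ∀ a ∈ A, conjBy N a = N)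
    (h1 : ∀ n ∈ N, conjBy A n = A) (h2 : ∀ n ∈ N, conjBy B n = B) : Comm N A := by
  intro n hn a ha
  have e1 : n * a * n⁻¹ * a⁻¹ ∈ A := by
    refine A.mul_mem ?_ (A.inv_mem ha)
    rw [← h1 n hn]; exact conj_mem_conjBy n ha
  have e2 : n * a * n⁻¹ * a⁻¹ ∈ N := by
    have : a * n⁻¹ * a⁻¹ ∈ N := by rw [← hA a ha]; exact conj_mem_conjBy a (N.inv_mem hn)
    simpa [mul_assoc] using N.mul_mem hn this
  have := eq_one_left h e1 (h2 _ e2)
  rwa [mul_inv_eq_one, mul_inv_eq_iff_eq_mul] at this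

/-- A subgroup `N` of `X = ⟨A, B⟩` normalized by `X` is central in `X` or `X = N A`. -/
theorem normal_dichotomy (h : IsRankOnePair A B) {N : Subgroup G} (hN : N ≤ A ⊔ B)
    (hn : ∀ x ∈ A ⊔ B, conjBy N x = N) : A ⊔ B ≤ N ⊔ A ∨ Comm N (A ⊔ B) := by
  by_cases h1 : ∀ n ∈ N, conjBy A n = A
  · right
    obtain ⟨x, hx, e⟩ := exists_conj_eq h
    have h2 : ∀ n ∈ N, conjBy B n = B := by
      intro n hn'
      have : x⁻¹ * n * x ∈ N := by rw [← mem_conjBy, hn x hx]; exact hn'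
      rw [← e, conjBy_conjBy, conjBy_eq_conjBy_iff, ← mul_assoc]
      exact h1 _ this
    exact Comm.sup_right (comm_of_norm h (fun a ha => hn a (Subgroup.mem_sup_left ha)) h1 h2)
      (comm_of_norm (symm h) (fun a ha => hn a (Subgroup.mem_sup_right ha)) h2 h1)
  · left
    push Not at h1
    obtain ⟨n, hnN, hne⟩ := h1
    rw [← (pair_conj h (hN hnN) hne).2]
    exact sup_le le_sup_right (conjBy_le_of_mem le_sup_right (Subgroup.mem_sup_left hnN))

theorem map (h : IsRankOnePair A B) {H : Type*} [Group H] (f : G →* H)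
    (hA : ∀ a ∈ A, f a = 1 → a = 1) (hB : ∀ b ∈ B, f b = 1 → b = 1) (hne : A.map f ≠ B.map f) :
    IsRankOnePair (A.map f) (B.map f) := by
  have := h.nilpotent_left
  have := h.nilpotent_right
  refine mk' hne (Group.nilpotent_of_surjective _ (f.subgroupMap_surjective A))
    (Group.nilpotent_of_surjective _ (f.subgroupMap_surjective B)) ?_ ?_
  · rintro _ ⟨a, ha, rfl⟩ ha1
    obtain ⟨b, hb, hb1, e⟩ := ex_left h ha (by rintro rfl; simp at ha1)
    exact ⟨f b, ⟨b, hb, rfl⟩, fun e => hb1 (hB b hb e), by rw [← map_conjBy, e, map_conjBy]⟩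
  · rintro _ ⟨b, hb, rfl⟩ hb1
    obtain ⟨a, ha, ha1, e⟩ := ex_right h hb (by rintro rfl; simp at hb1)
    exact ⟨f a, ⟨a, ha, rfl⟩, fun e => ha1 (hA a ha e), by rw [← map_conjBy, e, map_conjBy]⟩

theorem map_of_injective (h : IsRankOnePair A B) {H : Type*} [Group H] (f : G →* H)
    (hf : Function.Injective f) : IsRankOnePair (A.map f) (B.map f) :=
  map h f (fun _ _ e => hf (by simpa using e)) (fun _ _ e => hf (by simpa using e))
    fun e => h.ne (Subgroup.map_injective hf e)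

theorem of_map {H : Type*} [Group H] (f : G →* H) (hf : Function.Injective f)
    (h : IsRankOnePair (A.map f) (B.map f)) : IsRankOnePair A B := by
  have := h.nilpotent_left
  have := h.nilpotent_right
  refine mk' (fun e => h.ne (by rw [e]))
    (Group.nilpotent_of_mulEquiv (A.equivMapOfInjective f hf).symm)
    (Group.nilpotent_of_mulEquiv (B.equivMapOfInjective f hf).symm) ?_ ?_
  · intro a ha ha1
    obtain ⟨_, ⟨b, hb, rfl⟩, hb1, e⟩ := ex_left h ⟨a, ha, rfl⟩ (fun e => ha1 (hf (by simpa using e)))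
    refine ⟨b, hb, by rintro rfl; simp at hb1, Subgroup.map_injective hf ?_⟩
    rw [map_conjBy, map_conjBy, e]
  · intro b hb hb1
    obtain ⟨_, ⟨a, ha, rfl⟩, ha1, e⟩ :=
      ex_right h ⟨b, hb, rfl⟩ (fun e => hb1 (hf (by simpa using e)))
    refine ⟨a, ha, by rintro rfl; simp at ha1, Subgroup.map_injective hf ?_⟩
    rw [map_conjBy, map_conjBy, e]

theorem subgroupOf (h : IsRankOnePair A B) {H : Subgroup G} (hA : A ≤ H) (hB : B ≤ H) :
    IsRankOnePair (A.subgroupOf H) (B.subgroupOf H) := by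
  apply of_map H.subtype H.subtype_injective
  rwa [Subgroup.map_subgroupOf_eq_of_le hA, Subgroup.map_subgroupOf_eq_of_le hB]

theorem isRankOneGroup (h : IsRankOnePair A B) :
    IsRankOneGroup ↥(A ⊔ B) (A.subgroupOf (A ⊔ B)) (B.subgroupOf (A ⊔ B)) := by
  refine ⟨?_, subgroupOf h le_sup_left le_sup_right⟩
  rw [← Subgroup.subgroupOf_sup le_sup_left le_sup_right, Subgroup.subgroupOf_self]

theorem not_isNilpotent_top (h : IsRankOnePair A B) (hX : A ⊔ B = ⊤) : ¬ Group.IsNilpotent G := by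
  intro hn
  have hlt : Subgroup.normalizer (A : Set G) < ⊤ := by
    refine lt_top_iff_ne_top.2 fun e => ?_
    obtain ⟨b, hb, hb1⟩ := exists_right h
    exact hb1 (eq_one_right h hb (conjBy_eq_iff_mem_normalizer.2 (e ▸ Subgroup.mem_top b)))
  obtain ⟨x, hx, hx'⟩ := SetLike.exists_of_lt (Group.normalizerCondition_of_isNilpotent _ hlt)
  have hne : conjBy A x ≠ A := fun e => hx' (conjBy_eq_iff_mem_normalizer.1 e)
  have hp := (pair_conj h (hX ▸ Subgroup.mem_top x) hne).1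
  obtain ⟨c, hc, hc1⟩ := exists_right hp
  refine hc1 (eq_one_right hp hc (conjBy_eq_iff_mem_normalizer.2 ?_))
  rw [← conjBy_eq_iff_mem_normalizer.2 hx]
  exact conjBy_mono x Subgroup.le_normalizer hc

theorem not_isNilpotent (h : IsRankOnePair A B) : ¬ Group.IsNilpotent ↥(A ⊔ B) :=
  not_isNilpotent_top (isRankOneGroup h).2 (isRankOneGroup h).1

end R1

end Cfsg.Agent.Root
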