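import Cfsg.Agent.Root.Special2
import Cfsg.Agent.Classical.SL2Unip

/-! `SL₂(k)` as a special rank one group; images of `SL₂(k)` with central kernel are special rank one
groups (`psl2_special`), perfect for `|k| > 3`; construction of a homomorphism from `SL₂(K)` out of an
`sl₂`-pair `e, f` (`e² = f² = 0`, `efe = e`, `fef = f`) in a ring (`sl2Hom`, `exists_sl2_hom`). -/

namespace Cfsg.Agent.Root
open Cfsg Cfsg.Agent.Classical Matrix
open scoped MatrixGroups

section SL2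
variable {k : Type*} [Field k]

theorem mem_upper {g : SL(2, k)} : g ∈ upperUnipotentSL2 k ↔ ∃ t, g = uSL t := by
  constructor
  · intro hg
    induction hg using Subgroup.closure_induction with
    | mem g hg =>
      refine ⟨g.1 0 1, ?_⟩
      ext i j; fin_cases i <;> fin_cases j <;> simp [hg.1, hg.2.1, hg.2.2]
    | one => exact ⟨0, by simp⟩
    | mul x y _ _ hx hy =>
      obtain ⟨s, rfl⟩ := hx; obtain ⟨t, rfl⟩ := hy; exact ⟨s + t, (uSL_add s t).symm⟩
    | inv x _ hx => obtain ⟨s, rfl⟩ := hx; exact ⟨-s, uSL_inv s⟩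
  · rintro ⟨t, rfl⟩
    exact Subgroup.subset_closure (by simp)

theorem mem_lower {g : SL(2, k)} : g ∈ lowerUnipotentSL2 k ↔ ∃ t, g = lSL t := by
  constructor
  · intro hg
    induction hg using Subgroup.closure_induction with
    | mem g hg =>
      refine ⟨g.1 1 0, ?_⟩
      ext i j; fin_cases i <;> fin_cases j <;> simp [hg.1, hg.2.1, hg.2.2]
    | one => exact ⟨0, by simp⟩
    | mul x y _ _ hx hy =>
      obtain ⟨s, rfl⟩ := hx; obtain ⟨t, rfl⟩ := hy; exact ⟨s + t, (lSL_add s t).symm⟩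
    | inv x _ hx => obtain ⟨s, rfl⟩ := hx; exact ⟨-s, lSL_inv s⟩
  · rintro ⟨t, rfl⟩
    exact Subgroup.subset_closure (by simp)

theorem uSL_mem (t : k) : uSL t ∈ upperUnipotentSL2 k := mem_upper.2 ⟨t, rfl⟩
theorem lSL_mem (t : k) : lSL t ∈ lowerUnipotentSL2 k := mem_lower.2 ⟨t, rfl⟩

theorem upper_comm : Comm (upperUnipotentSL2 k) (upperUnipotentSL2 k) := by
  intro x hx y hy
  obtain ⟨s, rfl⟩ := mem_upper.1 hx; obtain ⟨t, rfl⟩ := mem_upper.1 hy
  rw [← uSL_add, ← uSL_add, add_comm]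

theorem lower_comm : Comm (lowerUnipotentSL2 k) (lowerUnipotentSL2 k) := by
  intro x hx y hy
  obtain ⟨s, rfl⟩ := mem_lower.1 hx; obtain ⟨t, rfl⟩ := mem_lower.1 hy
  rw [← lSL_add, ← lSL_add, add_comm]

theorem upper_sup_lower : upperUnipotentSL2 k ⊔ lowerUnipotentSL2 k = ⊤ :=
  sl_eq_top_of_uSL_lSL (fun t => Subgroup.mem_sup_left (uSL_mem t))
    fun t => Subgroup.mem_sup_right (lSL_mem t)

theorem uSL_ne_lSL {s t : k} (hs : s ≠ 0) : uSL s ≠ lSL t := fun e => hs <| by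
  simpa using congrFun (congrFun (congrArg Subtype.val e) 0) 1

theorem sl2_conj_eq {t : k} (ht : t ≠ 0) (c : k) :
    lSL t⁻¹ * uSL c * (lSL t⁻¹)⁻¹ = uSL t * lSL (-(c / t ^ 2)) * (uSL t)⁻¹ := by
  rw [lSL_inv, uSL_inv]
  ext i j; fin_cases i <;> fin_cases j <;> simp [mul_apply] <;> field_simp <;> ring

theorem sl2_rel {t : k} (ht : t ≠ 0) :
    Rel (upperUnipotentSL2 k) (lowerUnipotentSL2 k) (uSL t) (lSL t⁻¹) := by
  refine ⟨uSL_mem t, by simpa using ht, lSL_mem _, by simpa using ht, le_antisymm ?_ ?_⟩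
  · refine conjBy_le_iff.2 fun x hx => ?_
    obtain ⟨c, rfl⟩ := mem_upper.1 hx
    rw [sl2_conj_eq ht]; exact conj_mem_conjBy _ (lSL_mem _)
  · refine conjBy_le_iff.2 fun x hx => ?_
    obtain ⟨c, rfl⟩ := mem_lower.1 hx
    have := sl2_conj_eq ht (-(c * t ^ 2))
    rw [show -(-(c * t ^ 2) / t ^ 2) = c by field_simp] at this
    rw [← this]; exact conj_mem_conjBy _ (uSL_mem _)

theorem sl2_braid {t : k} (ht : t ≠ 0) :
    uSL t * (lSL t⁻¹)⁻¹ * uSL t = (lSL t⁻¹)⁻¹ * uSL t * (lSL t⁻¹)⁻¹ := by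
  rw [lSL_inv]
  ext i j; fin_cases i <;> fin_cases j <;> simp [mul_apply, ht]

theorem uSL_not_mem_center {t : k} (ht : t ≠ 0) : uSL t ∉ Subgroup.center SL(2, k) := fun h => by
  have := Subgroup.mem_center_iff.1 h (lSL 1)
  have := congrFun (congrFun (congrArg Subtype.val this) 0) 0
  simp [mul_apply] at this
  exact ht this

theorem lSL_not_mem_center {t : k} (ht : t ≠ 0) : lSL t ∉ Subgroup.center SL(2, k) := fun h => by
  have := Subgroup.mem_center_iff.1 h (uSL 1)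
  have := congrFun (congrFun (congrArg Subtype.val this) 0) 0
  simp [mul_apply] at this
  exact ht this

theorem sl2_pair : IsRankOnePair (upperUnipotentSL2 k) (lowerUnipotentSL2 k) := by
  refine R1.mk' (fun e => ?_) (isNilpotent_of_isMulCommutative (comm_self_iff.1 upper_comm))
    (isNilpotent_of_isMulCommutative (comm_self_iff.1 lower_comm)) (fun a ha ha1 => ?_)
    fun b hb hb1 => ?_
  · obtain ⟨t, ht⟩ := mem_lower.1 (e ▸ uSL_mem (1 : k))
    exact uSL_ne_lSL one_ne_zero ht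
  · obtain ⟨t, rfl⟩ := mem_upper.1 ha
    have r := sl2_rel (show t ≠ 0 by simpa using ha1)
    exact ⟨_, r.mb, r.nb, r.eq⟩
  · obtain ⟨t, rfl⟩ := mem_lower.1 hb
    have r := sl2_rel (show t⁻¹ ≠ 0 by simpa using hb1)
    rw [inv_inv] at r
    exact ⟨_, r.ma, r.na, r.eq⟩

theorem exists_sq_ne_one (h3 : 3 < ENat.card k) : ∃ a : k, a ≠ 0 ∧ a ^ 2 ≠ 1 := by
  by_contra hc
  push Not at hc
  have : (Set.univ : Set k) ⊆ {0, 1, -1} := fun a _ => by
    by_cases ha : a = 0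
    · simp [ha]
    · rcases sq_eq_one_iff_of_ne_zero_aux (hc a ha) with h | h <;> simp [h]
  have h2 := Set.encard_le_encard this
  rw [Set.encard_univ] at h2
  have h4 : ({0, 1, -1} : Set k).encard ≤ 3 := by
    have h5 := Set.encard_insert_le ({-1} : Set k) 1
    rw [Set.encard_singleton] at h5
    exact (Set.encard_insert_le _ _).trans ((add_le_add_left h5 1).trans (by norm_num))
  exact absurd (h2.trans h4) (not_le.2 h3)
where sq_eq_one_iff_of_ne_zero_aux {a : k} (h : a ^ 2 = 1) : a = 1 ∨ a = -1 := by simpa using h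

variable {G : Type*} [Group G] {A B : Subgroup G}

theorem psl2_comm (h : IsPSL2PairOver k A B) : Comm A A ∧ Comm B B := by
  obtain ⟨φ, -, -, rfl, rfl⟩ := h
  constructor
  · rintro _ ⟨x, hx, rfl⟩ _ ⟨y, hy, rfl⟩; rw [← map_mul, upper_comm x hx y hy, map_mul]
  · rintro _ ⟨x, hx, rfl⟩ _ ⟨y, hy, rfl⟩; rw [← map_mul, lower_comm x hx y hy, map_mul]

theorem psl2_special (h : IsPSL2PairOver k A B) : IsSpecialRankOnePair A B := by
  obtain ⟨φ, -, hk, rfl, rfl⟩ := h
  have hu : ∀ t : k, φ (uSL t) = 1 → t = 0 := fun t e => by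
    by_contra ht; exact uSL_not_mem_center ht (hk e)
  have hl : ∀ t : k, φ (lSL t) = 1 → t = 0 := fun t e => by
    by_contra ht; exact lSL_not_mem_center ht (hk e)
  have hr : IsRankOnePair ((upperUnipotentSL2 k).map φ) ((lowerUnipotentSL2 k).map φ) := by
    refine R1.map sl2_pair φ (fun a ha e => ?_) (fun a ha e => ?_) fun e => ?_
    · obtain ⟨t, rfl⟩ := mem_upper.1 ha; simp [hu t e]
    · obtain ⟨t, rfl⟩ := mem_lower.1 ha; simp [hl t e]
    · obtain ⟨_, hx, e'⟩ : φ (uSL 1) ∈ (lowerUnipotentSL2 k).map φ := e ▸ ⟨_, uSL_mem 1, rfl⟩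
      obtain ⟨t, rfl⟩ := mem_lower.1 hx
      have h1 : (lSL t)⁻¹ * uSL 1 ∈ Subgroup.center SL(2, k) := hk (by simp [e'])
      have := Subgroup.mem_center_iff.1 h1 (lSL 1)
      rw [lSL_inv] at this
      have := congrFun (congrFun (congrArg Subtype.val this) 0) 0
      simp [mul_apply] at this
  refine isSpecial_iff.2 ⟨hr, fun a b r => ?_⟩
  obtain ⟨_, hx, rfl⟩ := r.ma
  obtain ⟨t, rfl⟩ := mem_upper.1 hx
  have ht : t ≠ 0 := fun e => r.na (by simp [e])
  have r0 := sl2_rel ht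
  have r' : Rel ((upperUnipotentSL2 k).map φ) ((lowerUnipotentSL2 k).map φ) (φ (uSL t))
      (φ (lSL t⁻¹)) :=
    ⟨r.ma, r.na, ⟨_, r0.mb, rfl⟩, fun e => inv_ne_zero ht (hl _ e), by
      rw [← map_conjBy, ← map_conjBy, r0.eq]⟩
  rw [R1.rel_unique_right hr r r']
  simpa only [map_mul, map_inv] using congrArg φ (sl2_braid ht)

theorem psl2_pair (h : IsPSL2PairOver k A B) : IsRankOnePair A B := (psl2_special h).1

theorem psl2_perfect (h : IsPSL2PairOver k A B) (h3 : 3 < ENat.card k) : ⁅A ⊔ B, A ⊔ B⁆ = A ⊔ B := by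
  obtain ⟨φ, e, -⟩ := h
  obtain ⟨a, ha, ha2⟩ := exists_sq_ne_one h3
  rw [← e, MonoidHom.range_eq_map, ← Subgroup.map_commutator]
  exact congrArg _ (SL2.commutator_eq_top ha ha2)

theorem psl2_self : IsPSL2PairOver k (upperUnipotentSL2 k) (lowerUnipotentSL2 k) :=
  ⟨MonoidHom.id _, by rw [upper_sup_lower, MonoidHom.range_eq_top]; exact fun x => ⟨x, rfl⟩,
    by simp, by simp, by simp⟩

theorem psl2_map (h : IsPSL2PairOver k A B) {H : Type*} [Group H] (f : G →* H)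
    (hf : Function.Injective f) : IsPSL2PairOver k (A.map f) (B.map f) := by
  obtain ⟨φ, e, hk, rfl, rfl⟩ := h
  refine ⟨f.comp φ, ?_, ?_, ?_, ?_⟩
  · rw [MonoidHom.range_comp, e, Subgroup.map_sup]
  · exact fun x hx => hk (hf (by simpa using hx))
  · rw [Subgroup.map_map]
  · rw [Subgroup.map_map]

theorem psl2_subgroupOf (h : IsPSL2PairOver k A B) {H : Subgroup G} (hA : A ≤ H) (hB : B ≤ H) :
    IsPSL2PairOver k (A.subgroupOf H) (B.subgroupOf H) := by
  obtain ⟨φ, e, hk, hu, hl⟩ := h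
  have hm : ∀ x, φ x ∈ H := fun x => sup_le hA hB (e ▸ ⟨x, rfl⟩)
  have key : ∀ U : Subgroup SL(2, k), U.map (φ.codRestrict H hm) = (U.map φ).subgroupOf H := by
    intro U
    ext ⟨x, hx⟩
    simp [Subgroup.mem_subgroupOf, Subtype.ext_iff]
  refine ⟨φ.codRestrict H hm, ?_, ?_, by rw [key, hu], by rw [key, hl]⟩
  · rw [MonoidHom.range_eq_map, key, ← MonoidHom.range_eq_map, e, Subgroup.subgroupOf_sup hA hB]
  · rwa [MonoidHom.ker_codRestrict]

end SL2

section Triple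
variable {K R : Type*} [Field K] [Ring R]

/-- An `sl₂`-pair in a ring together with a commuting (non-unital) action of a field. -/
structure SlPair (ρ : K →ₙ+* R) (e f : R) : Prop where
  ee : e * e = 0
  ff : f * f = 0
  efe : e * f * e = e
  fef : f * e * f = f
  ce : ∀ c, ρ c * e = e * ρ c
  cf : ∀ c, ρ c * f = f * ρ c
  oe : ρ 1 * e = e
  of : ρ 1 * f = f

variable {ρ : K →ₙ+* R} {e f : R}

/-- The additive multiplicative map `M₂(K) → R` attached to an `sl₂`-pair. -/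
def slMat (ρ : K →ₙ+* R) (e f : R) (m : Matrix (Fin 2) (Fin 2) K) : R :=
  ρ (m 0 0) * (e * f) + ρ (m 0 1) * e + ρ (m 1 0) * f + ρ (m 1 1) * (f * e)

theorem SlPair.mul (h : SlPair ρ e f) (m n : Matrix (Fin 2) (Fin 2) K) :
    slMat ρ e f (m * n) = slMat ρ e f m * slMat ρ e f n := by
  have ce : ∀ c x, e * (ρ c * x) = ρ c * (e * x) := fun c x => by rw [← mul_assoc, ← h.ce, mul_assoc]
  have cf : ∀ c x, f * (ρ c * x) = ρ c * (f * x) := fun c x => by rw [← mul_assoc, ← h.cf, mul_assoc]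
  have ee : ∀ x, e * (e * x) = 0 := fun x => by rw [← mul_assoc, h.ee, zero_mul]
  have ff : ∀ x, f * (f * x) = 0 := fun x => by rw [← mul_assoc, h.ff, zero_mul]
  have efe : e * (f * e) = e := by rw [← mul_assoc, h.efe]
  have fef : f * (e * f) = f := by rw [← mul_assoc, h.fef]
  simp only [slMat, mul_apply, Fin.sum_univ_two, map_add, map_mul, add_mul, mul_add, mul_assoc, ce,
    cf, ee, ff, efe, fef, h.ee, h.ff, mul_zero, add_zero, zero_add]
  abel

/-- The homomorphism `SL₂(K) → R` attached to an `sl₂`-pair. -/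
def sl2Hom (h : SlPair ρ e f) : SL(2, K) →* R where
  toFun g := 1 + slMat ρ e f (g.1 - 1)
  map_one' := by simp [slMat]
  map_mul' x y := by
    have : (x * y).1 - 1 = (x.1 - 1) * (y.1 - 1) + (x.1 - 1) + (y.1 - 1) := by
      rw [show (x * y).1 = x.1 * y.1 from rfl]; noncomm_ring
    rw [this, add_mul, mul_add, mul_add, ← h.mul]
    simp only [slMat, Matrix.add_apply, map_add, add_mul, mul_one, one_mul]
    abel

theorem sl2Hom_apply (h : SlPair ρ e f) (g : SL(2, K)) :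
    sl2Hom h g = 1 + slMat ρ e f (g.1 - 1) := rfl

theorem sl2Hom_uSL (h : SlPair ρ e f) (t : K) : sl2Hom h (uSL t) = 1 + ρ t * e := by
  simp [sl2Hom_apply, slMat]

theorem sl2Hom_lSL (h : SlPair ρ e f) (t : K) : sl2Hom h (lSL t) = 1 + ρ t * f := by
  simp [sl2Hom_apply, slMat]

theorem SlPair.eq_zero (h : SlPair ρ e f) (he : e ≠ 0) {c : K} (hc : ρ c * e = 0) : c = 0 := by
  by_contra h0
  apply he
  rw [← h.oe, ← inv_mul_cancel₀ h0, map_mul, mul_assoc, hc, mul_zero]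

theorem sl2Hom_injective (h : SlPair ρ e f) (he : e ≠ 0) : Function.Injective (sl2Hom h) := by
  have key : ∀ m, slMat ρ e f m = 0 → m = 0 := by
    intro m hm
    have h1 : ∀ i j, slMat ρ e f (single 0 i 1 * m * single j 1 1) = 0 := fun i j => by
      rw [h.mul, h.mul, hm, mul_zero, zero_mul]
    ext i j
    have := h1 i j
    rw [single_mul_mul_single] at this
    exact h.eq_zero he (by simpa [slMat] using this)
  intro x y hxy
  have h1 : slMat ρ e f (x.1 - 1) = slMat ρ e f (y.1 - 1) := add_left_cancel hxy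
  have h2 : slMat ρ e f (x.1 - y.1) = 0 := by
    rw [← sub_eq_zero] at h1
    rw [← h1, show x.1 - y.1 = (x.1 - 1) - (y.1 - 1) by abel]
    generalize x.1 - 1 = m; generalize y.1 - 1 = n
    simp only [slMat, Matrix.sub_apply, map_sub, sub_mul]; abel
  exact Subtype.ext (sub_eq_zero.1 (key _ h2))

theorem exists_sl2_hom (h : SlPair ρ e f) (he : e ≠ 0) {G : Type*} [Group G] (ι : G →* R)
    (hι : Function.Injective ι) (hu : ∀ c, ∃ g, ι g = 1 + ρ c * e) (hl : ∀ c, ∃ g, ι g = 1 + ρ c * f) :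
    ∃ φ : SL(2, K) →* G, Function.Injective φ ∧ ∀ g, ι (φ g) = sl2Hom h g := by
  have hm : ∀ g, ∃ x, ι x = sl2Hom h g := by
    intro g
    induction g using SL2.transvection_induction with
    | htransvec i j hij c =>
      fin_cases i <;> fin_cases j
      · exact absurd rfl hij
      · exact transvection_zero_one hij c ▸ sl2Hom_uSL h c ▸ hu c
      · exact transvection_one_zero hij c ▸ sl2Hom_lSL h c ▸ hl c
      · exact absurd rfl hij
    | hmul x y hx hy =>
      obtain ⟨x', hx⟩ := hx; obtain ⟨y', hy⟩ := hy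
      exact ⟨x' * y', by rw [map_mul, map_mul, hx, hy]⟩
  choose φ hφ using hm
  refine ⟨MonoidHom.mk' φ fun x y => hι (by rw [map_mul, hφ, hφ, hφ, map_mul]), fun x y e => ?_, hφ⟩
  exact sl2Hom_injective h he (by rw [← hφ, ← hφ]; exact congrArg ι e)

theorem psl2_of_slPair (h : SlPair ρ e f) (he : e ≠ 0) {G : Type*} [Group G] (ι : G →* R)
    (hι : Function.Injective ι) (hu : ∀ c, ∃ g, ι g = 1 + ρ c * e) (hl : ∀ c, ∃ g, ι g = 1 + ρ c * f)
    {A B : Subgroup G} (hA : ∀ g, g ∈ A ↔ ∃ c, ι g = 1 + ρ c * e)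
    (hB : ∀ g, g ∈ B ↔ ∃ c, ι g = 1 + ρ c * f) : IsPSL2PairOver K A B := by
  obtain ⟨φ, hφ, hφ'⟩ := exists_sl2_hom h he ι hι hu hl
  have eA : (upperUnipotentSL2 K).map φ = A := by
    ext g
    rw [hA]
    constructor
    · rintro ⟨x, hx, rfl⟩
      obtain ⟨t, rfl⟩ := mem_upper.1 hx
      exact ⟨t, by rw [hφ', sl2Hom_uSL]⟩
    · rintro ⟨c, hc⟩
      exact ⟨_, uSL_mem c, hι (by rw [hφ', sl2Hom_uSL, hc])⟩
  have eB : (lowerUnipotentSL2 K).map φ = B := by
    ext g
    rw [hB]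
    constructor
    · rintro ⟨x, hx, rfl⟩
      obtain ⟨t, rfl⟩ := mem_lower.1 hx
      exact ⟨t, by rw [hφ', sl2Hom_lSL]⟩
    · rintro ⟨c, hc⟩
      exact ⟨_, lSL_mem c, hι (by rw [hφ', sl2Hom_lSL, hc])⟩
  refine ⟨φ, ?_, ?_, eA, eB⟩
  · rw [MonoidHom.range_eq_map, ← upper_sup_lower, Subgroup.map_sup, eA, eB]
  · rw [(MonoidHom.ker_eq_bot_iff φ).2 hφ]; exact bot_le

end Triple

end Cfsg.Agent.Root
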