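import Cfsg.Agent.Root.Quasisimple

/-! Special rank one groups. `Rel A B a b` is the partner relation `b A b⁻¹ = a B a⁻¹`; the special
condition in the left convention is the braid relation `a b⁻¹ a = b⁻¹ a b⁻¹`.
Quadratic action (in any ring) forces speciality; powers of partners (`b(a^k)^k = b(a)`);
`[A, H] = A` and perfectness when `|A| > 3`. -/

namespace Cfsg.Agent.Root
open Cfsg

variable {G : Type*} [Group G] {A B : Subgroup G}

/-- The partner relation in a rank one pair. -/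
structure Rel (A B : Subgroup G) (a b : G) : Prop where
  ma : a ∈ A
  na : a ≠ 1
  mb : b ∈ B
  nb : b ≠ 1
  eq : conjBy A b = conjBy B a

theorem Rel.symm {a b : G} (r : Rel A B a b) : Rel B A b a := ⟨r.mb, r.nb, r.ma, r.na, r.eq.symm⟩

theorem Rel.conj {a b : G} (r : Rel A B a b) (g : G) :
    Rel (conjBy A g) (conjBy B g) (g * a * g⁻¹) (g * b * g⁻¹) := by
  refine ⟨conj_mem_conjBy g r.ma, by simpa using r.na, conj_mem_conjBy g r.mb, by simpa using r.nb, ?_⟩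
  simp only [conjBy_conjBy, inv_mul_cancel_right]
  rw [← conjBy_conjBy, r.eq, conjBy_conjBy]

namespace R1

theorem ex_rel_left (h : IsRankOnePair A B) {a : G} (ha : a ∈ A) (ha1 : a ≠ 1) :
    ∃ b, Rel A B a b := by
  obtain ⟨b, hb, hb1, e⟩ := ex_left h ha ha1
  exact ⟨b, ha, ha1, hb, hb1, e⟩

theorem ex_rel_right (h : IsRankOnePair A B) {b : G} (hb : b ∈ B) (hb1 : b ≠ 1) :
    ∃ a, Rel A B a b := by
  obtain ⟨a, ha, ha1, e⟩ := ex_right h hb hb1
  exact ⟨a, ha, ha1, hb, hb1, e⟩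

theorem rel_unique_right (h : IsRankOnePair A B) {a b b' : G} (r : Rel A B a b)
    (r' : Rel A B a b') : b = b' := conj_right_inj h r.mb r'.mb (r.eq.trans r'.eq.symm)

theorem rel_unique_left (h : IsRankOnePair A B) {a a' b : G} (r : Rel A B a b)
    (r' : Rel A B a' b) : a = a' := conj_left_inj h r.ma r'.ma (r.eq.symm.trans r'.eq)

theorem rel_ex_conj {a b : G} (r : Rel A B a b) {a' : G} (ha' : a' ∈ A) :
    ∃ b' ∈ B, b * a' * b⁻¹ = a * b' * a⁻¹ := by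
  have := conj_mem_conjBy b ha'
  rw [r.eq] at this
  obtain ⟨b', hb', e⟩ := mem_conjBy'.1 this
  exact ⟨b', hb', e.symm⟩

end R1

/-- Deduce a group identity from a conjugate of a known relation (finish with `group`). -/
theorem eq_of_conj {u v L R : G} (w : G) (h : u = v) (e : L * R⁻¹ = w * (u * v⁻¹) * w⁻¹) :
    L = R := by
  rw [h, mul_inv_cancel, mul_one, mul_inv_cancel, mul_inv_eq_one] at e; exact e

theorem isSpecial_iff : IsSpecialRankOnePair A B ↔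
    IsRankOnePair A B ∧ ∀ a b, Rel A B a b → a * b⁻¹ * a = b⁻¹ * a * b⁻¹ := by
  refine and_congr_right fun _ => ⟨fun h a b r => ?_, fun h a ha ha1 b hb hb1 e => ?_⟩
  · have := h a⁻¹ (A.inv_mem r.ma) (inv_ne_one.2 r.na) b⁻¹ (B.inv_mem r.mb) (inv_ne_one.2 r.nb)
      (by simpa using r.eq)
    simp only [inv_inv] at this
    exact (eq_of_conj (b * a⁻¹)⁻¹ this (by group)).symm
  · have := h a⁻¹ b⁻¹ ⟨A.inv_mem ha, inv_ne_one.2 ha1, B.inv_mem hb, inv_ne_one.2 hb1, e⟩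
    simp only [inv_inv] at this
    calc b⁻¹ * a * b = b⁻¹ * a * (b * a⁻¹ * b) * b⁻¹ * a := by group
      _ = _ := by rw [← this]; group

section Quadratic
variable {R : Type*} [Ring R] (ρ : G →* R)

theorem quad_conj (hq : ∀ a ∈ A, ∀ a' ∈ A, (ρ a - 1) * (ρ a' - 1) = 0) (g : G) :
    ∀ a ∈ conjBy A g, ∀ a' ∈ conjBy A g, (ρ a - 1) * (ρ a' - 1) = 0 := by
  intro c hc c' hc'
  obtain ⟨a, ha, rfl⟩ := mem_conjBy'.1 hc
  obtain ⟨a', ha', rfl⟩ := mem_conjBy'.1 hc'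
  have h1 : ρ g * ρ g⁻¹ = 1 := by rw [← map_mul, mul_inv_cancel, map_one]
  have h2 : ρ g⁻¹ * ρ g = 1 := by rw [← map_mul, inv_mul_cancel, map_one]
  simp only [map_mul]
  linear_combination (norm := noncomm_ring) ρ g * hq a ha a' ha' * ρ g⁻¹
    + ρ g * ρ a * h2 * ρ a' * ρ g⁻¹ - h1

theorem quad_inv (hq : ∀ a ∈ A, ∀ a' ∈ A, (ρ a - 1) * (ρ a' - 1) = 0) {a : G} (ha : a ∈ A) :
    ρ a⁻¹ = 2 - ρ a := by
  have h2 : ρ a * ρ a⁻¹ = 1 := by rw [← map_mul, mul_inv_cancel, map_one]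
  linear_combination (norm := noncomm_ring) hq a ha a ha * ρ a⁻¹ + (2 - ρ a) * h2

theorem quad_key (hqA : ∀ a ∈ A, ∀ a' ∈ A, (ρ a - 1) * (ρ a' - 1) = 0)
    (hqB : ∀ a ∈ B, ∀ a' ∈ B, (ρ a - 1) * (ρ a' - 1) = 0) {a b : G} (r : Rel A B a b)
    {a' b' : G} (ha' : a' ∈ A) (hb' : b' ∈ B) :
    (ρ b' - 1) * (ρ a' - 1) = (ρ b' - 1) * (ρ a - 1) * (ρ b - 1) * (ρ a' - 1) := by
  obtain ⟨b₁, hb₁, e⟩ := R1.rel_ex_conj r ha'
  have e1 : ρ a⁻¹ * ρ b * ρ a' = ρ b₁ * ρ a⁻¹ * ρ b := by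
    simp only [← map_mul]; congr 1
    exact eq_of_conj a⁻¹ e (by group)
  rw [quad_inv ρ hqA r.ma] at e1
  have h1 := hqB b' hb' b₁ hb₁
  have h2 := hqB b' hb' b r.mb
  have h3 := hqA a r.ma a' ha'
  linear_combination (norm := noncomm_ring) (ρ b' - 1) * e1 + h1 * (2 - ρ a) * ρ b
    - h2 * (ρ a' - 1) + (ρ b' - 1) * h3

/-- If all mixed products vanish then the whole group acts quadratically. -/
theorem quad_all (hqA : ∀ a ∈ A, ∀ a' ∈ A, (ρ a - 1) * (ρ a' - 1) = 0)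
    (hqB : ∀ a ∈ B, ∀ a' ∈ B, (ρ a - 1) * (ρ a' - 1) = 0)
    (hAB : ∀ a ∈ A, ∀ b ∈ B, (ρ a - 1) * (ρ b - 1) = 0)
    (hBA : ∀ a ∈ A, ∀ b ∈ B, (ρ b - 1) * (ρ a - 1) = 0) :
    ∀ x ∈ A ⊔ B, ∀ y ∈ A ⊔ B, (ρ y - 1) * (ρ x - 1) = 0 := by
  have key : ∀ t : R, (∀ a ∈ A, (ρ a - 1) * t = 0) → (∀ a ∈ B, (ρ a - 1) * t = 0) →
      ∀ y ∈ A ⊔ B, (ρ y - 1) * t = 0 := by
    intro t h1 h2 y hy
    rw [Subgroup.sup_eq_closure] at hy
    induction hy using Subgroup.closure_induction'' with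
    | mem x hx => rcases hx with hx | hx; exacts [h1 x hx, h2 x hx]
    | one => simp
    | mul x y _ _ hx hy => rw [map_mul]; linear_combination (norm := noncomm_ring) ρ x * hy + hx
    | inv_mem x hx => rcases hx with hx | hx; exacts [h1 _ (A.inv_mem hx), h2 _ (B.inv_mem hx)]
  intro x hx y hy
  rw [Subgroup.sup_eq_closure] at hx
  induction hx using Subgroup.closure_induction'' with
  | mem x hx =>
    rcases hx with hx | hx
    · exact key _ (fun a ha => hqA a ha x hx) (fun a ha => hBA x hx a ha) y hy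
    · exact key _ (fun a ha => hAB a ha x hx) (fun a ha => hqB a ha x hx) y hy
  | one => simp
  | mul x z _ _ hx hz => rw [map_mul]; linear_combination (norm := noncomm_ring) hx * ρ z + hz
  | inv_mem x hx =>
    rcases hx with hx | hx
    · exact key _ (fun a ha => hqA a ha _ (A.inv_mem hx))
        (fun a ha => hBA _ (A.inv_mem hx) a ha) y hy
    · exact key _ (fun a ha => hAB a ha _ (B.inv_mem hx))
        (fun a ha => hqB a ha _ (B.inv_mem hx)) y hy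

/-- If `A` acts quadratically but `⟨A, B⟩` does not, then the rank one pair is special. -/
theorem isSpecial_of_quadratic (h : IsRankOnePair A B)
    (hqA : ∀ a ∈ A, ∀ a' ∈ A, (ρ a - 1) * (ρ a' - 1) = 0)
    (hX : ∃ x ∈ A ⊔ B, ∃ y ∈ A ⊔ B, (ρ y - 1) * (ρ x - 1) ≠ 0) : IsSpecialRankOnePair A B := by
  have hqB : ∀ a ∈ B, ∀ a' ∈ B, (ρ a - 1) * (ρ a' - 1) = 0 := by
    obtain ⟨x, -, e⟩ := R1.exists_conj_eq h
    rw [← e]; exact quad_conj ρ hqA x
  refine isSpecial_iff.2 ⟨h, fun a b r => ?_⟩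
  obtain ⟨b', hb', e⟩ := R1.rel_ex_conj r r.ma
  suffices hh : b * b' = 1 by
    have : b' = b⁻¹ := (inv_eq_of_mul_eq_one_right hh).symm
    subst this
    exact eq_of_conj b⁻¹ e (by group)
  by_contra hne
  obtain ⟨x, hx, y, hy, hxy⟩ := hX
  apply hxy
  have e1 : ρ b * ρ a * ρ b⁻¹ = ρ a * ρ b' * ρ a⁻¹ := by simp only [← map_mul, e]
  rw [quad_inv ρ hqA r.ma, quad_inv ρ hqB r.mb] at e1
  have k1 := quad_key ρ hqB hqA r.symm r.mb r.ma
  have haa := hqA a r.ma a r.ma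
  have hbb := hqB b r.mb b r.mb
  have hd : ρ (b * b') - 1 = (ρ b - 1) + (ρ b' - 1) := by
    rw [map_mul]; linear_combination (norm := noncomm_ring) hqB b r.mb b' hb'
  have h0 : (ρ a - 1) * (ρ (b * b') - 1) * (2 - ρ a) = 0 := by
    rw [hd]
    obtain ⟨α, hα⟩ : ∃ α, ρ a = 1 + α := ⟨ρ a - 1, by abel⟩
    obtain ⟨β, hβ⟩ : ∃ β, ρ b = 1 + β := ⟨ρ b - 1, by abel⟩
    obtain ⟨β', hβ'⟩ : ∃ β, ρ b' = 1 + β := ⟨ρ b' - 1, by abel⟩
    simp only [hα, hβ, hβ', add_sub_cancel_left] at e1 k1 haa hbb ⊢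
    linear_combination (norm := noncomm_ring) - α * e1 + k1 + haa * (1 - β) - α * hbb
      - haa * (1 + β') * (1 - α) + haa
  have h1 : (ρ a - 1) * (ρ (b * b') - 1) = 0 := by
    have : (2 - ρ a) * ρ a = 1 := by rw [← quad_inv ρ hqA r.ma, ← map_mul, inv_mul_cancel, map_one]
    linear_combination (norm := noncomm_ring) h0 * ρ a - (ρ a - 1) * (ρ (b * b') - 1) * this
  have hm := B.mul_mem r.mb hb'
  have h2 : ∀ a' ∈ A, (ρ a' - 1) * (ρ (b * b') - 1) = 0 := by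
    intro a' ha'
    rw [quad_key ρ hqB hqA r.symm hm ha', mul_assoc, h1, mul_zero]
  obtain ⟨a'', r'⟩ := R1.ex_rel_right h hm hne
  refine quad_all ρ hqA hqB (fun a₁ ha₁ b₁ hb₁ => ?_) (fun a₁ ha₁ b₁ hb₁ => ?_) x hx y hy
  · rw [quad_key ρ hqB hqA r'.symm hb₁ ha₁, h2 a₁ ha₁, zero_mul, zero_mul]
  · rw [quad_key ρ hqA hqB r' ha₁ hb₁, mul_assoc (ρ b₁ - 1), h2 a'' r'.ma, mul_zero, zero_mul]

/-- In a faithful quadratic representation of a rank one pair, if some non-identity element of `A` has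
order dividing `p` then every element of `A` does. -/
theorem quad_pow_eq_one (h : IsRankOnePair A B)
    (hqA : ∀ a ∈ A, ∀ a' ∈ A, (ρ a - 1) * (ρ a' - 1) = 0) (hf : Function.Injective ρ)
    {p : ℕ} {a : G} (ha : a ∈ A) (ha1 : a ≠ 1) (hp : a ^ p = 1) : ∀ c ∈ A, c ^ p = 1 := by
  have hqB : ∀ a ∈ B, ∀ a' ∈ B, (ρ a - 1) * (ρ a' - 1) = 0 := by
    obtain ⟨x, -, e⟩ := R1.exists_conj_eq h
    rw [← e]; exact quad_conj ρ hqA x
  have hpow : ∀ c ∈ A, ∀ n : ℕ, ρ (c ^ n) - 1 = n • (ρ c - 1) := by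
    intro c hc n
    induction n with
    | zero => simp
    | succ n ih =>
      have := hqA _ (A.pow_mem hc n) c hc
      rw [pow_succ, map_mul, add_smul, one_smul, ← ih]
      linear_combination (norm := noncomm_ring) this
  have h0 : p • (ρ a - 1) = 0 := by rw [← hpow a ha, hp, map_one, sub_self]
  obtain ⟨b, r⟩ := R1.ex_rel_left h ha ha1
  have h1 : ∀ a' ∈ A, ∀ b' ∈ B, p • ((ρ b' - 1) * (ρ a' - 1)) = 0 := by
    intro a' ha' b' hb'
    rw [quad_key ρ hqA hqB r ha' hb', ← smul_mul_assoc, ← smul_mul_assoc, ← mul_smul_comm, h0]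
    simp
  intro c hc
  by_contra hne
  obtain ⟨d, r'⟩ := R1.ex_rel_left h (A.pow_mem hc p) hne
  have h2 : (ρ d - 1) * (ρ (c ^ p) - 1) = 0 := by
    rw [hpow c hc, mul_smul_comm, h1 c hc d r'.mb]
  have h3 : (ρ (c ^ p) - 1) * (ρ d - 1) = 0 := by
    rw [quad_key ρ hqB hqA r'.symm r'.mb r'.ma, mul_assoc (ρ (c ^ p) - 1), h2]; simp
  apply R1.not_mul_comm h r'.ma r'.na r'.mb r'.nb
  apply hf
  rw [map_mul, map_mul]
  linear_combination (norm := noncomm_ring) h3 - h2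

end Quadratic

end Cfsg.Agent.Root
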