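import Cfsg.Agent.Root.Special

/-! Special rank one groups: the Weyl element `weyl a b = a b⁻¹ a`, the power rule for partners,
unique divisibility, `[A, H] = A` and perfectness when the (abelian) unipotent subgroup has more than
three elements. -/

namespace Cfsg.Agent.Root
open Cfsg

variable {G : Type*} [Group G] {A B : Subgroup G}

/-- The element `n(a) = a b⁻¹ a` attached to partners `a`, `b`. -/
def weyl (a b : G) : G := a * b⁻¹ * a

namespace Sp

theorem pair (h : IsSpecialRankOnePair A B) : IsRankOnePair A B := h.1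

theorem braid (h : IsSpecialRankOnePair A B) {a b : G} (r : Rel A B a b) :
    a * b⁻¹ * a = b⁻¹ * a * b⁻¹ := (isSpecial_iff.1 h).2 a b r

theorem symm (h : IsSpecialRankOnePair A B) : IsSpecialRankOnePair B A := by
  refine isSpecial_iff.2 ⟨R1.symm h.1, fun b a r => ?_⟩
  have := braid h r.symm
  exact eq_of_conj (a * b⁻¹ * a)⁻¹ this (by group)

theorem conj (h : IsSpecialRankOnePair A B) (g : G) :
    IsSpecialRankOnePair (conjBy A g) (conjBy B g) := by
  refine isSpecial_iff.2 ⟨R1.conj h.1 g, fun a b r => ?_⟩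
  have := braid h (a := g⁻¹ * a * g⁻¹⁻¹) (b := g⁻¹ * b * g⁻¹⁻¹) (by simpa using r.conj g⁻¹)
  exact eq_of_conj g this (by group)

theorem weyl_mem {a b : G} (r : Rel A B a b) : weyl a b ∈ A ⊔ B :=
  Subgroup.mul_mem _ (Subgroup.mul_mem_sup r.ma (B.inv_mem r.mb)) (Subgroup.mem_sup_left r.ma)

theorem weyl_conj_left (h : IsSpecialRankOnePair A B) {a b : G} (r : Rel A B a b) :
    weyl a b * a * (weyl a b)⁻¹ = b⁻¹ := by
  unfold weyl
  exact eq_of_conj 1 (congrArg (fun t => t * a * (a * b⁻¹ * a)⁻¹) (braid h r)) (by group)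

theorem weyl_conj_right (h : IsSpecialRankOnePair A B) {a b : G} (r : Rel A B a b) :
    weyl a b * b⁻¹ * (weyl a b)⁻¹ = a := by
  unfold weyl
  exact eq_of_conj a (braid h r).symm (by group)

theorem conjBy_weyl_right (h : IsSpecialRankOnePair A B) {a b : G} (r : Rel A B a b) :
    conjBy B (weyl a b) = A := by
  rw [weyl, braid h r, conjBy_mul_of_mem _ (B.inv_mem r.mb), ← conjBy_conjBy, ← r.eq]
  simp

theorem conjBy_weyl_left (h : IsSpecialRankOnePair A B) {a b : G} (r : Rel A B a b) :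
    conjBy A (weyl a b) = B := by
  have hm := R1.conj_mem_unip (R1.left_mem_unip (A := A) (B := B)) (weyl_mem r)
  have h1 : b⁻¹ ∈ conjBy A (weyl a b) := by
    rw [← weyl_conj_left h r]; exact conj_mem_conjBy _ r.ma
  exact (R1.eq_of_norm h.1 (R1.right_mem_unip h.1) hm (B.inv_mem r.mb) (inv_ne_one.2 r.nb)
    (conjBy_of_mem h1)).symm

theorem rel_inv (h : IsSpecialRankOnePair A B) {a b : G} (r : Rel A B a b) : Rel A B a⁻¹ b⁻¹ := by
  refine ⟨A.inv_mem r.ma, inv_ne_one.2 r.na, B.inv_mem r.mb, inv_ne_one.2 r.nb, ?_⟩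
  rw [← conjBy_weyl_left h r, weyl, conjBy_conjBy, mul_assoc, inv_mul_cancel_left,
    conjBy_mul_of_mem _ r.ma]

/-- A swap of `A` and `B` reverses the partner relation. -/
theorem rel_swap {a b n : G} (r : Rel A B a b) (h1 : conjBy A n = B) (h2 : conjBy B n = A) :
    Rel A B (n * b * n⁻¹) (n * a * n⁻¹) := by
  have := (r.conj n).symm
  rwa [h1, h2] at this

/-- The power rule: if `a`, `b` are partners and `c` is the partner of `b ^ k` then `c ^ k = a`. -/
theorem pow_rule (k : ℕ) : ∀ {A B : Subgroup G}, IsSpecialRankOnePair A B → ∀ {a b c : G},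
    Rel A B a b → Rel A B c (b ^ k) → c ^ k = a := by
  induction k with
  | zero => intro A B _ a b c _ r; exact absurd (pow_zero b) r.nb
  | succ k ih =>
    intro A B h a b c r rc
    by_cases hk : b ^ k = 1
    · have hb : b ^ (k + 1) = b := by rw [pow_succ, hk, one_mul]
      rw [hb] at rc
      obtain rfl := R1.rel_unique_left h.1 r rc
      have : a ^ k = 1 := by
        rw [← weyl_conj_right h r, conj_pow, inv_pow, hk]; simp
      rw [pow_succ, this, one_mul]
    obtain ⟨d, rd⟩ := R1.ex_rel_right h.1 (B.pow_mem r.mb k) hk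
    have hd : d ^ k = a := ih h r rd
    set n := weyl a b with hn
    have hnA := conjBy_weyl_left h r
    have hnB := conjBy_weyl_right h r
    have hna : n * a * n⁻¹ = b⁻¹ := weyl_conj_left h r
    have hnb : n * b⁻¹ * n⁻¹ = a := weyl_conj_right h r
    have hbk : b ^ (k + 1) ≠ 1 := rc.nb
    have hak : a ^ (k + 1) ≠ 1 := by
      rw [← hnb, conj_pow, inv_pow]; simpa using hbk
    have had : a * d = d ^ (k + 1) := by rw [← hd, pow_succ]
    have had1 : a * d ≠ 1 := by
      intro e; apply hak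
      rw [← hd, ← pow_mul, mul_comm, pow_mul, ← had, e, one_pow]
    obtain ⟨e, re⟩ := R1.ex_rel_left h.1 (A.mul_mem r.ma rd.ma) had1
    obtain ⟨f, rf⟩ := R1.ex_rel_left h.1 (A.pow_mem r.ma (k + 1)) hak
    have hfe : f ^ k = e := by
      refine ih (symm h) re.symm ?_
      rw [had, ← pow_mul, mul_comm, pow_mul, hd]; exact rf.symm
    -- `c` in terms of `e`
    have hb : b = a * n⁻¹ * a := by rw [hn, weyl]; group
    have hnA' : conjBy A n = B := hnA
    have hnB' : conjBy B n = A := hnB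
    have hc1 : c = a * (n⁻¹ * e * n) := by
      have hm : n⁻¹ * e * n ∈ A := by rw [← mem_conjBy, hnA']; exact re.mb
      refine R1.conj_left_inj h.1 rc.ma (A.mul_mem r.ma hm) ?_
      rw [← rc.eq, pow_succ', ← conjBy_conjBy, rd.eq, conjBy_conjBy]
      conv_lhs => rw [hb]
      rw [mul_assoc, ← conjBy_conjBy, ← re.eq, conjBy_conjBy, ← mul_assoc, ← mul_assoc,
        ← conjBy_conjBy B n, hnB']
    have hc2 : c⁻¹ = n⁻¹ * f * n := by
      have r1 := rel_swap rf (n := n⁻¹) (conjBy_inv_of_eq hnB') (conjBy_inv_of_eq hnA')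
      have r2 := rel_inv h rc
      have : n⁻¹ * a ^ (k + 1) * n⁻¹⁻¹ = (b ^ (k + 1))⁻¹ := by
        rw [← hnb, conj_pow, inv_pow]; group
      rw [this] at r1
      simpa using R1.rel_unique_left h.1 r2 r1
    have : n⁻¹ * e * n = (c ^ k)⁻¹ := by
      rw [← inv_pow, hc2, ← hfe]
      simpa using (conj_pow (a := n⁻¹) (b := f) (i := k)).symm
    rw [this] at hc1
    rw [pow_succ']
    exact mul_eq_of_eq_mul_inv hc1

/-- uniqueness of roots of non-identity elements of `A`. -/
theorem root_unique (h : IsSpecialRankOnePair A B) {k : ℕ} {x y : G} (hx : x ∈ A) (hy : y ∈ A)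
    (e : x ^ k = y ^ k) (h1 : x ^ k ≠ 1) : x = y := by
  have hx1 : x ≠ 1 := by rintro rfl; simp at h1
  have hy1 : y ≠ 1 := by rintro rfl; rw [e] at h1; simp at h1
  obtain ⟨b, r⟩ := R1.ex_rel_left h.1 (A.pow_mem hx k) h1
  obtain ⟨b₁, r₁⟩ := R1.ex_rel_left h.1 hx hx1
  obtain ⟨b₂, r₂⟩ := R1.ex_rel_left h.1 hy hy1
  have e1 := pow_rule k (symm h) r₁.symm r.symm
  have e2 := pow_rule k (symm h) r₂.symm (e ▸ r.symm)
  rw [e1] at e2
  subst e2
  exact R1.rel_unique_left h.1 r₁ r₂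

/-- existence of roots. -/
theorem root_exists (h : IsSpecialRankOnePair A B) {k : ℕ} {a : G} (ha : a ∈ A) (h1 : a ^ k ≠ 1) :
    ∃ c ∈ A, c ^ k = a := by
  have ha1 : a ≠ 1 := by rintro rfl; simp at h1
  obtain ⟨b, r⟩ := R1.ex_rel_left h.1 ha ha1
  have hb : b ^ k ≠ 1 := by
    intro e; apply h1
    rw [← weyl_conj_right h r, conj_pow, inv_pow, e]; simp
  obtain ⟨c, rc⟩ := R1.ex_rel_right h.1 (B.pow_mem r.mb k) hb
  exact ⟨c, rc.ma, pow_rule k h r rc⟩

theorem weyl_mul_inv_mem_diag (h : IsSpecialRankOnePair A B) {a b c d : G} (r : Rel A B a b)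
    (r' : Rel A B c d) : weyl a b * (weyl c d)⁻¹ ∈ rankOneDiagonal A B := by
  refine ⟨⟨Subgroup.mul_mem _ (weyl_mem r) (Subgroup.inv_mem _ (weyl_mem r')), ?_⟩, ?_⟩
  · apply conjBy_eq_iff_mem_normalizer.1
    rw [← conjBy_conjBy, conjBy_inv_of_eq (conjBy_weyl_right h r'), conjBy_weyl_right h r]
  · apply conjBy_eq_iff_mem_normalizer.1
    rw [← conjBy_conjBy, conjBy_inv_of_eq (conjBy_weyl_left h r'), conjBy_weyl_left h r]

theorem weyl_inv_mul_mem_diag (h : IsSpecialRankOnePair A B) {a b c d : G} (r : Rel A B a b)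
    (r' : Rel A B c d) : (weyl a b)⁻¹ * weyl c d ∈ rankOneDiagonal A B := by
  refine ⟨⟨Subgroup.mul_mem _ (Subgroup.inv_mem _ (weyl_mem r)) (weyl_mem r'), ?_⟩, ?_⟩
  · apply conjBy_eq_iff_mem_normalizer.1
    rw [← conjBy_conjBy, conjBy_weyl_left h r', conjBy_inv_of_eq (conjBy_weyl_left h r)]
  · apply conjBy_eq_iff_mem_normalizer.1
    rw [← conjBy_conjBy, conjBy_weyl_right h r', conjBy_inv_of_eq (conjBy_weyl_right h r)]

/-- The basic identity coming from the commutativity of `B`. -/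
theorem key_identity (h : IsSpecialRankOnePair A B) (hA : Comm A A) (hB : Comm B B) {a b c d e : G}
    (r : Rel A B a b) (r' : Rel A B c d) (re : Rel A B (a * c) e) :
    a * ((weyl a b)⁻¹ * e * weyl a b) = c * ((weyl c d)⁻¹ * e * weyl c d) := by
  have key : ∀ {a b c d : G}, Rel A B a b → Rel A B c d → Rel A B (a * c) e →
      (weyl a b)⁻¹ * e * weyl a b ∈ A ∧
      conjBy A (b * d) = conjBy B (a * ((weyl a b)⁻¹ * e * weyl a b)) := by
    intro a b c d r r' re
    refine ⟨by rw [← mem_conjBy, conjBy_weyl_left h r]; exact re.mb, ?_⟩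
    have hb : b = a * (weyl a b)⁻¹ * a := by rw [weyl]; group
    rw [← conjBy_conjBy, r'.eq, conjBy_conjBy]
    conv_lhs => rw [hb]
    rw [mul_assoc, ← conjBy_conjBy, ← re.eq, conjBy_conjBy, ← mul_assoc, ← mul_assoc,
      ← conjBy_conjBy B (weyl a b), conjBy_weyl_right h r]
  obtain ⟨m1, e1⟩ := key r r' re
  obtain ⟨m2, e2⟩ := key r' r (hA a r.ma c r'.ma ▸ re)
  refine R1.conj_left_inj h.1 (A.mul_mem r.ma m1) (A.mul_mem r'.ma m2) ?_
  rw [← e1, ← e2, hB b r.mb d r'.mb]

theorem mul_inv_mem_commutator (h : IsSpecialRankOnePair A B) (hA : Comm A A) (hB : Comm B B)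
    {a c : G} (ha : a ∈ A) (ha1 : a ≠ 1) (hc : c ∈ A) (hc1 : c ≠ 1) (hac : a * c ≠ 1) :
    c⁻¹ * a ∈ ⁅A, rankOneDiagonal A B⁆ := by
  obtain ⟨b, r⟩ := R1.ex_rel_left h.1 ha ha1
  obtain ⟨d, r'⟩ := R1.ex_rel_left h.1 hc hc1
  obtain ⟨e, re⟩ := R1.ex_rel_left h.1 (A.mul_mem ha hc) hac
  have k := key_identity h hA hB r r' re
  have m : (weyl c d)⁻¹ * e * weyl c d ∈ A := by
    rw [← mem_conjBy, conjBy_weyl_left h r']; exact re.mb
  have := Subgroup.commutator_mem_commutator m (weyl_inv_mul_mem_diag h r r')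
  convert this using 1
  rw [commutatorElement_def]
  exact eq_of_conj c⁻¹ k (by group)

theorem exists_avoid (h3 : 3 < ENat.card A) (x y z : G) : ∃ c ∈ A, c ≠ x ∧ c ≠ y ∧ c ≠ z := by
  by_contra hcon
  push Not at hcon
  have hsub : (A : Set G) ⊆ {x, y, z} := by
    intro c hc
    by_cases h1 : c = x
    · exact Or.inl h1
    by_cases h2 : c = y
    · exact Or.inr (Or.inl h2)
    exact Or.inr (Or.inr (hcon c hc h1 h2))
  have h1 := Set.encard_le_encard hsub
  have h2 : ({x, y, z} : Set G).encard ≤ 3 := by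
    refine (Set.encard_insert_le _ _).trans ?_
    refine (add_le_add_left (Set.encard_insert_le _ _) 1).trans ?_
    rw [Set.encard_singleton]; norm_num
  have h4 : ENat.card A = (A : Set G).encard := rfl
  rw [h4] at h3
  exact absurd (h3.trans_le (h1.trans h2)) (lt_irrefl _)

/-- `[A, H] = A` when `|A| > 3`. -/
theorem commutator_diag (h : IsSpecialRankOnePair A B) (hA : Comm A A) (hB : Comm B B)
    (h3 : 3 < ENat.card A) : ⁅A, rankOneDiagonal A B⁆ = A := by
  apply le_antisymm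
  · exact Subgroup.le_normalizer_iff_commutator_le_left.1 fun x hx => hx.1.2
  · intro x hx
    by_cases hx1 : x = 1
    · subst hx1; exact Subgroup.one_mem _
    obtain ⟨c, hc, h1, h2, h4⟩ : ∃ c ∈ A, c ≠ 1 ∧ c ≠ x⁻¹ ∧ c ^ 2 ≠ x⁻¹ := by
      by_cases hs : ∃ s ∈ A, s ^ 2 = x⁻¹
      · obtain ⟨s, hs, es⟩ := hs
        obtain ⟨c, hc, h1, h2, h4⟩ := exists_avoid h3 1 x⁻¹ s
        refine ⟨c, hc, h1, h2, fun e => h4 ?_⟩
        exact root_unique h hc hs (e.trans es.symm) (by rw [e]; exact inv_ne_one.2 hx1)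
      · push Not at hs
        obtain ⟨c, hc, h1, h2, -⟩ := exists_avoid h3 1 x⁻¹ 1
        exact ⟨c, hc, h1, h2, hs c hc⟩
    have := mul_inv_mem_commutator h hA hB (A.mul_mem hc hx)
      (fun e => h2 (eq_inv_of_mul_eq_one_left e)) hc h1 (fun e => h4 (by
        rw [mul_assoc, hA x hx c hc, ← mul_assoc, ← sq] at e
        exact eq_inv_of_mul_eq_one_left e))
    simpa using this

theorem left_le_commutator (h : IsSpecialRankOnePair A B) (hA : Comm A A) (hB : Comm B B)
    (h3 : 3 < ENat.card A) : A ≤ ⁅A ⊔ B, A ⊔ B⁆ := by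
  conv_lhs => rw [← commutator_diag h hA hB h3]
  exact Subgroup.commutator_mono le_sup_left fun x hx => hx.1.1

/-- A special rank one group with abelian unipotent subgroups of order `> 3` is perfect. -/
theorem commutator_eq (h : IsSpecialRankOnePair A B) (hA : Comm A A) (hB : Comm B B)
    (h3 : 3 < ENat.card A) : ⁅A ⊔ B, A ⊔ B⁆ = A ⊔ B := by
  refine le_antisymm (Subgroup.commutator_le_self _) (sup_le (left_le_commutator h hA hB h3) ?_)
  obtain ⟨x, hx, e⟩ := R1.exists_conj_eq h.1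
  have := conjBy_mono x (left_le_commutator h hA hB h3)
  rwa [e, conjBy_commutator, conjBy_of_mem hx] at this

end Sp

end Cfsg.Agent.Root
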