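import Cfsg.Agent.Root.Max3

/-! Subfield subgroups of classical groups, I: rational structures `Rt Φ₀ Φ j`, the group `ratG S`
of maps preserving `S` up to a scalar, the ring of parameters of Eichler maps with rational data in an
overgroup `X`, and the dichotomy `Rt.le_or_small`. -/

set_option autoImplicit false

namespace Cfsg.Agent.Root.Mx

open Cfsg.Agent.Geom Cfsg.Agent.AutCl Module

section Gen
variable {F : Type*} [Field F] {σ : F →+* F} {V : Type*} [AddCommGroup V] [Module F V]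
  {Φ : Formed σ V}

/-- The automorphisms preserving `S` up to a scalar. -/
def ratG (F : Type*) [Field F] {V : Type*} [AddCommGroup V] [Module F V] (S : Set V) :
    Subgroup (V ≃ₗ[F] V) where
  carrier := {g | ∃ c : F, c ≠ 0 ∧ ∀ v, v ∈ S ↔ c • g v ∈ S}
  one_mem' := ⟨1, one_ne_zero, by simp⟩
  mul_mem' := fun {a b} ⟨c, hc, h⟩ ⟨d, hd, h'⟩ => ⟨c * d, mul_ne_zero hc hd, fun v => by
    rw [h', h, map_smul, smul_smul]; rfl⟩
  inv_mem' := fun {g} ⟨c, hc, h⟩ => ⟨c⁻¹, inv_ne_zero hc, fun v => by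
    rw [h (c⁻¹ • _), map_smul, smul_smul, mul_inv_cancel₀ hc, one_smul]; simp⟩

theorem mem_ratG [Finite V] {S : Set V} {g : V ≃ₗ[F] V} :
    g ∈ ratG F S ↔ ∃ c : F, c ≠ 0 ∧ ∀ v ∈ S, c • g v ∈ S := by
  refine ⟨fun ⟨c, hc, h⟩ => ⟨c, hc, fun v => (h v).1⟩, fun ⟨c, hc, h⟩ => ⟨c, hc, fun v => ⟨h v, fun hv => ?_⟩⟩⟩
  have hi : Function.Injective fun v => c • g v := fun x y e => g.injective (smul_right_injective V hc e)
  obtain ⟨w, hw, e⟩ := ((Set.toFinite S).injOn_iff_bijOn_of_mapsTo (f := fun v => c • g v) h).1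
    hi.injOn |>.surjOn hv
  exact hi e ▸ hw

variable [FiniteDimensional F V]

theorem exists_B_one (hn : Φ.Nondeg) {W : Submodule F V} (h : finrank F V < 2 * finrank F W) :
    ∃ w ∈ W, ∃ a ∈ W, Φ.B w a = 1 := by
  obtain ⟨w, hw, hw'⟩ := exists_notMem_of_lt (U := W) (R := Φ.perp W) (by
    have := hn.finrank_add_finrank_perp W; omega)
  obtain ⟨a, ha, h⟩ := hn.exists_perp_eq_one' hw'
  exact ⟨w, hw, a, hn.perp_perp W ▸ ha, h⟩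

theorem exists_dual (hn : Φ.Nondeg) {k : ℕ} (s : Fin k → V) {w : V}
    (hw : w ∉ Submodule.span F (Set.range s)) : ∃ t, Φ.B w t = 1 ∧ ∀ i, Φ.B (s i) t = 0 := by
  obtain ⟨t, ht, h⟩ := hn.exists_perp_eq_one' hw
  exact ⟨t, h, fun i => Φ.mem_perp_span.1 ht _ ⟨i, rfl⟩⟩

theorem exists_dual1 (hn : Φ.Nondeg) {u w : V} (hw : w ∉ F ∙ u) : ∃ t, Φ.B w t = 1 ∧ Φ.B u t = 0 := by
  obtain ⟨t, ht, h⟩ := hn.exists_perp_eq_one' hw
  exact ⟨t, h, Φ.mem_perp_span_singleton.1 ht⟩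

theorem notMem_symm {u w : V} (hw : w ∉ F ∙ u) (hu : u ≠ 0) : u ∉ F ∙ w := fun h => by
  obtain ⟨c, rfl⟩ := Submodule.mem_span_singleton.1 h
  have hc : c ≠ 0 := by rintro rfl; simp at hu
  exact hw (Submodule.mem_span_singleton.2 ⟨c⁻¹, by simp [hc]⟩)

variable [Finite F]

/-- The singular vectors of `u^⊥` outside `⟨u⟩` generate `u^⊥` additively. -/
theorem perp_ind (hn : Φ.Nondeg) (h5 : 5 ≤ finrank F V) {u : V} (hu0 : u ≠ 0) (hu : Φ.Sing u)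
    (A : AddSubgroup V) (h : ∀ x, Φ.B u x = 0 → Φ.Sing x → x ∉ F ∙ u → x ∈ A) :
    ∀ x, Φ.B u x = 0 → x ∈ A := by
  obtain ⟨r, hr⟩ := hn.exists_isPair hu0 hu
  have hd := hr.finrank_pairPerp hn
  obtain ⟨a, ha, b, hb, hab⟩ := exists_pair hn (hr.nondeg_pairPerp hn) (by omega)
  have key : ∀ (c : F) x, x ∈ Φ.pairPerp u r → x ≠ 0 → Φ.Sing x → x + c • u ∈ A := fun c x hx hx0 hs => by
    obtain ⟨h1, h2⟩ := Φ.mem_pairPerp.1 hx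
    refine h _ (by simp [h1, hu.2]) (sing_add_of_perp hs (hu.smul c) (by simp [Φ.B_eq_zero_symm h1]))
      fun hc => ?_
    rw [Submodule.add_mem_iff_left _ (Submodule.smul_mem _ _ (Submodule.mem_span_singleton_self u))] at hc
    obtain ⟨e, rfl⟩ := Submodule.mem_span_singleton.1 hc
    rw [Φ.B_smul_right, hr.fe, mul_eq_zero, or_iff_left Φ.ε_ne_zero] at h2
    exact hx0 (by simp [h2])
  have ha0 : a ≠ 0 := hab.left_ne_zero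
  intro x hx
  obtain ⟨c, e, w, hw, rfl⟩ := hr.exists_decomp x
  obtain rfl : e = 0 := by simpa [hu.2, hr.ef, (Φ.mem_pairPerp.1 hw).1] using hx
  have h1 : w ∈ A := sing_ind ha hb hab A (fun y hy hs => by
    rcases eq_or_ne y 0 with rfl | h0
    · exact A.zero_mem
    · simpa using key 0 y hy h0 hs) w hw
  have h2 : c • u ∈ A := by simpa using A.sub_mem (key c a ha ha0 hab.se) (key 0 a ha ha0 hab.se)
  simpa using A.add_mem h2 h1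

theorem exists_two_sing (Φ : Formed σ V) {k : ℕ} (s : Fin k → V) {U : Submodule F V}
    (h : k + 4 ≤ finrank F U) : ∃ p ∈ U, ∃ q ∈ U, Φ.Sing p ∧ Φ.Sing q ∧ p ≠ 0 ∧ q ∉ F ∙ p ∧
      (∀ i, Φ.B (s i) p = 0) ∧ ∀ i, Φ.B (s i) q = 0 := by
  obtain ⟨p, hp, hp0, hps, h1⟩ := exists_sing_pf Φ s (U := U) (R := ⊥) (by simp; omega)
  obtain ⟨q, hq, hq0, hqs, h2⟩ := exists_sing_pf Φ s (U := U) (R := F ∙ p) (by
    have := finrank_span_one (F := F) p; omega)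
  exact ⟨p, hp, q, hq, hps, hqs, by simpa using hp0, hq0, h1, h2⟩

end Gen

variable {F₀ F : Type*} [Field F₀] [Field F] [Algebra F₀ F] {σ₀ : F₀ →+* F₀} {σ : F →+* F}
  {V₀ V : Type*} [AddCommGroup V₀] [Module F₀ V₀] [AddCommGroup V] [Module F V]

/-- `j` embeds the formed space `Φ₀` over `F₀` as a rational structure of `Φ`. -/
structure Rt (Φ₀ : Formed σ₀ V₀) (Φ : Formed σ V) (j : V₀ →ₛₗ[algebraMap F₀ F] V) : Prop where
  hn : Φ.Nondeg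
  hn₀ : Φ₀.Nondeg
  hB : ∀ x y, Φ.B (j x) (j y) = algebraMap F₀ F (Φ₀.B x y)
  hQ : ∀ x, Φ.Q (j x) = algebraMap F₀ F (Φ₀.Q x)
  hσ : ∀ c, σ (algebraMap F₀ F c) = algebraMap F₀ F (σ₀ c)
  hε : Φ.ε = algebraMap F₀ F Φ₀.ε
  hτ : Φ.τ = algebraMap F₀ F Φ₀.τ
  span : Submodule.span F (Set.range j) = ⊤
  dim : 13 ≤ finrank F₀ V₀

/-- An overgroup of the rational Eichler maps. -/
structure Ov (Φ : Formed σ V) (j : V₀ →ₛₗ[algebraMap F₀ F] V) (X : Subgroup (V ≃ₗ[F] V)) : Prop where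
  rat : ∀ p a d g, IsE Φ (j p) (j a) (algebraMap F₀ F d) g → g ∈ X
  isom : X ≤ Φ.isom

/-- All Eichler maps at rational points in `X` have rational data. -/
def Small (Φ₀ : Formed σ₀ V₀) (Φ : Formed σ V) (j : V₀ →ₛₗ[algebraMap F₀ F] V)
    (X : Subgroup (V ≃ₗ[F] V)) : Prop :=
  ∀ u a d, u ≠ 0 → HasE Φ X (j u) a d → ∀ v, Φ₀.B u v = 0 → Φ.B a (j v) ∈ (algebraMap F₀ F).fieldRange

variable {Φ₀ : Formed σ₀ V₀} {Φ : Formed σ V} {j : V₀ →ₛₗ[algebraMap F₀ F] V}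
  {X : Subgroup (V ≃ₗ[F] V)}

local notation "f" => algebraMap F₀ F

namespace Rt

theorem B_zero (h : Rt Φ₀ Φ j) {x y : V₀} (e : Φ₀.B x y = 0) : Φ.B (j x) (j y) = 0 := by
  rw [h.hB, e, map_zero]

theorem B_one (h : Rt Φ₀ Φ j) {x y : V₀} (e : Φ₀.B x y = 1) : Φ.B (j x) (j y) = 1 := by
  rw [h.hB, e, map_one]

theorem sing (h : Rt Φ₀ Φ j) {x : V₀} : Φ.Sing (j x) ↔ Φ₀.Sing x := by
  simp only [Formed.Sing, h.hQ, h.hB, map_eq_zero]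

theorem inj (h : Rt Φ₀ Φ j) : Function.Injective j :=
  (injective_iff_map_eq_zero j).2 fun x hx => h.hn₀ x fun y => by
    simpa [hx] using (h.hB x y).symm

theorem ne (h : Rt Φ₀ Φ j) {x : V₀} (hx : x ≠ 0) : j x ≠ 0 := by rwa [Ne, map_eq_zero_iff j h.inj]

theorem eq_zero (h : Rt Φ₀ Φ j) {v : V} (hv : ∀ w, Φ.B v (j w) = 0) : v = 0 := h.hn v fun y => by
  have : Submodule.span F (Set.range j) ≤ LinearMap.ker (Φ.B v) :=
    Submodule.span_le.2 (by rintro _ ⟨w, rfl⟩; exact hv w)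
  exact this (h.span ▸ Submodule.mem_top)

theorem σ_mem (h : Rt Φ₀ Φ j) {c : F} (hc : σ c ∈ (f).fieldRange) : c ∈ (f).fieldRange := by
  obtain ⟨a, ha⟩ := hc
  exact ⟨σ₀ a, by rw [← h.hσ, ha, Φ.σσ]⟩

theorem ε_mem (h : Rt Φ₀ Φ j) : Φ.ε ∈ (f).fieldRange := ⟨_, h.hε.symm⟩

theorem fin (h : Rt Φ₀ Φ j) : FiniteDimensional F₀ V₀ := .of_finrank_pos (by have := h.dim; omega)

theorem rat_of_B (h : Rt Φ₀ Φ j) {v : V} (hv : ∀ w, Φ.B v (j w) ∈ (f).fieldRange) : ∃ r, v = j r := by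
  haveI := h.fin
  choose φ hφ using hv
  obtain ⟨r, hr⟩ := h.hn₀.exists_eq_B
    { toFun := φ
      map_add' := fun x y => (f).injective (by simp [hφ])
      map_smul' := fun c x => (f).injective (by simp [hφ, map_smulₛₗ]) }
  refine ⟨r, sub_eq_zero.1 (h.eq_zero fun w => ?_)⟩
  rw [Φ.B_sub_left, h.hB, hr, ← hφ]; simp

theorem rat_add (h : Rt Φ₀ Φ j) {u : V₀} (hu : u ≠ 0) {v : V}
    (hv : ∀ w, Φ₀.B u w = 0 → Φ.B v (j w) ∈ (f).fieldRange) : ∃ r, ∃ μ : F, v = j r + μ • j u := by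
  obtain ⟨u', hu'⟩ := h.hn₀.exists_eq_one hu
  obtain ⟨r, hr⟩ := h.rat_of_B (v := v - σ (Φ.B v (j u')) • j u) fun w => by
    convert hv (w - Φ₀.B u w • u') (by simp [hu']) using 1
    rw [Φ.B_sub_left, Φ.B_smul_left, Φ.σσ, h.hB]; simp [map_smulₛₗ, mul_comm]
  exact ⟨r, _, sub_eq_iff_eq_add.1 hr⟩

theorem mem_span (h : Rt Φ₀ Φ j) {u : V₀} (hu : u ≠ 0) {v : V}
    (hv : ∀ w, Φ₀.B u w = 0 → Φ.B v (j w) = 0) : v ∈ F ∙ j u := by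
  obtain ⟨u', hu'⟩ := h.hn₀.exists_eq_one hu
  refine Submodule.mem_span_singleton.2 ⟨σ (Φ.B v (j u')), (sub_eq_zero.1 (h.eq_zero fun w => ?_)).symm⟩
  convert hv (w - Φ₀.B u w • u') (by simp [hu']) using 1
  rw [Φ.B_sub_left, Φ.B_smul_left, Φ.σσ, h.hB]; simp [map_smulₛₗ, mul_comm]

theorem notMem (h : Rt Φ₀ Φ j) {u w : V₀} (hw : w ∉ F₀ ∙ u) : j w ∉ F ∙ j u := fun hc => by
  haveI := h.fin
  obtain ⟨t, h1, h2⟩ := exists_dual1 h.hn₀ hw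
  obtain ⟨c, hc⟩ := Submodule.mem_span_singleton.1 hc
  have := h.B_one h1
  rw [← hc, Φ.B_smul_left, h.B_zero h2, mul_zero] at this
  exact zero_ne_one this

variable [FiniteDimensional F V]

theorem lift (h : Rt Φ₀ Φ j) {p a : V₀} {d : F₀} (hp : Φ₀.Sing p) (hpa : Φ₀.B p a = 0)
    (hQ : Φ₀.τ * d = Φ₀.Q a) (hB : Φ₀.ε * d + σ₀ d = Φ₀.B a a) : ∃ g, IsE Φ (j p) (j a) (f d) g :=
  exists_isE h.hn (h.sing.2 hp) (h.B_zero hpa) (by rw [h.hτ, h.hQ, ← hQ, map_mul])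
    (by rw [h.hε, h.hB, h.hσ, ← hB, map_add, map_mul])

theorem app (h : Rt Φ₀ Φ j) {p a : V₀} {d : F₀} {g : V ≃ₗ[F] V} (hg : IsE Φ (j p) (j a) (f d) g) (x : V₀) :
    g (j x) = j (x + (Φ₀.B a x - d * Φ₀.B p x) • p - (Φ₀.ε * Φ₀.B p x) • a) := by
  rw [hg.app]; simp [map_smulₛₗ, h.hB, h.hε]

theorem hasE (h : Rt Φ₀ Φ j) (hX : Ov Φ j X) {p a : V₀} (hp : Φ₀.Sing p) (hpa : Φ₀.B p a = 0) :
    ∃ d, HasE Φ X (j p) (j a) (f d) := by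
  obtain ⟨d, h1, h2⟩ := Φ₀.trace a
  obtain ⟨g, hg⟩ := h.lift hp hpa h1 h2
  exact ⟨d, g, hX.rat _ _ _ _ hg, hg⟩

theorem hasE0 (h : Rt Φ₀ Φ j) (hX : Ov Φ j X) {p a : V₀} (hp : Φ₀.Sing p) (ha : Φ₀.Sing a)
    (hpa : Φ₀.B p a = 0) : HasE Φ X (j p) (j a) 0 := by
  obtain ⟨g, hg⟩ := h.lift (d := 0) hp hpa (by simp [ha.1]) (by simp [ha.2])
  exact ⟨g, hX.rat _ _ _ _ hg, by simpa using hg⟩

/-- `c` is a parameter at `p`. -/
def Par (Φ₀ : Formed σ₀ V₀) (Φ : Formed σ V) (j : V₀ →ₛₗ[algebraMap F₀ F] V)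
    (X : Subgroup (V ≃ₗ[F] V)) (p : V₀) (c : F) : Prop :=
  ∀ w, Φ₀.B p w = 0 → ∃ d, HasE Φ X (j p) (c • j w) d

variable [Finite F₀]

theorem par_of (h : Rt Φ₀ Φ j) (hX : Ov Φ j X) {p w : V₀} {c d : F} (hp0 : p ≠ 0)
    (hw : w ∉ F₀ ∙ p) (hpw : Φ₀.B p w = 0) (he : HasE Φ X (j p) (c • j w) d) : Par Φ₀ Φ j X p c := by
  haveI := h.fin
  have := h.dim
  refine perp_le_of_inv h.hn₀ (by omega) hp0 (h.sing.1 he.sp)
    ((AE Φ X he.sp).comap ((DistribSMul.toAddMonoidHom V c).comp j.toAddMonoidHom))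
    (fun y z d g hy hz hg a ha => ?_) ⟨d, he⟩ hpw hw
  obtain ⟨s, hs⟩ := h.lift hg.sp hg.pa hg.hQ hg.hB
  have := map_mem_AE (hp := he.sp) (hX.rat _ _ _ _ hs) hs.mem_isom (by
    rw [h.app hs, Φ₀.B_eq_zero_symm hy, Φ₀.B_eq_zero_symm hz]; simp) ha
  change c • j (g a) ∈ AE Φ X he.sp
  rwa [hg.app, ← h.app hs, ← map_smul s c (j a)]

theorem par_step (h : Rt Φ₀ Φ j) (hX : Ov Φ j X) {u p : V₀} {c c' : F} (hp0 : p ≠ 0)
    (hu : u ∉ F₀ ∙ p) (hpu : Φ₀.B p u = 0) (h1 : Par Φ₀ Φ j X u c) (h2 : Par Φ₀ Φ j X p c') :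
    Par Φ₀ Φ j X p (σ c * c') := by
  haveI := h.fin
  obtain ⟨w, hw, a, ha, e⟩ := exists_B_one h.hn₀ (W := ⊤ ⊓ pf Φ₀ ![u, p]) (by
    have := finrank_pf (Φ := Φ₀) ![u, p] ⊤; have := h.dim; rw [finrank_top] at *; omega)
  have hw := mem_pf.1 hw.2
  have ha := mem_pf.1 ha.2
  obtain ⟨d, h1⟩ := h1 w (hw 0)
  obtain ⟨d', h2⟩ := h2 a (ha 1)
  refine h.par_of hX hp0 hu hpu (d := 0) ((h1.move h2 (h.B_zero (Φ₀.B_eq_zero_symm hpu)) ?_ ?_).congr ?_ rfl)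
  · rw [Φ.B_smul_left, h.B_zero (Φ₀.B_eq_zero_symm (show Φ₀.B p w = 0 from hw 1)), mul_zero]
  · rw [Φ.B_smul_right, h.B_zero (show Φ₀.B u a = 0 from ha 0), mul_zero]
  · rw [Φ.B_smul_left, Φ.B_smul_right, h.B_one e, mul_one]

theorem par_rat (h : Rt Φ₀ Φ j) (hX : Ov Φ j X) {p : V₀} (hp : Φ₀.Sing p) (c : F₀) :
    Par Φ₀ Φ j X p (f c) := fun w hw => by
  obtain ⟨d, hd⟩ := h.hasE hX hp (a := c • w) (by simp [hw])
  exact ⟨_, hd.congr (map_smulₛₗ j c w) rfl⟩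

theorem par_σ (h : Rt Φ₀ Φ j) (hX : Ov Φ j X) {u p : V₀} {c : F} (hp0 : p ≠ 0) (hp : Φ₀.Sing p)
    (hu : u ∉ F₀ ∙ p) (hpu : Φ₀.B p u = 0) (h1 : Par Φ₀ Φ j X u c) : Par Φ₀ Φ j X p (σ c) := by
  simpa using h.par_step hX hp0 hu hpu h1 (h.par_rat hX hp 1)

theorem exists_nbr (h : Rt Φ₀ Φ j) {u p : V₀} (hu0 : u ≠ 0) (hp0 : p ≠ 0) : ∃ z, z ≠ 0 ∧ Φ₀.Sing z ∧
    Φ₀.B u z = 0 ∧ Φ₀.B p z = 0 ∧ z ∉ F₀ ∙ u ∧ z ∉ F₀ ∙ p ∧ u ∉ F₀ ∙ z ∧ p ∉ F₀ ∙ z := by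
  haveI := h.fin
  obtain ⟨z, -, hz, hs, h1⟩ := exists_sing_pf Φ₀ ![u, p] (U := ⊤) (R := (F₀ ∙ u) ⊔ F₀ ∙ p) (by
    have := finrank_sup_one (F₀ ∙ u) p; have := finrank_span_one (F := F₀) u; have := h.dim
    rw [finrank_top]; omega)
  have h2 : z ∉ F₀ ∙ u := fun e => hz (Submodule.mem_sup_left e)
  have h3 : z ∉ F₀ ∙ p := fun e => hz (Submodule.mem_sup_right e)
  exact ⟨z, by rintro rfl; simp at hz, hs, h1 0, h1 1, h2, h3, notMem_symm h2 hu0, notMem_symm h3 hp0⟩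

theorem par_all (h : Rt Φ₀ Φ j) (hX : Ov Φ j X) {u p : V₀} {c : F} (hu0 : u ≠ 0) (hp0 : p ≠ 0)
    (hp : Φ₀.Sing p) (h1 : Par Φ₀ Φ j X u c) : Par Φ₀ Φ j X p c := by
  obtain ⟨z, hz0, hz, e1, e2, -, n2, n3, -⟩ := h.exists_nbr hu0 hp0
  simpa [Φ.σσ] using h.par_σ hX hp0 hp n2 e2 (h.par_σ hX hz0 hz n3 (Φ₀.B_eq_zero_symm e1) h1)

theorem exists_pl (h : Rt Φ₀ Φ j) : ∃ u w, u ≠ 0 ∧ Φ₀.Sing u ∧ Φ₀.Sing w ∧ w ∉ F₀ ∙ u ∧ Φ₀.B u w = 0 := by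
  haveI := h.fin
  obtain ⟨u, hu0, hu⟩ := exists_sing_top Φ₀ (by have := h.dim; omega)
  obtain ⟨z, -, hz, e1, -, n1, -⟩ := h.exists_nbr hu0 hu0
  exact ⟨u, z, hu0, hu, hz, n1, e1⟩

/-- The ring of parameters. -/
def parR (h : Rt Φ₀ Φ j) (hX : Ov Φ j X) : Subring F where
  carrier := {c | ∀ p, p ≠ 0 → Φ₀.Sing p → Par Φ₀ Φ j X p c}
  one_mem' := fun p _ hp => by simpa using h.par_rat hX hp 1
  zero_mem' := fun p _ hp => by simpa using h.par_rat hX hp 0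
  add_mem' := fun ha hb p h0 hp w hw => by
    obtain ⟨_, h1⟩ := ha p h0 hp w hw
    obtain ⟨_, h2⟩ := hb p h0 hp w hw
    exact ⟨_, (h1.mul h2).congr (add_smul _ _ _).symm rfl⟩
  neg_mem' := fun ha p h0 hp w hw => by
    obtain ⟨_, h1⟩ := ha p h0 hp w hw
    exact ⟨_, h1.inv.congr (neg_smul _ _).symm rfl⟩
  mul_mem' := fun ha hb p h0 hp => by
    obtain ⟨z, hz0, hz, e1, -, n1, -, n3, -⟩ := h.exists_nbr h0 h0
    simpa [Φ.σσ] using h.par_step hX h0 n1 e1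
      (h.par_σ hX hz0 hz n3 (Φ₀.B_eq_zero_symm e1) (ha p h0 hp)) (hb p h0 hp)

theorem mem_parR (h : Rt Φ₀ Φ j) (hX : Ov Φ j X) {u : V₀} {c : F} (hu0 : u ≠ 0)
    (h1 : Par Φ₀ Φ j X u c) : c ∈ h.parR hX := fun _ h0 hp => h.par_all hX hu0 h0 hp h1

theorem σ_mem_parR (h : Rt Φ₀ Φ j) (hX : Ov Φ j X) {c : F} (hc : c ∈ h.parR hX) : σ c ∈ h.parR hX := by
  obtain ⟨u, w, h0, hu, hw, n, e⟩ := h.exists_pl
  exact h.mem_parR hX h0 (h.par_σ hX h0 hu n e (hc w (by rintro rfl; simp at n) hw))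

theorem B_mem_aux (h : Rt Φ₀ Φ j) (hX : Ov Φ j X) {u v w : V₀} {a : V} {d : F} {e : F₀} (hu0 : u ≠ 0)
    (ha : HasE Φ X (j u) a d) (hv : Φ₀.B u v = 0) (hw : Φ₀.B u w = 0)
    (hw' : w ∉ (F₀ ∙ u) ⊔ F₀ ∙ v) (hs : HasE Φ X (j w) (j v) (f e)) :
    Φ.B (j v) a - f e * Φ.B (j w) a ∈ h.parR hX := by
  haveI := h.fin
  obtain ⟨s, hsX, hs⟩ := hs
  have hu := ha.sp
  have h1 : s a - a ∈ AE Φ X hu := (AE Φ X hu).sub_mem (map_mem_AE hsX hs.mem_isom (by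
    rw [h.app hs, Φ₀.B_eq_zero_symm hv, Φ₀.B_eq_zero_symm hw]; simp) ⟨d, ha⟩) ⟨d, ha⟩
  obtain ⟨p, -, hp, hps, e1⟩ := exists_sing_pf Φ₀ ![u, v, w] (U := ⊤)
    (R := ((F₀ ∙ u) ⊔ F₀ ∙ v) ⊔ F₀ ∙ w) (by
    have := finrank_sup_one (F₀ ∙ u) v; have := finrank_span_one (F := F₀) u; have := h.dim
    have := finrank_sup_one ((F₀ ∙ u) ⊔ F₀ ∙ v) w
    rw [finrank_top]; omega)
  obtain ⟨t, ht, e2⟩ := h.hn₀.exists_perp_eq_one' (H := ((F₀ ∙ u) ⊔ F₀ ∙ v) ⊔ F₀ ∙ p) (x := w)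
    fun hc => hp (exch hc hw')
  simp only [Φ₀.perp_sup, Submodule.mem_inf, Φ₀.mem_perp_span_singleton] at ht
  obtain ⟨d', h1⟩ := h1
  obtain ⟨d'', h2⟩ := h.hasE hX hps ht.2
  have e10 : Φ₀.B u p = 0 := e1 0
  have h3 := h1.move h2 (h.B_zero e10) (by
    simp [hs.app, Φ.B_smul_left, h.B_zero (show Φ₀.B v p = 0 from e1 1),
      h.B_zero (show Φ₀.B w p = 0 from e1 2)]) (h.B_zero ht.1.1)
  have hp0 : p ≠ 0 := by rintro rfl; simp at hp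
  have h4 := h.σ_mem_parR hX (h.mem_parR hX hp0 (h.par_of hX hp0 (notMem_symm (fun e => hp
    (Submodule.mem_sup_left (Submodule.mem_sup_left e))) hu0) (Φ₀.B_eq_zero_symm e10) h3))
  convert h4 using 1
  simp [hs.app, Φ.B_smul_left, h.B_zero ht.1.2, h.B_one e2, Φ.σσ]

theorem B_mem (h : Rt Φ₀ Φ j) (hX : Ov Φ j X) {u v : V₀} {a : V} {d : F} (hu0 : u ≠ 0)
    (ha : HasE Φ X (j u) a d) (hv : Φ₀.B u v = 0) : Φ.B a (j v) ∈ h.parR hX := by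
  haveI := h.fin
  have hf : ∀ c, f c ∈ h.parR hX := fun c _ _ hp => h.par_rat hX hp c
  have ex : ∀ v, ∃ w, Φ₀.Sing w ∧ Φ₀.B u w = 0 ∧ Φ₀.B w v = 0 ∧ w ∉ (F₀ ∙ u) ⊔ F₀ ∙ v := fun v => by
    obtain ⟨w, -, hw, hs, e⟩ := exists_sing_pf Φ₀ ![u, v] (U := ⊤) (R := (F₀ ∙ u) ⊔ F₀ ∙ v) (by
      have := finrank_sup_one (F₀ ∙ u) v; have := finrank_span_one (F := F₀) u; have := h.dim
      rw [finrank_top]; omega)
    exact ⟨w, hs, e 0, Φ₀.B_eq_zero_symm (e 1), hw⟩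
  obtain ⟨w, hs, e1, e2, n⟩ := ex v
  obtain ⟨w', hs', e1', e2', n'⟩ := ex w
  obtain ⟨e, he⟩ := h.hasE hX hs e2
  have h1 := h.B_mem_aux hX hu0 ha hv e1 n he
  have h2 := h.B_mem_aux hX (e := 0) hu0 ha e1 e1' n' (by simpa using h.hasE0 hX hs' hs e2')
  rw [map_zero, zero_mul, sub_zero] at h2
  rw [Φ.symm, h.hε]
  refine mul_mem (hf _) (h.σ_mem_parR hX ?_)
  simpa using add_mem h1 (mul_mem (hf e) h2)

theorem mem_AE_of_top (h : Rt Φ₀ Φ j) (hX : Ov Φ j X) (ht : h.parR hX = ⊤) {u : V₀} (hu0 : u ≠ 0)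
    (hu : Φ₀.Sing u) (v : V) (hv : Φ.B (j u) v = 0) : v ∈ AE Φ X (h.sing.2 hu) := by
  obtain ⟨u', hu'⟩ := h.hn₀.exists_eq_one hu0
  have : ∀ v : V, ∀ c : F, c • (v - Φ.B (j u) v • j u') ∈ AE Φ X (h.sing.2 hu) := fun v => by
    induction (h.span ▸ Submodule.mem_top : v ∈ Submodule.span F (Set.range j)) using
      Submodule.span_induction with
    | mem x hx =>
      obtain ⟨w, rfl⟩ := hx
      intro c
      have := (ht.ge (Subring.mem_top c)) u hu0 hu (w - Φ₀.B u w • u') (by simp [hu'])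
      rwa [map_sub, map_smulₛₗ, ← h.hB] at this
    | zero => simp
    | add x y _ _ hx hy =>
      intro c
      convert add_mem (hx c) (hy c) using 1
      rw [map_add]; module
    | smul e x _ hx =>
      intro c
      convert hx (c * e) using 1
      rw [map_smul, smul_eq_mul]; module
  simpa [hv] using this v 1

variable [Finite F]

theorem full_of_top (h : Rt Φ₀ Φ j) (hX : Ov Φ j X) (ht : h.parR hX = ⊤) {u : V₀} (hu0 : u ≠ 0)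
    (hu : Φ₀.Sing u) : Full Φ X (j u) := by
  haveI := h.fin
  have hA := h.mem_AE_of_top hX ht hu0 hu
  obtain ⟨w, hw0, hw, e1, -, n1, -, n2, -⟩ := h.exists_nbr hu0 hu0
  obtain ⟨u', b1, b2⟩ := exists_dual1 h.hn₀ n2
  obtain ⟨w', b3, b4⟩ := exists_dual1 h.hn₀ n1
  by_cases h2 : NotSp2 Φ
  · refine full_of_AE _ hA (fullT_of_comm _ h2 fun t => ⟨_, hA _ (h.B_zero e1), _, hA (t • j w') ?_, ?_⟩)
    · rw [Φ.B_smul_right, h.B_zero b4, mul_zero]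
    · rw [Φ.B_smul_right, h.B_one b3, mul_one]
  refine full_of_AE _ hA fun d g hg => ?_
  have h22 : (2 : F) = 0 := by_contra fun e => h2 (notSp2_of_two e)
  have hσ : σ = RingHom.id F := by_contra fun e => h2 (notSp2_of_ne e)
  have hτ : Φ.τ = 0 := by_contra fun e => h2 (Or.inl e)
  have hε : Φ.ε = -1 := by
    have : (Φ.ε + 1) ^ 2 = 0 := by linear_combination Φ.εε + (Φ.ε + 1) * h22
    linear_combination pow_eq_zero_iff two_ne_zero |>.1 this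
  subst hσ
  rcases eq_or_ne d 0 with rfl | hd
  · rw [hg.ext (isE_one hg.sp)]; exact X.one_mem
  haveI : CharP F 2 := CharTwo.of_one_ne_zero_of_two_eq_zero one_ne_zero h22
  obtain ⟨c, rfl⟩ := FiniteField.isSquare_of_char_two (ringChar.eq F 2) d
  have hc : c ≠ 0 := by rintro rfl; simp at hd
  have hA' := h.mem_AE_of_top hX ht hw0 hw
  have mv : ∀ {x y y' : V₀} (hx : Φ₀.Sing x), (∀ v, Φ.B (j x) v = 0 → v ∈ AE Φ X (h.sing.2 hx)) →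
      Φ₀.B x y = 0 → Φ₀.B y y' = 1 → Φ₀.B x y' = 0 → ∀ c : F, ∃ s ∈ X, s (j x) = j x ∧
      s (j y) = j y + c • j x := fun {x y y'} hx hA e b1 b2 c => by
    obtain ⟨_, s, hsX, hs⟩ := hA ((-c) • j y') (by rw [Φ.B_smul_right, h.B_zero b2, mul_zero])
    refine ⟨s, hsX, hs.apply_p, ?_⟩
    rw [hs.apply_perp (h.B_zero e), Φ.B_smul_left, Φ.symm, h.B_one b1, hε]; simp
  obtain ⟨s1, x1, -, a1⟩ := mv hw hA' (Φ₀.B_eq_zero_symm e1) b1 b2 1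
  obtain ⟨s2, x2, a2, a3⟩ := mv hu hA e1 b3 b4 (c - 1)
  obtain ⟨s3, x3, a4, a5⟩ := mv hw hA' (Φ₀.B_eq_zero_symm e1) b1 b2 (-c⁻¹)
  obtain ⟨t, ht⟩ := exists_isE h.hn (a := 0) (d := 1) hg.sp (by simp) (by simp [hτ]) (by simp [hε])
  have hx := X.mul_mem x3 (X.mul_mem x2 x1)
  have := HasE.conj ⟨t, hX.rat u 0 1 t (by simpa using ht), ht⟩ hx (hX.isom hx)
  rw [show (s3 * (s2 * s1)) (j u) = c • j u by
    simp only [LinearEquiv.mul_apply, a1, a2, a3, a4, a5, map_add, map_smul]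
    match_scalars <;> field_simp <;> ring] at this
  exact ((this.of_smul hc).congr (by simp) (by simp)).mem hg

/-- Either `X` contains everything or its Eichler maps at rational points are rational. -/
theorem le_or_small (h : Rt Φ₀ Φ j) (hX : Ov Φ j X)
    (hmax : ∀ R : Subring F, (∀ c, f c ∈ R) → R = ⊤ ∨ ∀ c ∈ R, c ∈ (f).fieldRange) :
    EG Φ ≤ X ∨ Small Φ₀ Φ j X := by
  rcases hmax (h.parR hX) (fun c _ _ hp => h.par_rat hX hp c) with ht | ht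
  · haveI := h.fin
    obtain ⟨u, hu0, hu⟩ := exists_sing_top Φ₀ (by have := h.dim; omega)
    obtain ⟨r, hr⟩ := h.hn₀.exists_isPair hu0 hu
    exact Or.inl (EG_le_of_full h.hn (h.full_of_top hX ht hu0 hu)
      (h.full_of_top hX ht hr.right_ne_zero hr.sf) (by rw [h.B_one hr.ef]; exact one_ne_zero))
  · exact Or.inr fun u a d h0 ha v hv => ht _ (h.B_mem hX h0 ha hv)

end Rt

end Cfsg.Agent.Root.Mx
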