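import Cfsg.Agent.Root.Sub1
import Cfsg.Agent.Root.Dickson
import Cfsg.Agent.Invol.Basic

/-! Subfield subgroups of classical groups, II: criteria for an element of a small overgroup to
preserve the rational structure (`Rt.mem_of_point`, `mem_of_supp`, `mem_of_plane`), an abstract
form of Dickson's lemma (`hasL_dickson`) and the dihedral trick (`dihedral_trick`). -/

set_option autoImplicit false

namespace Cfsg.Agent.Root.Mx

open Cfsg.Agent.Geom Cfsg.Agent.AutCl Module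

section Gen

theorem dihedral_trick {G : Type*} [Group G] [Finite G] {X : Subgroup G} {a c : G} (ha : a ∈ X)
    (hc : c ∈ X) (ha2 : a * a = 1) (hc2 : c * c = 1) :
    (∃ y ∈ X, y * a * y⁻¹ = c) ∨ ∃ z ∈ X, z ≠ 1 ∧ z * z = 1 ∧ Commute z a ∧ Commute z c ∧
      ∃ k : ℕ, z = (a * c) ^ k := by
  rcases Nat.even_or_odd (orderOf (a * c)) with h | h
  · obtain ⟨h1, h2, h3⟩ := Invol.half_pow_spec ha2 hc2 h
    exact Or.inr ⟨_, X.pow_mem (X.mul_mem ha hc) _, Invol.ne_one_of h1, Invol.mul_self_of h1, h2, h3, _, rfl⟩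
  · obtain ⟨k, hk⟩ := Invol.exists_conj_of_odd ha2 hc2 h
    exact Or.inl ⟨_, X.zpow_mem (X.mul_mem ha hc) k, hk⟩

variable {F : Type*} [Field F] {V : Type*} [AddCommGroup V] [Module F V]

open scoped MatrixGroups in
/-- Dickson's lemma for two elements `1 + N`, `1 + M` satisfying the `SL₂` relations. -/
theorem hasL_dickson [Finite F] [Finite V] (h2 : (2 : F) ≠ 0) {X : Subgroup (V ≃ₗ[F] V)}
    {N M : Module.End F V} {μ : F} (hN : HasL X N) (hM : HasL X M) (hNN : N * N = 0) (hMM : M * M = 0)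
    (h1 : N * M * N = μ • N) (h3 : M * N * M = μ • M) : μ = 0 ∨ μ ^ 2 = -1 ∨ HasL X (μ ^ 2 • N) := by
  by_cases hμ : μ = 0
  · exact Or.inl hμ
  by_cases hμ2 : μ ^ 2 = -1
  · exact Or.inr (Or.inl hμ2)
  obtain ⟨L, rfl⟩ : ∃ L, M = μ • L := ⟨μ⁻¹ • M, by simp [hμ]⟩
  have hLL : L * L = 0 := by simpa [hμ] using hMM
  have e1 : N * (L * N) = N := smul_right_injective _ hμ (by simpa [mul_assoc] using h1)
  have e2 : L * (N * L) = L := smul_right_injective _ hμ (smul_right_injective _ hμ (by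
    simpa [mul_assoc] using h3))
  have e1' : ∀ x, N * (L * (N * x)) = N * x := fun x => by rw [← mul_assoc L, ← mul_assoc, e1]
  have e2' : ∀ x, L * (N * (L * x)) = L * x := fun x => by rw [← mul_assoc N, ← mul_assoc, e2]
  have hNN' : ∀ x, N * (N * x) = 0 := fun x => by rw [← mul_assoc, hNN, zero_mul]
  have hLL' : ∀ x, L * (L * x) = 0 := fun x => by rw [← mul_assoc, hLL, zero_mul]
  let φ : SL(2, F) → Module.End F V := fun m =>
    (m.1 0 0 - 1) • (N * L) + m.1 0 1 • N + m.1 1 0 • L + (m.1 1 1 - 1) • (L * N)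
  have hφ : ∀ a b, φ (a * b) = φ a + φ b + φ a * φ b := fun a b => by
    simp only [φ, Matrix.SpecialLinearGroup.coe_mul, Matrix.mul_apply, Fin.sum_univ_two, mul_add, add_mul,
      smul_mul_assoc, mul_smul_comm, mul_assoc, e1, e2, e1', e2', hNN, hLL, hNN', hLL', mul_zero, smul_zero]
    module
  let H : Submonoid SL(2, F) :=
    { carrier := {m | HasL X (φ m)}
      one_mem' := HasL.zero.congr (by simp [φ])
      mul_mem' := fun ha hb => by rw [Set.mem_ofPred_eq, hφ]; exact HasL.mul ha hb }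
  let H' : Subgroup SL(2, F) := { H with
    inv_mem' := fun {m} hm => by
      have := H.pow_mem hm (orderOf m - 1)
      rwa [← inv_eq_of_mul_eq_one_right (a := m) (b := m ^ (orderOf m - 1)) (by
        rw [← pow_succ', Nat.sub_add_cancel (orderOf_pos m), pow_orderOf_eq_one])] at this }
  have := (dickson_fin_sub (H := H') h2 hμ hμ2 (hN.congr (by simp [φ, Classical.uSL]))
    (hM.congr (by simp [φ, Classical.lSL]))).2
  exact Or.inr (Or.inr (HasL.congr this (by simp [φ, Classical.uSL])))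

end Gen

variable {F₀ F : Type*} [Field F₀] [Field F] [Algebra F₀ F] {σ₀ : F₀ →+* F₀} {σ : F →+* F}
  {V₀ V : Type*} [AddCommGroup V₀] [Module F₀ V₀] [AddCommGroup V] [Module F V]
  {Φ₀ : Formed σ₀ V₀} {Φ : Formed σ V} {j : V₀ →ₛₗ[algebraMap F₀ F] V}
  {X : Subgroup (V ≃ₗ[F] V)}

local notation "f" => algebraMap F₀ F

namespace Rt
variable [FiniteDimensional F V]

theorem small_add (h : Rt Φ₀ Φ j) (hS : Small Φ₀ Φ j X) {u : V₀} (hu : u ≠ 0) {a : V} {d : F}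
    (ha : HasE Φ X (j u) a d) : ∃ r, ∃ μ : F, a = j r + μ • j u := h.rat_add hu (hS u a d hu ha)

theorem rat_of_move (h : Rt Φ₀ Φ j) (hX : Ov Φ j X) (hS : Small Φ₀ Φ j X) {x b : V} {d : F}
    (hx : HasE Φ X x b d) {t p q : V₀} (hp : Φ₀.Sing p) (hq : Φ₀.Sing q) (hp0 : p ≠ 0)
    (hpq : q ∉ F₀ ∙ p) (h1 : Φ.B x (j t) = 0) (h2 : ∀ y ∈ ({p, q} : Set V₀), Φ.B x (j y) = 0 ∧
      Φ.B b (j y) = 0 ∧ Φ₀.B t y = 0) : ∃ r, Φ.B b (j t) • x = j r := by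
  haveI := h.fin
  have key : ∀ y ∈ ({p, q} : Set V₀), y ≠ 0 → Φ₀.Sing y → ∀ w, Φ₀.B y w = 0 →
      Φ.B (Φ.B b (j t) • x) (j w) ∈ (f).fieldRange := fun y hy h0 hs => by
    obtain ⟨e1, e2, e3⟩ := h2 y hy
    obtain ⟨_, he⟩ := h.hasE hX hs (Φ₀.B_eq_zero_symm e3)
    exact hS y _ _ h0 (hx.move he e1 e2 h1)
  obtain ⟨s, e1, e2⟩ := exists_dual1 h.hn₀ (notMem_symm hpq hp0)
  refine h.rat_of_B fun w => ?_
  rw [show w = (w - Φ₀.B p w • s) + Φ₀.B p w • s by abel, map_add, map_add]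
  exact add_mem (key p (by simp) hp0 hp _ (by simp [e1]))
    (key q (by simp) (by rintro rfl; simp at hpq) hq _ (by simp [e2]))

variable [Finite F₀]

theorem point_step (h : Rt Φ₀ Φ j) (hX : Ov Φ j X) (hS : Small Φ₀ Φ j X) {y : V ≃ₗ[F] V} (hy : y ∈ X)
    {u u' v : V₀} {c : F} (hu0 : u ≠ 0) (hu : Φ₀.Sing u) (e : y (j u) = c • j u') (hv : Φ₀.Sing v)
    (huv : Φ₀.B u v = 0) (hvu : v ∉ F₀ ∙ u) : ∃ v', y (j v) = c • j v' := by
  haveI := h.fin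
  have hd := h.dim
  have h0 : c • j u' ≠ 0 := e ▸ (map_ne_zero_iff y y.injective).2 (h.ne hu0)
  have hc : c ≠ 0 := left_ne_zero_of_smul h0
  have hσc : σ c ≠ 0 := by simpa
  have hu0' : u' ≠ 0 := by rintro rfl; simp at h0
  have key : ∀ v, Φ₀.B u v = 0 → ∃ r, ∃ μ : F, y (j v) = (σ c)⁻¹ • j r + μ • j u' := fun v hv => by
    obtain ⟨d, he⟩ := h.hasE hX hu hv
    have := he.conj hy (hX.isom hy)
    rw [e] at this
    obtain ⟨r, μ, hr⟩ := h.small_add hS hu0' (this.of_smul hc)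
    exact ⟨r, (σ c)⁻¹ * μ, by rw [mul_smul, ← smul_add, ← hr, inv_smul_smul₀ hσc]⟩
  obtain ⟨w, -, hw, -, e1⟩ := exists_sing_pf Φ₀ ![u, v] (U := ⊤) (R := (F₀ ∙ u) ⊔ F₀ ∙ v) (by
    have := finrank_sup_one (F₀ ∙ u) v; have := finrank_span_one (F := F₀) u
    rw [finrank_top]; omega)
  obtain ⟨v', μ, hv'⟩ := key v huv
  obtain ⟨w', ν, hw'⟩ := key w (e1 0)
  obtain ⟨t, ht, e2⟩ := h.hn₀.exists_perp_eq_one' (H := (F₀ ∙ u') ⊔ F₀ ∙ v') (x := w') fun hc' => by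
    obtain ⟨t, ht, e2⟩ := h.hn₀.exists_perp_eq_one' hw
    simp only [Φ₀.perp_sup, Submodule.mem_inf, Φ₀.mem_perp_span_singleton] at ht
    obtain ⟨_, h1, _, h2, rfl⟩ := Submodule.mem_sup.1 hc'
    obtain ⟨α, rfl⟩ := Submodule.mem_span_singleton.1 h1
    obtain ⟨β, rfl⟩ := Submodule.mem_span_singleton.1 h2
    have : j w = f β • j v + (c⁻¹ * ((σ c)⁻¹ * f α + ν - f β * μ)) • j u := y.injective (by
      rw [map_add, map_smul, map_smul, hw', hv', e, map_add, map_smulₛₗ, map_smulₛₗ]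
      match_scalars <;> field_simp <;> ring)
    have h3 := h.B_one e2
    rw [this] at h3
    simp [h.B_zero ht.1, h.B_zero ht.2] at h3
  simp only [Φ₀.perp_sup, Submodule.mem_inf, Φ₀.mem_perp_span_singleton] at ht
  obtain ⟨p, -, q, -, hp, hq, hp0, hpq, a1, a2⟩ := exists_two_sing Φ₀ ![u', v', w', t] (U := ⊤) (by
    rw [finrank_top]; omega)
  obtain ⟨d, he⟩ := h.hasE hX hv (show Φ₀.B v w = 0 from e1 1)
  obtain ⟨r, hr⟩ := h.rat_of_move hX hS (he.conj hy (hX.isom hy)) hp hq hp0 hpq (t := t)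
    (by simp [hv', h.B_zero ht.1, h.B_zero ht.2]) fun z hz => by
      have : ∀ i, Φ₀.B (![u', v', w', t] i) z = 0 := by rcases hz with rfl | rfl <;> assumption
      have b0 : Φ.B (j u') (j z) = 0 := h.B_zero (this 0)
      have b1 : Φ.B (j v') (j z) = 0 := h.B_zero (this 1)
      have b2 : Φ.B (j w') (j z) = 0 := h.B_zero (this 2)
      exact ⟨by simp [hv', b0, b1], by simp [hw', b0, b2], this 3⟩
  refine ⟨r, ?_⟩
  rw [← hr, hw']; simp [h.B_zero ht.1, h.B_one e2, Φ.σσ, hc]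

variable [Finite V]

theorem mem_of_point (h : Rt Φ₀ Φ j) (hX : Ov Φ j X) (hS : Small Φ₀ Φ j X) {y : V ≃ₗ[F] V} (hy : y ∈ X)
    {u u' : V₀} {c : F} (hu0 : u ≠ 0) (hu : Φ₀.Sing u) (e : y (j u) = c • j u') :
    y ∈ ratG F (Set.range j) := by
  haveI := h.fin
  have hc : c ≠ 0 := left_ne_zero_of_smul (e ▸ (map_ne_zero_iff y y.injective).2 (h.ne hu0))
  obtain ⟨r, hr⟩ := h.hn₀.exists_isPair hu0 hu
  refine mem_ratG.2 ⟨c⁻¹, inv_ne_zero hc, ?_⟩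
  rintro _ ⟨v, rfl⟩
  refine sing_induction hr (P := fun v => c⁻¹ • y (j v) ∈ Set.range j) (fun z hz => ?_) ?_ v
  · rcases eq_or_ne z 0 with rfl | hz0
    · exact ⟨0, by simp⟩
    obtain ⟨w, hw0, hw, e1, e2, n1, -, -, n2⟩ := h.exists_nbr hu0 hz0
    obtain ⟨w', hw'⟩ := h.point_step hX hS hy hu0 hu e hw e1 n1
    obtain ⟨z', hz'⟩ := h.point_step hX hS hy hw0 hw hw' hz (Φ₀.B_eq_zero_symm e2) n2
    exact ⟨z', by rw [hz', inv_smul_smul₀ hc]⟩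
  · rintro a b ⟨a', ha⟩ ⟨b', hb⟩
    exact ⟨a' + b', by simp [ha, hb]⟩

theorem mem_of_supp (h : Rt Φ₀ Φ j) (hX : Ov Φ j X) (hS : Small Φ₀ Φ j X) {g : V ≃ₗ[F] V} (hg : g ∈ X)
    {e : V₀} (he0 : e ≠ 0) (he : Φ₀.Sing e) {Z : Submodule F₀ V₀} (hZ : finrank F₀ V₀ ≤ finrank F₀ Z + 4)
    (hx : ∀ z ∈ Z, Φ.B (g (j e)) (j z) = 0) : g ∈ ratG F (Set.range j) := by
  haveI := h.fin
  have hd := h.dim
  have hi := hX.isom hg
  obtain ⟨p, hpZ, hp, hn⟩ : ∃ p ∈ Z, Φ₀.Sing p ∧ g⁻¹ (j p) ∉ F ∙ j e := by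
    by_contra! hc
    obtain ⟨p, hpZ, q, hqZ, hp, hq, hp0, hpq, -⟩ := exists_two_sing Φ₀ ![] (U := Z) (by omega)
    obtain ⟨a, ha⟩ := Submodule.mem_span_singleton.1 (hc p hpZ hp)
    obtain ⟨b, hb⟩ := Submodule.mem_span_singleton.1 (hc q hqZ hq)
    have ha0 : a ≠ 0 := by
      rintro rfl
      exact h.ne hp0 ((map_eq_zero_iff _ (g⁻¹).injective).1 (by simp [← ha]))
    exact h.notMem hpq (Submodule.mem_span_singleton.2 ⟨b / a, (g⁻¹).injective (by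
      rw [map_smul, ← ha, ← hb, smul_smul, div_mul_cancel₀ _ ha0])⟩)
  obtain ⟨e', h1, h2⟩ : ∃ e', Φ₀.B e e' = 0 ∧ Φ.B (j p) (g (j e')) ≠ 0 := by
    by_contra! hc
    exact hn (h.mem_span he0 fun w hw => by rw [← hi.1, ← hc w hw]; simp)
  obtain ⟨w, hw, t, ht, e1⟩ := exists_B_one h.hn₀ (W := Z ⊓ pf Φ₀ ![p]) (by
    have := finrank_pf (Φ := Φ₀) ![p] Z; omega)
  have hpw : Φ₀.B p w = 0 := mem_pf.1 hw.2 0
  have hpt : Φ₀.B p t = 0 := mem_pf.1 ht.2 0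
  obtain ⟨d, he'⟩ := h.hasE hX he h1
  have hb := he'.conj hg hi
  obtain ⟨d', s, hsX, hs⟩ := h.hasE hX hp hpw
  obtain ⟨d'', hb'⟩ : s (g (j e')) - g (j e') ∈ AE Φ X hb.sp := sub_mem (map_mem_AE hsX hs.mem_isom (by
    rw [hs.app, Φ.B_eq_zero_symm (hx p hpZ), Φ.B_eq_zero_symm (hx w hw.1)]; simp) ⟨_, hb⟩) ⟨_, hb⟩
  obtain ⟨p₁, z1, q, z2, hp₁, hq, hp0, hpq, a1, a2⟩ := exists_two_sing Φ₀ ![p, w, t] (U := Z) (by omega)
  obtain ⟨r, hr⟩ := h.rat_of_move hX hS hb' hp₁ hq hp0 hpq (hx t ht.1) fun z hz => by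
    obtain ⟨b, b'⟩ : z ∈ Z ∧ ∀ i, Φ₀.B (![p, w, t] i) z = 0 := by
      rcases hz with rfl | rfl <;> exact ⟨by assumption, by assumption⟩
    have b0 : Φ.B (j p) (j z) = 0 := h.B_zero (b' 0)
    have b1 : Φ.B (j w) (j z) = 0 := h.B_zero (b' 1)
    exact ⟨hx z b, by simp [hs.app, b0, b1], b' 2⟩
  exact h.mem_of_point hX hS hg he0 he (u' := r) (by
    rw [← hr, inv_smul_smul₀ (by simpa [hs.app, h.B_zero hpt, h.B_one e1, Φ.ε_ne_zero] using h2)])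

theorem mem_of_comb (h : Rt Φ₀ Φ j) (hX : Ov Φ j X) (hS : Small Φ₀ Φ j X) {g : V ≃ₗ[F] V} (hg : g ∈ X)
    {e : V₀} (he0 : e ≠ 0) (he : Φ₀.Sing e) (s : Fin 4 → V₀)
    (hx : g (j e) ∈ Submodule.span F (Set.range fun i => j (s i))) : g ∈ ratG F (Set.range j) := by
  haveI := h.fin
  refine h.mem_of_supp hX hS hg he0 he (Z := ⊤ ⊓ pf Φ₀ s) (by simpa using finrank_pf (Φ := Φ₀) s ⊤)
    fun z hz => (Φ.mem_perp_span.2 ?_ : j z ∈ Φ.perp _) _ hx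
  rintro _ ⟨i, rfl⟩
  exact h.B_zero (mem_pf.1 hz.2 i)

theorem mem_of_plane (h : Rt Φ₀ Φ j) (hX : Ov Φ j X) (hS : Small Φ₀ Φ j X) {g : V ≃ₗ[F] V} (hg : g ∈ X)
    {e e' p : V₀} (he0 : e ≠ 0) (he : Φ₀.Sing e) (he' : Φ₀.Sing e') (hee : Φ₀.B e e' = 0)
    (hn : e' ∉ F₀ ∙ e) (hp0 : p ≠ 0) (hp : Φ₀.Sing p) (h1 : Φ.B (g (j e)) (j p) = 0)
    (h2 : Φ.B (g (j e')) (j p) = 0) : g ∈ ratG F (Set.range j) := by
  have hi := hX.isom hg
  by_cases hc : ∃ α β : F, j p = α • g (j e) + β • g (j e')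
  · obtain ⟨α, β, hc⟩ := hc
    refine inv_mem_iff.1 (h.mem_of_comb hX hS (X.inv_mem hg) hp0 hp ![e, e', 0, 0] ?_)
    rw [hc]
    simp only [map_add, map_smul, LinearEquiv.coe_inv, LinearEquiv.symm_apply_apply]
    exact add_mem (Submodule.smul_mem _ _ (Submodule.subset_span ⟨0, rfl⟩))
      (Submodule.smul_mem _ _ (Submodule.subset_span ⟨1, rfl⟩))
  set x := g (j e)
  set a := g (j e')
  have ex : ∀ α β : F, α • x + β • a ≠ 0 → ∃ w, Φ₀.B p w = 0 ∧ Φ.B (α • x + β • a) (j w) ≠ 0 :=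
    fun α β h0 => by
      by_contra! hw
      obtain ⟨c, e⟩ := Submodule.mem_span_singleton.1 (h.mem_span hp0 hw)
      have hc0 : c ≠ 0 := by rintro rfl; exact h0 (by simp [← e])
      exact hc ⟨c⁻¹ * α, c⁻¹ * β, by rw [mul_smul, mul_smul, ← smul_add, ← e, inv_smul_smul₀ hc0]⟩
  obtain ⟨w₁, b1, c1⟩ := ex 1 0 (by simpa [x] using h.ne he0)
  simp only [one_smul, zero_smul, add_zero] at c1
  obtain ⟨w₂, b2, c2⟩ := ex (σ (Φ.B a (j w₁))) (-σ (Φ.B x (j w₁))) fun h0 => by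
    refine h.notMem hn (Submodule.mem_span_singleton.2 ⟨σ (Φ.B a (j w₁)) / σ (Φ.B x (j w₁)),
      g.injective ?_⟩)
    have : σ (Φ.B x (j w₁)) ≠ 0 := by simpa
    rw [map_smul, div_eq_inv_mul, mul_smul, inv_smul_eq_iff₀ this]
    exact (add_neg_eq_zero.1 (by rwa [neg_smul] at h0))
  obtain ⟨s, hsX, hs⟩ := (h.hasE0 hX he he' hee).conj hg hi
  have key : ∀ w, Φ₀.B p w = 0 → ∃ r, ∃ μ : F,
      Φ.B a (j w) • x - (Φ.ε * Φ.B x (j w)) • a = j r + μ • j p := fun w hw => by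
    obtain ⟨d, hd⟩ := h.hasE hX hp hw
    obtain ⟨d', hd'⟩ : s (j w) - j w ∈ AE Φ X hd.sp := sub_mem (map_mem_AE hsX hs.mem_isom (by
      rw [hs.apply_perp h1, h2]; simp) ⟨_, hd⟩) ⟨_, hd⟩
    refine h.small_add hS hp0 (hd'.congr ?_ rfl)
    rw [hs.app]; simp only [zero_mul, sub_zero]; abel
  obtain ⟨r₁, μ₁, k1⟩ := key w₁ b1
  obtain ⟨r₂, μ₂, k2⟩ := key w₂ b2
  refine h.mem_of_comb hX hS hg he0 he ![r₁, r₂, p, 0] ((Submodule.smul_mem_iff _ c2).1 ?_)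
  have m : ∀ i, j (![r₁, r₂, p, 0] i) ∈ Submodule.span F (Set.range fun i => j (![r₁, r₂, p, 0] i)) :=
    fun i => Submodule.subset_span ⟨i, rfl⟩
  convert sub_mem (Submodule.smul_mem _ (Φ.B x (j w₂)) (add_mem (m 0) (Submodule.smul_mem _ μ₁ (m 2))))
    (Submodule.smul_mem _ (Φ.B x (j w₁)) (add_mem (m 1) (Submodule.smul_mem _ μ₂ (m 2)))) using 1
  change _ = _ • (j r₁ + μ₁ • j p) - _ • (j r₂ + μ₂ • j p)
  rw [← k1, ← k2, Φ.B_add_left, Φ.B_smul_left, Φ.B_smul_left, map_neg, Φ.σσ, Φ.σσ]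
  module

end Rt

end Cfsg.Agent.Root.Mx
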