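import Cfsg.Agent.Root.Sub2

/-! Subfield subgroups of classical groups, III: a small overgroup preserves the rational structure
(degree two, Dickson's lemma in odd characteristic, dihedral trick in characteristic two);
maximality `Rt.isMaximalIn`. -/

set_option autoImplicit false

namespace Cfsg.Agent.Root.Mx

open Cfsg.Agent.Geom Cfsg.Agent.AutCl Module

variable {F₀ F : Type*} [Field F₀] [Field F] [Algebra F₀ F] {σ₀ : F₀ →+* F₀} {σ : F →+* F}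
  {V₀ V : Type*} [AddCommGroup V₀] [Module F₀ V₀] [AddCommGroup V] [Module F V]
  {Φ₀ : Formed σ₀ V₀} {Φ : Formed σ V} {j : V₀ →ₛₗ[algebraMap F₀ F] V}
  {X : Subgroup (V ≃ₗ[F] V)}

local notation "f" => algebraMap F₀ F

/-- No element of `EG Φ` is a reflection in a non-singular vector. -/
def NoRefl (Φ : Formed σ V) : Prop :=
  ∀ z ∈ EG Φ, ∀ p, (∀ v, z v - v ∈ F ∙ p) → ∀ v, Φ.Q (z v - v) = 0

theorem finrank_lt_sup [FiniteDimensional F V] {S : Submodule F V} {x : V} (h : x ∉ S) :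
    finrank F S < finrank F ↥(S ⊔ F ∙ x) :=
  Submodule.finrank_lt_finrank_of_lt (SetLike.lt_iff_le_and_exists.2 ⟨le_sup_left, x, mem_sup_self S x, h⟩)

namespace Rt
variable [FiniteDimensional F V] [Finite F₀] [Finite F] [Finite V]

theorem mem_of_deg (h : Rt Φ₀ Φ j) (hX : Ov Φ j X) (hS : Small Φ₀ Φ j X) (hd : finrank F₀ F ≤ 4)
    {g : V ≃ₗ[F] V} (hg : g ∈ X) : g ∈ ratG F (Set.range j) := by
  haveI := h.fin
  obtain ⟨e, -, he0, he, -⟩ := h.exists_pl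
  let φ : V₀ →ₗ[F₀] F :=
    { toFun := fun v => Φ.B (g (j e)) (j v)
      map_add' := by simp
      map_smul' := fun c v => by simp [map_smulₛₗ, Algebra.smul_def] }
  refine h.mem_of_supp hX hS hg he0 he (Z := LinearMap.ker φ) ?_ fun z hz => hz
  have := φ.finrank_range_add_finrank_ker
  have := Submodule.finrank_le (LinearMap.range φ)
  omega

omit [Finite F] [Finite V] in
theorem exists_sing_B (h : Rt Φ₀ Φ j) {v : V} (hv : v ≠ 0) : ∃ u, Φ₀.Sing u ∧ Φ.B v (j u) ≠ 0 := by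
  haveI := h.fin
  obtain ⟨e, -, he0, he, -⟩ := h.exists_pl
  obtain ⟨r, hr⟩ := h.hn₀.exists_isPair he0 he
  by_contra! hc
  exact hv (h.eq_zero (sing_induction hr hc fun x y hx hy => by simp [hx, hy]))

omit [Finite F] [Finite V] [Finite F₀] in
theorem small_L (h : Rt Φ₀ Φ j) (hX : Ov Φ j X) (hS : Small Φ₀ Φ j X) {α : Module.End F V}
    (hα : HasL X α) {p a t : V₀} (hp0 : p ≠ 0) (hp : Φ₀.Sing p) (h0 : α (j p) = 0) (ha : Φ₀.B p a = 0)
    (ht : Φ₀.B p t = 0) : Φ.B (α (j a)) (j t) ∈ (f).fieldRange := by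
  obtain ⟨s, hs, e⟩ := hα.exists_apply
  obtain ⟨d, hd⟩ := h.hasE hX hp ha
  obtain ⟨d', hd'⟩ : s (j a) - j a ∈ AE Φ X hd.sp := sub_mem (map_mem_AE hs (hX.isom hs) (by
    rw [e, h0, add_zero]) ⟨_, hd⟩) ⟨_, hd⟩
  exact hS p _ _ hp0 (hd'.congr (by rw [e, add_sub_cancel_left]) rfl) t ht

theorem mem_of_dickson (hsq : ∀ x : F, x ^ 2 ∈ (f).fieldRange → x ∈ (f).fieldRange) {μ : F} {P : Prop}
    (h : μ = 0 ∨ μ ^ 2 = -1 ∨ P) (hP : P → μ ^ 2 ∈ (f).fieldRange) : μ ∈ (f).fieldRange := by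
  rcases h with rfl | h | h
  · exact zero_mem _
  · exact hsq _ (h ▸ neg_mem (one_mem _))
  · exact hsq _ (hP h)

theorem mem_of_tv (h : Rt Φ₀ Φ j) (hX : Ov Φ j X) (hS : Small Φ₀ Φ j X) (h2 : (2 : F) ≠ 0)
    (hsq : ∀ x : F, x ^ 2 ∈ (f).fieldRange → x ∈ (f).fieldRange) {d : F₀} (hd : d ≠ 0)
    (hd1 : Φ₀.τ * d = 0) (hd2 : Φ₀.ε * d + σ₀ d = 0)
    (hN : ∀ β : F, (∀ κ, (β + f κ) * σ (β + f κ) ∈ (f).fieldRange) → β ∈ (f).fieldRange)
    {g : V ≃ₗ[F] V} (hg : g ∈ X) : g ∈ ratG F (Set.range j) := by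
  haveI := h.fin
  have hT : ∀ u, Φ₀.Sing u → HasE Φ X (j u) 0 (f d) := fun u hu => by
    obtain ⟨s, hs⟩ := h.lift (a := 0) (d := d) hu (by simp) (by simpa using hd1) (by simpa)
    exact ⟨s, hX.rat _ _ _ _ hs, by simpa using hs⟩
  have hL : ∀ x, HasE Φ X x 0 (f d) → HasL X (rk1 x (-f d • Φ.B x)) := fun x ⟨s, hs, e⟩ =>
    HasL.of_apply hs fun v => by rw [e.app]; simp
  have hfd : f d ≠ 0 := by simpa
  obtain ⟨e, -, he0, he, -⟩ := h.exists_pl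
  have hx := (hT e he).conj hg (hX.isom hg)
  rw [map_zero] at hx
  set x := g (j e)
  have key : ∀ u, u ≠ 0 → Φ₀.Sing u → Φ.B x (j u) * σ (Φ.B x (j u)) ∈ (f).fieldRange := fun u h0 hu => by
    have hu' := h.sing.2 hu
    have := mem_of_dickson hsq (hasL_dickson h2 (hL _ (hT u hu)) (hL _ hx)
      (μ := f d ^ 2 * Φ.B (j u) x * Φ.B x (j u)) (rk1_mul_zero (by simp [hu'.2]))
      (rk1_mul_zero (by simp [hx.sp.2])) (by ext v; simp [smul_smul]; congr 1; ring)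
      (by ext v; simp [smul_smul]; congr 1; ring)) fun hP => by
        obtain ⟨p, hp0, hp, e1, -, -, -, n, -⟩ := h.exists_nbr h0 h0
        obtain ⟨a, b1, b2⟩ := exists_dual1 h.hn₀ n
        have := h.small_L hX hS hP hp0 hp (by simp [h.B_zero e1]) b2 b2
        simp only [LinearMap.smul_apply, LinearMap.smulRight_apply, h.B_one b1, Φ.B_smul_left, mul_one,
          smul_eq_mul, ← map_mul] at this
        have := div_mem (h.σ_mem this) (neg_mem (RingHom.mem_fieldRange_self f d))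
        rwa [mul_div_cancel_right₀ _ (neg_ne_zero.2 hfd)] at this
    convert div_mem this (mul_mem (pow_mem (RingHom.mem_fieldRange_self f d) 2) h.ε_mem) using 1
    have := Φ.ε_ne_zero
    rw [Φ.symm x (j u)]; field_simp
  obtain ⟨u, hu, hb⟩ := h.exists_sing_B (v := x) (by simpa [x] using h.ne he0)
  have hu0 : u ≠ 0 := by rintro rfl; simp at hb
  obtain ⟨r, μ, hr⟩ := h.rat_add hu0 (v := (σ (Φ.B x (j u)))⁻¹ • x) (perp_ind h.hn₀ (by have := h.dim; omega)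
    hu0 hu (((f).fieldRange.toAddSubgroup).comap ((Φ.B ((σ (Φ.B x (j u)))⁻¹ • x)).toAddMonoidHom.comp
      j.toAddMonoidHom)) fun w e hw n => by
    change Φ.B _ (j w) ∈ (f).fieldRange
    refine hN _ fun κ => ?_
    convert div_mem (key (w + κ • u) (fun e => n (Submodule.mem_span_singleton.2 ⟨-κ, by
      rw [neg_smul, neg_eq_iff_add_eq_zero, add_comm, e]⟩))
      (sing_add_of_perp hw (hu.smul κ) (by simp [Φ₀.B_eq_zero_symm e]))) (key u hu0 hu) using 1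
    have : σ (Φ.B x (j u)) ≠ 0 := by simpa
    rw [Φ.B_smul_left]
    simp only [map_inv₀, Φ.σσ, map_add, map_smulₛₗ, map_mul, RingHom.id_apply, smul_eq_mul]
    field_simp)
  refine h.mem_of_comb hX hS hg he0 he ![r, u, 0, 0] ((Submodule.smul_mem_iff _
    (inv_ne_zero (by simpa : σ (Φ.B x (j u)) ≠ 0))).1 (hr ▸ ?_))
  exact add_mem (Submodule.subset_span ⟨0, rfl⟩) (Submodule.smul_mem _ _ (Submodule.subset_span ⟨1, rfl⟩))

theorem mem_of_orth {Φ : Formed (RingHom.id F) V} (h : Rt Φ₀ Φ j) (hX : Ov Φ j X) (hS : Small Φ₀ Φ j X)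
    (h2 : (2 : F) ≠ 0) (hsq : ∀ x : F, x ^ 2 ∈ (f).fieldRange → x ∈ (f).fieldRange) (hε : Φ.ε = 1)
    {g : V ≃ₗ[F] V} (hg : g ∈ X) : g ∈ ratG F (Set.range j) := by
  haveI := h.fin
  have hd := h.dim
  have sy : ∀ x y, Φ.B x y = Φ.B y x := fun x y => by rw [Φ.symm, hε]; simp
  obtain ⟨e, e', he0, he, he', n, hee⟩ := h.exists_pl
  have hx := (h.hasE0 hX he he' hee).conj hg (hX.isom hg)
  set x := g (j e)
  set a := g (j e')
  have key : ∀ u, u ≠ 0 → Φ₀.Sing u → ∃ r, ∃ μ : F,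
      Φ.B a (j u) • x - Φ.B x (j u) • a = j r + μ • j u := fun u hu0 hu => by
    refine h.rat_add hu0 (perp_ind h.hn₀ (by omega)
      hu0 hu (((f).fieldRange.toAddSubgroup).comap ((Φ.B (Φ.B a (j u) • x - Φ.B x (j u) • a)).toAddMonoidHom.comp
        j.toAddMonoidHom)) fun w e hw n => ?_)
    change Φ.B _ (j w) ∈ (f).fieldRange
    have h1 := h.hasE0 hX hu hw e
    have b1 := h1.sp.2
    have b2 := h1.sing.2
    have b3 := h1.pa
    have b4 := Φ.B_eq_zero_symm h1.pa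
    have c1 := hx.sp.2
    have c2 := hx.sing.2
    have c3 := hx.pa
    have c4 := Φ.B_eq_zero_symm hx.pa
    refine mem_of_dickson hsq (hasL_dickson h2 (hasL_siegel h1) (hasL_siegel hx)
      (by ext v; simp [b1, b2, b3, b4]) (by ext v; simp [c1, c2, c3, c4]) ?_ ?_) fun hP => ?_
    · ext v
      simp only [Module.End.mul_apply, LinearMap.sub_apply, LinearMap.smul_apply, LinearMap.smulRight_apply,
        hε, map_sub, map_smul, RingHom.id_apply, smul_eq_mul, sy (j u) x, sy (j u) a, sy (j w) x, sy (j w) a]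
      module
    · ext v
      simp only [Module.End.mul_apply, LinearMap.sub_apply, LinearMap.smul_apply, LinearMap.smulRight_apply,
        hε, map_sub, map_smul, RingHom.id_apply, smul_eq_mul, sy (j u) x, sy (j u) a, sy (j w) x, sy (j w) a]
      module
    obtain ⟨p, -, hp, hps, e1⟩ := exists_sing_pf Φ₀ ![u, w] (U := ⊤) (R := (F₀ ∙ u) ⊔ F₀ ∙ w) (by
      have := finrank_sup_one (F₀ ∙ u) w; have := finrank_span_one (F := F₀) u
      rw [finrank_top]; omega)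
    obtain ⟨t, ht, e2⟩ := h.hn₀.exists_perp_eq_one' (H := (F₀ ∙ u) ⊔ F₀ ∙ p) (x := w)
      fun hc => hp (exch hc n)
    simp only [Φ₀.perp_sup, Submodule.mem_inf, Φ₀.mem_perp_span_singleton] at ht
    obtain ⟨t', d1, d2⟩ := exists_dual1 h.hn₀ (notMem_symm (fun e => hp (Submodule.mem_sup_left e)) hu0)
    simpa [h.B_zero ht.1, h.B_one e2, h.B_one d1] using h.small_L hX hS hP (by rintro rfl; simp at hp) hps
      (by simp [h.B_zero (show Φ₀.B u p = 0 from e1 0), h.B_zero (show Φ₀.B w p = 0 from e1 1)]) ht.2 d2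
  obtain ⟨u, hu, hb⟩ := h.exists_sing_B (v := x) (by simpa [x] using h.ne he0)
  obtain ⟨u', hu', hb'⟩ := h.exists_sing_B (v := Φ.B a (j u) • x - Φ.B x (j u) • a) fun h0 =>
    h.notMem n (Submodule.mem_span_singleton.2 ⟨Φ.B a (j u) / Φ.B x (j u), g.injective (by
      rw [map_smul, div_eq_inv_mul, mul_smul, inv_smul_eq_iff₀ hb]; exact sub_eq_zero.1 h0)⟩)
  obtain ⟨r, μ, k1⟩ := key u (by rintro rfl; simp at hb) hu
  obtain ⟨r', μ', k2⟩ := key u' (by rintro rfl; simp at hb') hu'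
  refine h.mem_of_comb hX hS hg he0 he ![r, u, r', u'] ((Submodule.smul_mem_iff _ hb').1 ?_)
  have m : ∀ i, j (![r, u, r', u'] i) ∈ Submodule.span F (Set.range fun i => j (![r, u, r', u'] i)) :=
    fun i => Submodule.subset_span ⟨i, rfl⟩
  convert sub_mem (Submodule.smul_mem _ (Φ.B x (j u')) (add_mem (m 0) (Submodule.smul_mem _ μ (m 1))))
    (Submodule.smul_mem _ (Φ.B x (j u)) (add_mem (m 2) (Submodule.smul_mem _ μ' (m 3)))) using 1
  change _ = _ • (j r + μ • j u) - _ • (j r' + μ' • j u')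
  rw [← k1, ← k2, Φ.B_sub_left, Φ.B_smul_left, Φ.B_smul_left, RingHom.id_apply, RingHom.id_apply]
  module

omit [Finite F] [Finite V] [Finite F₀] [FiniteDimensional F V] in
theorem smul_rat (h : Rt Φ₀ Φ j) {u u' : V₀} {c : F} (hu : u ≠ 0) (e : c • j u = j u') :
    c ∈ (f).fieldRange := by
  obtain ⟨t, ht⟩ := h.hn₀.exists_eq_one hu
  refine h.σ_mem ⟨Φ₀.B u' t, ?_⟩
  rw [← h.hB, ← e, Φ.B_smul_left, h.B_one ht, mul_one]

omit [Finite F] [FiniteDimensional F V] in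
theorem exists_lin (h : Rt Φ₀ Φ j) (hsq : ∀ x : F, x ^ 2 ∈ (f).fieldRange → x ∈ (f).fieldRange)
    {z : V ≃ₗ[F] V} (hz : z ∈ ratG F (Set.range j)) (hz2 : z * z = 1) :
    ∃ z₀ : V₀ →ₗ[F₀] V₀, ∀ v, z (j v) = j (z₀ v) := by
  obtain ⟨c, hc, hz⟩ := mem_ratG.1 hz
  obtain ⟨e, -, he0, -⟩ := h.exists_pl
  obtain ⟨e', he'⟩ := hz _ (hz _ ⟨e, rfl⟩)
  obtain ⟨c, rfl⟩ := hsq c (h.smul_rat he0 (u' := e') (by
    rw [he', map_smul, smul_smul, ← LinearEquiv.mul_apply, hz2, sq]; rfl))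
  have : ∀ v, ∃ v', z (j v) = j v' := fun v => by
    obtain ⟨v', hv⟩ := hz _ ⟨v, rfl⟩
    exact ⟨c⁻¹ • v', by rw [map_smulₛₗ, hv, map_inv₀, inv_smul_smul₀ hc]⟩
  choose φ hφ using this
  exact ⟨{ toFun := φ
           map_add' := fun x y => h.inj (by simp [← hφ])
           map_smul' := fun c x => h.inj (by simp [← hφ, map_smulₛₗ]) }, hφ⟩

omit [Finite F] [Finite V] [FiniteDimensional F V] in
theorem exists_fixed (h : Rt Φ₀ Φ j) (h2 : (2 : F) = 0) {z : V ≃ₗ[F] V} (hz2 : z * z = 1)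
    {z₀ : V₀ →ₗ[F₀] V₀} (hz : ∀ v, z (j v) = j (z₀ v)) : ∃ e e', e ≠ 0 ∧ Φ₀.Sing e ∧ Φ₀.Sing e' ∧
      Φ₀.B e e' = 0 ∧ e' ∉ F₀ ∙ e ∧ z (j e) = j e ∧ z (j e') = j e' := by
  haveI := h.fin
  have h1 : LinearMap.range (z₀ - 1) ≤ LinearMap.ker (z₀ - 1) := by
    rintro _ ⟨v, rfl⟩
    refine h.inj ?_
    simp only [LinearMap.sub_apply, Module.End.one_apply, map_sub, ← hz, ← LinearEquiv.mul_apply, hz2, map_zero]
    change j v - z (j v) - (z (j v) - j v) = 0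
    rw [← zero_smul F (j v - z (j v)), ← h2]; module
  have h3 := Submodule.finrank_mono h1
  have h4 := (z₀ - 1).finrank_range_add_finrank_ker
  have := h.dim
  obtain ⟨e, he, he0, hs, -⟩ := exists_sing_pf Φ₀ ![] (U := LinearMap.ker (z₀ - 1)) (R := ⊥) (by
    rw [finrank_bot]; omega)
  obtain ⟨e', he', n, hs', b⟩ := exists_sing_pf Φ₀ ![e] (U := LinearMap.ker (z₀ - 1)) (R := F₀ ∙ e) (by
    have := finrank_span_one (F := F₀) e; omega)
  exact ⟨e, e', by simpa using he0, hs, hs', b 0, n, by rw [hz, sub_eq_zero.1 he]; rfl,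
    by rw [hz, sub_eq_zero.1 he']; rfl⟩

omit [Finite F] [Finite V] [FiniteDimensional F V] in
theorem exists_moved (h : Rt Φ₀ Φ j) (h2 : (2 : F) = 0) (hR : NoRefl Φ) {z : V ≃ₗ[F] V} (hz2 : z * z = 1)
    (hz1 : z ≠ 1) (hzE : z ∈ EG Φ) {z₀ : V₀ →ₗ[F₀] V₀} (hz : ∀ v, z (j v) = j (z₀ v)) :
    ∃ p, p ≠ 0 ∧ Φ₀.Sing p ∧ ∃ v, j p = z v - v := by
  have hi := EG_le_isom hzE
  have sp : ∀ S : Submodule F V, (∀ v, z (j v) - j v ∈ S) → ∀ v, z v - v ∈ S := fun S hS v => by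
    have : Submodule.span F (Set.range j) ≤ S.comap ((z : V →ₗ[F] V) - 1) :=
      Submodule.span_le.2 (by rintro _ ⟨w, rfl⟩; exact hS w)
    exact this (h.span ▸ Submodule.mem_top)
  have hj : ∀ v, j (z₀ v - v) = z (j v) - j v := fun v => by rw [map_sub, hz]
  have iso : ∀ v w, Φ₀.B (z₀ v - v) (z₀ w - w) = 0 := fun v w => (f).injective (by
    rw [← h.hB, hj, hj, map_zero, Φ.B_sub_left, map_sub, map_sub, hi.1, ← hi.1 (j v) (z (j w)),
      ← LinearEquiv.mul_apply, hz2, LinearEquiv.coe_one, id]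
    linear_combination (Φ.B (j v) (j w) - Φ.B (z (j v)) (j w)) * h2)
  obtain ⟨v, hv⟩ : ∃ v, z₀ v - v ≠ 0 := by
    by_contra! hc
    exact hz1 (LinearEquiv.ext fun v => sub_eq_zero.1 (sp ⊥ (fun v => by simp [← hj, hc]) v))
  by_cases hQ : Φ₀.Q (z₀ v - v) = 0
  · exact ⟨_, hv, ⟨hQ, iso v v⟩, _, hj v⟩
  obtain ⟨w, hw⟩ : ∃ w, z₀ w - w ∉ F₀ ∙ (z₀ v - v) := by
    by_contra! hc
    refine hQ ((f).injective ?_)
    rw [← h.hQ, hj, map_zero]
    refine hR z hzE (j (z₀ v - v)) (sp _ fun w => ?_) _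
    obtain ⟨c, hc⟩ := Submodule.mem_span_singleton.1 (hc w)
    rw [← hj, ← hc, map_smulₛₗ]
    exact Submodule.smul_mem _ _ (Submodule.mem_span_singleton_self _)
  have h20 : (2 : F₀) = 0 := (f).injective (by rw [map_ofNat, h2, map_zero])
  haveI : CharP F₀ 2 := CharTwo.of_one_ne_zero_of_two_eq_zero one_ne_zero h20
  obtain ⟨κ, hκ⟩ := FiniteField.isSquare_of_char_two (ringChar.eq F₀ 2) (Φ₀.Q (z₀ w - w) / Φ₀.Q (z₀ v - v))
  have e : z₀ (w + κ • v) - (w + κ • v) = (z₀ w - w) + κ • (z₀ v - v) := by simp only [map_add, map_smul]; module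
  refine ⟨_, fun h0 => hw ?_, ⟨?_, iso (w + κ • v) _⟩, _, hj _⟩
  · rw [e, add_eq_zero_iff_eq_neg] at h0
    rw [h0]; exact neg_mem (Submodule.smul_mem _ _ (Submodule.mem_span_singleton_self _))
  · rw [e, Φ₀.Q_add, Φ₀.Q_smul, Φ₀.B_smul_right, iso, ← hκ, div_mul_cancel₀ _ hQ]
    linear_combination Φ₀.Q (z₀ w - w) * h20

theorem mem_of_two (h : Rt Φ₀ Φ j) (hX : Ov Φ j X) (hXE : X ≤ EG Φ) (hS : Small Φ₀ Φ j X) (h2 : (2 : F) = 0)
    (hsq : ∀ x : F, x ^ 2 ∈ (f).fieldRange → x ∈ (f).fieldRange) (hR : NoRefl Φ)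
    {g : V ≃ₗ[F] V} (hg : g ∈ X) : g ∈ ratG F (Set.range j) := by
  haveI := h.fin
  haveI : Finite (V ≃ₗ[F] V) := Finite.of_injective _ DFunLike.coe_injective
  have hd := h.dim
  obtain ⟨e₁, e₂, he0, s1, s2, n2, b12⟩ := h.exists_pl
  have r1 := finrank_span_one (F := F₀) e₁
  have r2 := finrank_sup_one (F₀ ∙ e₁) e₂
  obtain ⟨e₃, -, n3, s3, b3⟩ := exists_sing_pf Φ₀ ![e₁, e₂] (U := ⊤) (R := (F₀ ∙ e₁) ⊔ F₀ ∙ e₂) (by
    rw [finrank_top]; omega)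
  have r3 := finrank_sup_one ((F₀ ∙ e₁) ⊔ F₀ ∙ e₂) e₃
  obtain ⟨e₄, -, n4, s4, b4⟩ := exists_sing_pf Φ₀ ![e₁, e₂, e₃] (U := ⊤)
    (R := ((F₀ ∙ e₁) ⊔ F₀ ∙ e₂) ⊔ F₀ ∙ e₃) (by rw [finrank_top]; omega)
  have dual : ∀ a b c d : V₀, a ∉ ((F₀ ∙ b) ⊔ F₀ ∙ c) ⊔ F₀ ∙ d → ∃ t, Φ.B (j a) t = 1 ∧ Φ.B (j b) t = 0 ∧
      Φ.B (j c) t = 0 ∧ Φ.B (j d) t = 0 := fun a b c d n => by
    obtain ⟨t, ht, e⟩ := h.hn₀.exists_perp_eq_one' n
    simp only [Φ₀.perp_sup, Submodule.mem_inf, Φ₀.mem_perp_span_singleton] at ht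
    exact ⟨j t, h.B_one e, h.B_zero ht.1.1, h.B_zero ht.1.2, h.B_zero ht.2⟩
  obtain ⟨t₄, d44, d41, d42, d43⟩ := dual _ _ _ _ n4
  obtain ⟨t₃, d33, d31, d32, d34⟩ := dual e₃ e₁ e₂ e₄ fun hc => n4 (exch hc n3)
  obtain ⟨t₂, d22, d21, d23, d24⟩ := dual e₂ e₁ e₃ e₄ fun hc => n4 (sup_right_comm (F₀ ∙ e₁) _ _ ▸
    exch hc fun hc => n3 (exch hc n2))
  obtain ⟨t₁, d11, d12, d13, d14⟩ := dual e₁ e₂ e₃ e₄ fun hc => n4 (by
    rw [sup_comm (F₀ ∙ e₁), sup_right_comm]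
    exact exch hc fun hc => n3 (sup_comm (F₀ ∙ e₁) _ ▸ exch hc (notMem_symm n2 he0)))
  obtain ⟨a, haX, ha⟩ := h.hasE0 hX s1 s2 b12
  obtain ⟨a', haX', ha'⟩ := h.hasE0 hX s3 s4 (b4 2)
  have sq : ∀ {p q : V} {a}, IsE Φ p q 0 a → a * a = 1 := fun {p q a} ha =>
    ((ha.mul ha).congr (by rw [← two_smul F, h2, zero_smul]) (by rw [← ha.hB]; simp)).ext (isE_one ha.sp)
  have c13 : Φ.B (j e₁) (j e₃) = 0 := h.B_zero (b3 0)
  have c23 : Φ.B (j e₂) (j e₃) = 0 := h.B_zero (b3 1)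
  have c14 : Φ.B (j e₁) (j e₄) = 0 := h.B_zero (b4 0)
  have c24 : Φ.B (j e₂) (j e₄) = 0 := h.B_zero (b4 1)
  have c31 := Φ.B_eq_zero_symm c13
  have c32 := Φ.B_eq_zero_symm c23
  have c41 := Φ.B_eq_zero_symm c14
  have c42 := Φ.B_eq_zero_symm c24
  have hb : ∀ v, (a * a') v = a v + a' v - v := fun v => by
    rw [LinearEquiv.mul_apply, ha.app, ha.app, ha'.app]; simp [c13, c23, c14, c24]; abel
  have hc : Commute a a' := LinearEquiv.ext fun v => by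
    rw [hb, LinearEquiv.mul_apply, ha'.app, ha.app, ha'.app]; simp [c31, c32, c41, c42]; abel
  have hb2 : a * a' * (a * a') = 1 := by
    rw [mul_assoc, ← mul_assoc a', ← hc.eq, mul_assoc, sq ha', mul_one, sq ha]
  have key : ∀ s z : V ≃ₗ[F] V, z ∈ X → Commute z s → (∀ v, Φ.B (s v - v) (j e₁) = 0) →
      s t₂ - t₂ = j e₁ → s t₁ - t₁ = -(Φ.ε • j e₂) → z ∈ ratG F (Set.range j) := fun s z hz hc k0 k1 k2 => by
    have hc : ∀ v, z (s v) = s (z v) := fun v => DFunLike.congr_fun hc.eq v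
    refine h.mem_of_plane hX hS hz he0 s1 s2 b12 n2 he0 s1 (by rw [← k0 (z t₂), ← hc, ← map_sub z, k1]) ?_
    have := k0 (z t₁)
    rw [← hc, ← map_sub z, k2] at this
    simpa [Φ.ε_ne_zero] using this
  rcases dihedral_trick haX (X.mul_mem (X.mul_mem hg (X.mul_mem haX haX')) (X.inv_mem hg)) (sq ha)
    (by rw [conj_mul, hb2]; simp) with ⟨y, -, hy⟩ | ⟨z, hzX, hz1, hz2, k1, k2, -⟩
  · exfalso
    obtain ⟨k, hk⟩ : ∃ k, a * a' = k * a * k⁻¹ := ⟨g⁻¹ * y, by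
      rw [mul_assoc g⁻¹, mul_assoc g⁻¹, _root_.mul_inv_rev, ← mul_assoc (y * a), hy]; group⟩
    have hS : ∀ v, (a * a') v - v ∈ (F ∙ k (j e₁)) ⊔ F ∙ k (j e₂) := fun v => by
      rw [hk, LinearEquiv.mul_apply, LinearEquiv.mul_apply, ha.app]
      simp only [map_sub, map_add, map_smul, LinearEquiv.coe_inv, LinearEquiv.apply_symm_apply]
      rw [sub_right_comm, add_sub_cancel_left]
      exact sub_mem (Submodule.mem_sup_left (Submodule.smul_mem _ _ (Submodule.mem_span_singleton_self _)))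
        (Submodule.smul_mem _ _ (mem_sup_self _ _))
    have q1 := finrank_sup_one (F ∙ k (j e₁)) (k (j e₂))
    have q2 := finrank_span_one (F := F) (k (j e₁))
    have q3 := finrank_lt_sup (S := (⊥ : Submodule F V)) (x := j e₁) (h.ne he0)
    have q4 := finrank_lt_sup (S := ⊥ ⊔ F ∙ j e₁) (x := j e₂) (by simpa using h.notMem n2)
    have q5 := finrank_lt_sup (S := (⊥ ⊔ F ∙ j e₁) ⊔ F ∙ j e₂) (x := j e₃) fun hc => by
      have : t₃ ∈ Φ.perp ((⊥ ⊔ F ∙ j e₁) ⊔ F ∙ j e₂) := by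
        simp [Φ.perp_sup, Φ.mem_perp_span_singleton, d31, d32]
      exact one_ne_zero (d33.symm.trans (this _ hc))
    have q6 : ((⊥ ⊔ F ∙ j e₁) ⊔ F ∙ j e₂) ⊔ F ∙ j e₃ ≤ (F ∙ k (j e₁)) ⊔ F ∙ k (j e₂) := by
      simp only [sup_le_iff, bot_le, Submodule.span_singleton_le_iff_mem, true_and]
      refine ⟨⟨?_, (Submodule.smul_mem_iff _ (neg_ne_zero.2 Φ.ε_ne_zero)).1 ?_⟩, ?_⟩
      · simpa [hb, ha.app, ha'.app, d22, d21, d23, d24] using hS t₂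
      · simpa [hb, ha.app, ha'.app, d11, d12, d13, d14] using hS t₁
      · simpa [hb, ha.app, ha'.app, d44, d41, d42, d43] using hS t₄
    have := Submodule.finrank_mono q6
    omega
  have c11 := ha.sp.2
  have c21 := ha.ap
  have m1 := key a z hzX k1 (fun v => by simp [ha.app, c11, c21]) (by simp [ha.app, d22, d21])
    (by simp [ha.app, d11, d12])
  have m2 := key (a * a') (g⁻¹ * z * g) (X.mul_mem (X.mul_mem (X.inv_mem hg) hzX) hg)
    (by simpa [mul_assoc] using (Commute.conj_iff g⁻¹).2 k2)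
    (fun v => by simp [hb, ha.app, ha'.app, c11, c21, c31, c41]) (by simp [hb, ha.app, ha'.app, d22, d21, d23, d24])
    (by simp [hb, ha.app, ha'.app, d11, d12, d13, d14])
  have hz2' : g⁻¹ * z * g * (g⁻¹ * z * g) = 1 := by simp [mul_assoc, ← mul_assoc z, hz2]
  obtain ⟨z₀, hz₀⟩ := h.exists_lin hsq m1 hz2
  obtain ⟨z₁, hz₁⟩ := h.exists_lin hsq m2 hz2'
  obtain ⟨p, hp0, hp, v, hv⟩ := h.exists_moved h2 hR hz2 hz1 (hXE hzX) hz₀
  obtain ⟨e, e', f0, f1, f2, f3, f4, f5, f6⟩ := h.exists_fixed h2 hz2' hz₁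
  have fin : ∀ x, (g⁻¹ * z * g) x = x → Φ.B (g x) (j p) = 0 := fun x hx => by
    have : z (g x) = g x := by simpa using congrArg g hx
    rw [hv, map_sub, ← this, (hX.isom hzX).1, this, sub_self]
  exact h.mem_of_plane hX hS hg f0 f1 f2 f3 f4 hp0 hp (fin _ f5) (fin _ f6)

/-- Maximality of subfield subgroups. -/
theorem isMaximalIn (h : Rt Φ₀ Φ j) (hne : ∃ c, c ∉ (f).fieldRange)
    (hmax : ∀ R : Subring F, (∀ c, f c ∈ R) → R = ⊤ ∨ ∀ c ∈ R, c ∈ (f).fieldRange)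
    (hc : ∀ X, Ov Φ j X → X ≤ EG Φ → Small Φ₀ Φ j X → X ≤ ratG F (Set.range j)) :
    Geo.IsMaximalIn (EG Φ) (ratG F (Set.range j) ⊓ EG Φ) := by
  haveI := h.fin
  have ov : ∀ X, ratG F (Set.range j) ⊓ EG Φ ≤ X → X ≤ EG Φ → Ov Φ j X := fun X h1 h2 =>
    ⟨fun p a d g hg => h1 ⟨mem_ratG.2 ⟨1, one_ne_zero, by
      rintro _ ⟨v, rfl⟩; exact ⟨_, by rw [one_smul, h.app hg]⟩⟩, IsE_mem_EG hg⟩, h2.trans EG_le_isom⟩
  refine max_crit inf_le_right ?_ fun X h1 h2 g hg hg' => (h.le_or_small (ov X h1 h2) hmax).resolve_right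
    fun hS => hg' ⟨hc X (ov X h1 h2) h2 hS hg, h2 hg⟩
  obtain ⟨c, hc⟩ := hne
  obtain ⟨u, w, h0, hu, hw, n, e⟩ := h.exists_pl
  obtain ⟨g, hg⟩ := exists_isE0 h.hn (h.sing.2 hu) ((h.sing.2 hw).smul c) (by simp [h.B_zero e])
  refine ⟨g, IsE_mem_EG hg, fun hm => hc ?_⟩
  obtain ⟨l, hl, hm⟩ := mem_ratG.1 hm.1
  obtain ⟨t, t1, t2⟩ := exists_dual1 h.hn₀ n
  obtain ⟨u', hu'⟩ := hm _ ⟨u, rfl⟩
  obtain ⟨l, rfl⟩ := h.smul_rat h0 (by rw [hu', hg.apply_p])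
  obtain ⟨t', ht'⟩ := hm _ ⟨t, rfl⟩
  refine h.σ_mem (h.smul_rat h0 (u' := l⁻¹ • t' - t) ?_)
  rw [map_sub, map_smulₛₗ, ht', map_inv₀, inv_smul_smul₀ hl, hg.apply_perp (h.B_zero t2), Φ.B_smul_left,
    h.B_one t1]
  simp

end Rt

end Cfsg.Agent.Root.Mx
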