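import Cfsg.Agent.Root.Sub3
import Cfsg.Agent.Asch.Descent

/-! Subfield subgroups of classical groups, IV: scaling forms (`scale`), the rational structure of a
matrix `P` (`jP`, `mem_subfieldSubgroup_iff`), subfields of prime index, and the matrix form
`isMaximalIn_sub` of the maximality theorem. -/

set_option autoImplicit false

namespace Cfsg.Agent.Root.Mx

open Cfsg.Agent.Geom Cfsg.Agent.AutCl Module Matrix

variable {F : Type*} [Field F] {σ : F →+* F} {V : Type*} [AddCommGroup V] [Module F V]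

/-- The form `ζ Φ`, where `σ ζ = η ζ`. -/
def scale (Φ : Formed σ V) (ζ η : F) (h1 : η * η = 1) (h2 : σ η = η) (h3 : σ ζ = η * ζ)
    (h4 : Φ.τ * η = Φ.τ) : Formed σ V where
  B := LinearMap.mk₂'ₛₗ σ (RingHom.id F) (fun x y => ζ * Φ.B x y) (by simp [mul_add])
    (by simp [mul_left_comm]) (by simp [mul_add]) (by simp [mul_left_comm])
  Q := fun x => ζ * Φ.Q x
  ε := η * Φ.ε
  τ := Φ.τ
  σσ := Φ.σσ
  εε := by linear_combination Φ.ε * Φ.ε * h1 + Φ.εε
  σε := by rw [map_mul, h2, Φ.σε]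
  symm := fun x y => by
    simp only [LinearMap.mk₂'ₛₗ_apply, map_mul, h3]
    rw [Φ.symm x y]; linear_combination -ζ * Φ.ε * σ (Φ.B x y) * h1
  Q_add := fun x y => by simp only [LinearMap.mk₂'ₛₗ_apply, Φ.Q_add]; ring
  Q_smul := fun c x => by rw [Φ.Q_smul]; ring
  τσ := Φ.τσ
  τε := by rw [← mul_assoc, h4, Φ.τε]
  trace := fun x => by
    obtain ⟨d, e1, e2⟩ := Φ.trace x
    refine ⟨η * ζ * d, by rw [← e1]; linear_combination ζ * d * h4, ?_⟩
    simp only [LinearMap.mk₂'ₛₗ_apply, map_mul, h2, h3]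
    linear_combination ζ * e2 + (ζ * d * Φ.ε + ζ * σ d) * h1

section Scale
variable {Φ : Formed σ V} {ζ η : F} {h1 : η * η = 1} {h2 : σ η = η} {h3 : σ ζ = η * ζ} {h4 : Φ.τ * η = Φ.τ}

theorem scale_B (x y : V) : (scale Φ ζ η h1 h2 h3 h4).B x y = ζ * Φ.B x y := rfl

theorem scale_nondeg (hζ : ζ ≠ 0) (hn : Φ.Nondeg) : (scale Φ ζ η h1 h2 h3 h4).Nondeg := fun x hx =>
  hn x fun y => by simpa [scale_B, hζ] using hx y

theorem isE_scale (hζ : ζ ≠ 0) {p a : V} {d : F} {g : V ≃ₗ[F] V} :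
    IsE (scale Φ ζ η h1 h2 h3 h4) p a d g ↔ IsE Φ p ((η * ζ) • a) (d * ζ) g := by
  have e : σ (η * ζ) = ζ := by rw [map_mul, h2, h3, ← mul_assoc, h1, one_mul]
  have hη : η ≠ 0 := left_ne_zero_of_mul_eq_one h1
  constructor <;> rintro ⟨⟨s1, s2⟩, pa, hQ, hB, app⟩
  · simp only [scale, LinearMap.mk₂'ₛₗ_apply, mul_eq_zero, hζ, false_or] at s1 s2 pa hQ hB app
    refine ⟨⟨s1, s2⟩, by simp [pa], ?_, ?_, fun x => ?_⟩
    · rw [Φ.Q_smul]; linear_combination ζ * hQ - ζ ^ 2 * Φ.Q a * h1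
    · rw [Φ.B_smul_left, Φ.B_smul_right, e, map_mul, h3]
      linear_combination η * ζ * hB - Φ.ε * d * ζ * h1
    · rw [app, Φ.B_smul_left, e]; module
  · rw [Φ.B_smul_left, Φ.B_smul_right, e, map_mul, h3] at hB
    rw [Φ.Q_smul] at hQ
    refine ⟨⟨by simp [scale, s1], by simp [scale, s2]⟩, by simpa [scale, hζ, hη] using pa,
      mul_left_cancel₀ hζ ?_, mul_left_cancel₀ hζ ?_, fun x => ?_⟩ <;>
      simp only [scale, LinearMap.mk₂'ₛₗ_apply]
    · linear_combination hQ + ζ ^ 2 * Φ.Q a * h1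
    · linear_combination η * hB + (ζ ^ 2 * Φ.B a a - ζ * σ d) * h1
    · rw [app, Φ.B_smul_left, e]; module

theorem EG_scale (hζ : ζ ≠ 0) : EG (scale Φ ζ η h1 h2 h3 h4) = EG Φ := by
  have hη : η ≠ 0 := left_ne_zero_of_mul_eq_one h1
  refine le_antisymm (EG_le fun p a d g h => IsE_mem_EG ((isE_scale hζ).1 h)) (EG_le fun p a d g h =>
    IsE_mem_EG ((isE_scale hζ (a := (η * ζ)⁻¹ • a) (d := d / ζ)).2 (h.congr ?_ ?_)))
  · rw [smul_inv_smul₀ (mul_ne_zero hη hζ)]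
  · rw [div_mul_cancel₀ _ hζ]

theorem NoRefl.scale (hζ : ζ ≠ 0) (h : NoRefl Φ) : NoRefl (scale Φ ζ η h1 h2 h3 h4) := fun z hz p hp v => by
  rw [EG_scale hζ] at hz
  simp [Mx.scale, h z hz p hp v]

end Scale

theorem noRefl_of_τ {Φ : Formed σ V} (h : Φ.τ = 0) : NoRefl Φ := fun z _ _ _ v => by
  obtain ⟨d, hd, -⟩ := Φ.trace (z v - v)
  rw [← hd, h, zero_mul]

theorem noRefl_quad [Finite F] [FiniteDimensional F V] {Q : QuadraticForm F V}
    (hQ : (Formed.ofQuad Q).Nondeg) (hn : 5 ≤ finrank F V) : NoRefl (Formed.ofQuad Q) := fun z hz p hp v => by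
  have h1 := dick_eq_one_iff.1 ((mem_commutator_iff hQ (notExc_of_finrank (by omega)) _).1
    ((mem_EG_quad hQ hn (g := ⟨z, EG_le_isom hz⟩)).1 hz)).1
  have h2 : finrank F (mov z) ≤ 1 := (Submodule.finrank_mono (by
    rintro _ ⟨x, rfl⟩; simpa using neg_mem (hp x))).trans (finrank_span_one p)
  have h3 : mov z = ⊥ := Submodule.finrank_eq_zero.1 (by
    obtain ⟨k, hk⟩ := h1; change finrank F (mov z) = _ at hk; omega)
  have : v - z v ∈ mov z := ⟨v, rfl⟩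
  rw [h3, Submodule.mem_bot, sub_eq_zero] at this
  simp [← this]

theorem mem_fieldRange {F₀ : Subfield F} {x : F} : x ∈ (algebraMap F₀ F).fieldRange ↔ x ∈ F₀ :=
  ⟨fun ⟨y, hy⟩ => hy ▸ y.2, fun h => ⟨⟨x, h⟩, rfl⟩⟩

theorem exists_pull {Φ : Formed σ V} {F₀ : Subfield F} {V₀ : Type*} [AddCommGroup V₀] [Module F₀ V₀]
    (j : V₀ →ₛₗ[algebraMap F₀ F] V) (hσ : ∀ x ∈ F₀, σ x ∈ F₀) (hB : ∀ x y, Φ.B (j x) (j y) ∈ F₀)
    (hτ : Φ.τ ∈ F₀) (htr : ∀ x, ∃ d ∈ F₀, Φ.τ * d = Φ.Q (j x) ∧ Φ.ε * d + σ d = Φ.B (j x) (j x))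
    (hn : Φ.Nondeg) (hj : Function.Injective j) (hs : Submodule.span F (Set.range j) = ⊤)
    (hd : 13 ≤ finrank F₀ V₀) : ∃ (σ₀ : F₀ →+* F₀) (Φ₀ : Formed σ₀ V₀), Rt Φ₀ Φ j := by
  have hε : Φ.ε ∈ F₀ := by
    rcases mul_self_eq_one_iff.1 Φ.εε with h | h <;> rw [h]
    exacts [one_mem _, neg_mem (one_mem _)]
  have hQ : ∀ x, Φ.Q (j x) ∈ F₀ := fun x => by
    obtain ⟨d, hd, e, -⟩ := htr x
    exact e ▸ mul_mem hτ hd
  let σ₀ : F₀ →+* F₀ := (σ.comp F₀.subtype).codRestrict F₀ fun x => hσ _ x.2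
  have hj' : ∀ (c : F₀) x, j (c • x) = (c : F) • j x := fun c x => map_smulₛₗ j c x
  let Φ₀ : Formed σ₀ V₀ :=
    { B := LinearMap.mk₂'ₛₗ σ₀ (RingHom.id F₀) (fun x y => ⟨_, hB x y⟩)
        (fun x y z => Subtype.ext (by simp)) (fun c x y => Subtype.ext (by simp [hj', σ₀]))
        (fun x y z => Subtype.ext (by simp)) (fun c x y => Subtype.ext (by simp [hj']))
      Q := fun x => ⟨_, hQ x⟩
      ε := ⟨_, hε⟩
      τ := ⟨_, hτ⟩
      σσ := fun a => Subtype.ext (Φ.σσ a)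
      εε := Subtype.ext Φ.εε
      σε := Subtype.ext Φ.σε
      symm := fun x y => Subtype.ext (Φ.symm _ _)
      Q_add := fun x y => Subtype.ext (by simpa using Φ.Q_add (j x) (j y))
      Q_smul := fun c x => Subtype.ext (by simpa [hj'] using Φ.Q_smul c (j x))
      τσ := fun a => Subtype.ext (Φ.τσ a)
      τε := Subtype.ext Φ.τε
      trace := fun x => by
        obtain ⟨d, hd, e1, e2⟩ := htr x
        exact ⟨⟨d, hd⟩, Subtype.ext e1, Subtype.ext e2⟩ }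
  refine ⟨σ₀, Φ₀, hn, fun x hx => hj ((hn _ fun y => ?_).trans (map_zero j).symm), fun _ _ => rfl,
    fun _ => rfl, fun _ => rfl, rfl, rfl, hs, hd⟩
  have : Submodule.span F (Set.range j) ≤ LinearMap.ker (Φ.B (j x)) :=
    Submodule.span_le.2 (by rintro _ ⟨w, rfl⟩; exact congrArg Subtype.val (hx w))
  exact this (hs ▸ Submodule.mem_top)

section Arith
variable [Finite F] {F₀ : Subfield F} {r : ℕ}

theorem finrank_of_card (h : Nat.card F = Nat.card F₀ ^ r) : finrank F₀ F = r :=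
  Nat.pow_right_injective (Asch.two_le_natCard F₀) ((Asch.card_eq_pow_subfield F₀).symm.trans h)

theorem σ_mem_subfield (F₀ : Subfield F) (σ : F →+* F) (x : F) (hx : x ∈ F₀) : σ x ∈ F₀ := by
  rw [Asch.mem_subfield_iff] at hx ⊢
  rw [← map_pow, hx]

theorem subring_of_prime (hr : r.Prime) (h : Nat.card F = Nat.card F₀ ^ r) (R : Subring F)
    (hR : ∀ c : F₀, algebraMap F₀ F c ∈ R) : R = ⊤ ∨ ∀ c ∈ R, c ∈ (algebraMap F₀ F).fieldRange := by
  rcases (Subalgebra.isSimpleOrder_of_finrank_prime F₀ F (finrank_of_card h ▸ hr)).eq_bot_or_eq_top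
    { R with algebraMap_mem' := hR } with e | e
  · exact Or.inr fun c hc => Algebra.mem_bot.1 (e.le hc)
  · exact Or.inl (top_le_iff.1 fun c _ => e.ge Algebra.mem_top)

open Polynomial in
theorem mem_of_quad (hr : Odd r) (h : Nat.card F = Nat.card F₀ ^ r) {x a b : F} (ha : a ∈ F₀) (hb : b ∈ F₀)
    (e : x ^ 2 + a * x + b = 0) : x ∈ F₀ := by
  have hi : IsIntegral F₀ x := Algebra.IsIntegral.isIntegral x
  have h1 := minpoly.degree_dvd hi
  have h2 : (minpoly F₀ x).natDegree ≤ 2 := natDegree_le_iff_degree_le.2 ((minpoly.min F₀ x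
    (p := X ^ 2 + C ⟨a, ha⟩ * X + C ⟨b, hb⟩) (by monicity!) (by simp; exact e)).trans (by compute_degree!))
  have h3 := minpoly.natDegree_pos hi
  rw [finrank_of_card h] at h1
  refine mem_fieldRange.1 (minpoly.natDegree_eq_one_iff.1 (by_contra fun hc => ?_))
  rw [show (minpoly F₀ x).natDegree = 2 by omega] at h1
  exact (Nat.not_even_iff_odd.2 hr) (even_iff_two_dvd.2 h1)

theorem exists_σ_ne (hr : Odd r) (h : Nat.card F = Nat.card F₀ ^ r) (hσ : σ ≠ RingHom.id F)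
    (hσσ : ∀ a, σ (σ a) = a) : ∃ κ ∈ F₀, σ κ ≠ κ := by
  by_contra! hc
  obtain ⟨x, hx⟩ : ∃ x, σ x ≠ x := by_contra fun hx => hσ (RingHom.ext (by simpa using hx))
  let σ' : F ≃+* F := RingEquiv.ofBijective σ (Finite.injective_iff_bijective.1 σ.injective)
  have h1 := Asch.card_of_invol (σ := σ') hσσ ⟨x, hx⟩
  letI : Algebra F₀ (Asch.fixF σ') := (Subfield.inclusion (S := F₀) (T := Asch.fixF σ') hc).toAlgebra
  haveI : IsScalarTower F₀ (Asch.fixF σ') F := IsScalarTower.of_algebraMap_eq fun _ => rfl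
  have := Module.finrank_mul_finrank F₀ (Asch.fixF σ') F
  rw [finrank_of_card h, finrank_of_card h1] at this
  exact (Nat.not_even_iff_odd.2 hr) (this ▸ even_two.mul_left _)

end Arith

section Mat
variable {ι : Type} [Fintype ι] [DecidableEq ι]

/-- The rational structure spanned by the columns of `P`. -/
def jP (F₀ : Subfield F) (P : GL ι F) : (ι → F₀) →ₛₗ[algebraMap F₀ F] (ι → F) where
  toFun u := (P : Matrix ι ι F) *ᵥ fun i => (u i : F)
  map_add' u v := by rw [← mulVec_add]; rfl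
  map_smul' c u := by rw [← mulVec_smul]; rfl

variable {F₀ : Subfield F} {P : GL ι F}

theorem mem_range_jP {v : ι → F} : v ∈ Set.range (jP F₀ P) ↔
    ∀ i, (((P⁻¹ : GL ι F) : Matrix ι ι F) *ᵥ v) i ∈ F₀ := by
  constructor
  · rintro ⟨u, rfl⟩ i
    simp [jP]
  · exact fun h => ⟨fun i => ⟨_, h i⟩, by simp [jP]⟩

theorem jP_inj : Function.Injective (jP F₀ P) := fun u v h =>
  funext fun i => Subtype.ext (congrFun ((glEquiv ι F P).injective h) i)

theorem jP_single (i : ι) : jP F₀ P (Pi.single i 1) = (P : Matrix ι ι F) *ᵥ Pi.single i 1 := by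
  refine congrArg ((P : Matrix ι ι F) *ᵥ ·) (funext fun k => ?_)
  by_cases h : k = i <;> simp [h]

theorem jP_span : Submodule.span F (Set.range (jP F₀ P)) = ⊤ := top_le_iff.1 fun v _ => by
  obtain ⟨v, rfl⟩ := (glEquiv ι F P).surjective v
  rw [pi_eq_sum_univ' v, map_sum]
  exact Submodule.sum_mem _ fun i _ => by
    rw [map_smul]; exact Submodule.smul_mem _ _ (Submodule.subset_span ⟨_, jP_single i⟩)

theorem mem_subfieldSubgroup_iff [Finite F] {g : GL ι F} :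
    g ∈ Geo.subfieldSubgroup F₀ P ↔ glEquiv ι F g ∈ ratG F (Set.range (jP F₀ P)) := by
  rw [Asch.mem_subfieldSubgroup, mem_ratG]
  refine exists_congr fun c => and_congr_right fun _ => ⟨fun h => ?_, fun h i k => ?_⟩
  · rintro _ ⟨u, rfl⟩
    refine mem_range_jP.2 fun i => ?_
    have : ((P⁻¹ : GL ι F) : Matrix ι ι F) *ᵥ (c • glEquiv ι F g (jP F₀ P u)) =
        (c • Asch.cj P⁻¹ (g : Matrix ι ι F)) *ᵥ fun i => (u i : F) := by
      simp [jP, Asch.cj, mulVec_smul, smul_mulVec, mul_assoc]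
    rw [this]
    exact sum_mem fun k _ => mul_mem (h i k) (u k).2
  · have := mem_range_jP.1 (h _ ⟨Pi.single k 1, rfl⟩) i
    rw [jP_single, glEquiv_apply, mulVec_smul, mulVec_mulVec, mulVec_mulVec, mulVec_single_one] at this
    simpa [Asch.cj] using this

theorem isMaximalIn_sub [Fintype F] {Φ : Formed σ (ι → F)} (hn : Φ.Nondeg) (h13 : 13 ≤ Fintype.card ι)
    {r : ℕ} (hr : r.Prime) (hc : Fintype.card F = Nat.card F₀ ^ r)
    (hB : ∀ x y, Φ.B (jP F₀ P x) (jP F₀ P y) ∈ F₀) (hτ : Φ.τ ∈ F₀)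
    (htr : ∀ x, ∃ d ∈ F₀, Φ.τ * d = Φ.Q (jP F₀ P x) ∧ Φ.ε * d + σ d = Φ.B (jP F₀ P x) (jP F₀ P x))
    (hR : NoRefl Φ) (hτ0 : Φ.τ = 0 ∨ (σ = RingHom.id F ∧ Φ.ε = 1)) :
    Geo.IsMaximalIn (EG Φ) (ratG F (Set.range (jP F₀ P)) ⊓ EG Φ) := by
  rw [← Nat.card_eq_fintype_card] at hc
  obtain ⟨σ₀, Φ₀, h⟩ := exists_pull (jP F₀ P) (σ_mem_subfield F₀ σ) hB hτ htr hn jP_inj jP_span (by simpa)
  refine h.isMaximalIn ?_ (subring_of_prime hr hc) fun X hX hXE hS g hg => ?_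
  · by_contra! hx
    exact Asch.ne_top_of_card_pow hr.two_le hc (top_le_iff.1 fun x _ => mem_fieldRange.1 (hx x))
  rcases hr.eq_two_or_odd' with rfl | ho
  · exact h.mem_of_deg hX hS (by rw [finrank_of_card hc]; omega) hg
  have hsq : ∀ x : F, x ^ 2 ∈ (algebraMap F₀ F).fieldRange → x ∈ (algebraMap F₀ F).fieldRange := fun x hx =>
    mem_fieldRange.2 (mem_of_quad ho hc (zero_mem _) (neg_mem (mem_fieldRange.1 hx)) (by ring))
  by_cases h2 : (2 : F) = 0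
  · exact h.mem_of_two hX hXE hS h2 hsq hR hg
  by_cases hσ : σ = RingHom.id F
  · subst hσ
    rcases mul_self_eq_one_iff.1 Φ.εε with hε | hε
    · exact h.mem_of_orth hX hS h2 hsq hε hg
    have hτ0 : Φ.τ = 0 := hτ0.resolve_right fun e => h2 (by linear_combination hε - e.2)
    refine h.mem_of_tv hX hS h2 hsq (d := 1) one_ne_zero ((algebraMap F₀ F).injective ?_)
      ((algebraMap F₀ F).injective ?_) (fun β hβ => hsq _ (by simpa [sq] using hβ 0)) hg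
    · simp [← h.hτ, hτ0]
    · simp [← h.hε, hε]
  have hτ0 : Φ.τ = 0 := hτ0.resolve_right fun e => hσ e.1
  obtain ⟨κ, hκ, hκ'⟩ := exists_σ_ne ho hc hσ Φ.σσ
  have hε := mem_fieldRange.1 h.ε_mem
  have hσκ := σ_mem_subfield F₀ σ κ hκ
  obtain ⟨d, hd, d0, d1⟩ : ∃ d ∈ F₀, d ≠ 0 ∧ Φ.ε * d + σ d = 0 := by
    rcases mul_self_eq_one_iff.1 Φ.εε with e | e
    · exact ⟨κ - σ κ, sub_mem hκ hσκ, sub_ne_zero.2 hκ'.symm, by simp [e, Φ.σσ]⟩
    · exact ⟨1, one_mem _, one_ne_zero, by simp [e]⟩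
  refine h.mem_of_tv hX hS h2 hsq (d := ⟨d, hd⟩) (fun e => d0 (congrArg Subtype.val e))
    ((algebraMap F₀ F).injective ?_) ((algebraMap F₀ F).injective ?_) (fun β hβ => ?_) hg
  · simp [← h.hτ, hτ0]
  · rw [map_add, map_mul, ← h.hε, ← h.hσ, map_zero]; exact d1
  · have a0 := mem_fieldRange.1 (hβ 0)
    have a1 := mem_fieldRange.1 (hβ 1)
    refine mem_fieldRange.2 (mem_of_quad ho hc (neg_mem (sub_mem (sub_mem a1 a0) (one_mem _))) a0 ?_)
    simp only [map_one, map_zero, add_zero, map_add]; ring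

end Mat

end Cfsg.Agent.Root.Mx
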